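import Mathlib
import Cfsg.Agent.H906.Cover_m3
import Cfsg.Agent.H637.JW
import Cfsg.Agent.H883.Bridge
import Cfsg.Agent.H882.Del.Dim
import Cfsg.Agent.H882.Del.DimEl
import Cfsg.Agent.H923.Ten.A7Grp
import Cfsg.Agent.H637.SevenA8_m3
import Cfsg.Agent.FastGrp
import Cfsg.Agent.Prune
set_option linter.all false

section
prune_inst 0x7ffffdffbbff7bffffff7fffffdedffdffbbbfffe6fff9cbffe069ffabdf7b92cdc56bad0bfab0fe1fd6e01454f87b43fbffeeffea6bdc7ffffd5ff41ffbfe1ffdf7b508519e8cb41fbe0ff703f0778e7f3fffffffffffffffffffffffffffbeffbfffffffff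

-- part: H879/TL/Adapt
section
prune_inst 0x4400840000008000000120000004000000000430000406000000840c00129040e001070000210b088807008004001000000420000000a000400001c0020808042041200a004060009800800000000000000000000000000000000000000000000000
set_option linter.all false
open scoped Cfsg.Agent.FastGrp

/-!
# From cores to representations over the algebraic closure (helper879)

* `scalars_bot_of_odd` : a core that fixes a quadratic form in odd dimension contains no scalars;
* `Core.no_trivial` : `P ≃ T` and every representation of `T` of degree `|ι|` over the algebraic closure is trivial: contradiction;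
* `Core.no_fixed` : the same if every such representation has a non-zero fixed vector.
-/

set_option autoImplicit false
set_option linter.unusedSectionVars false

namespace Cfsg.Agent.H879.TL

open Module Matrix Cfsg Cfsg.Geo Cfsg.Agent.H915.LD Cfsg.Agent.H637.JW

universe u v

variable {ι : Type} [Fintype ι] [DecidableEq ι] {F : Type u} [Field F] {P : Subgroup (GL ι F)}

theorem exists_ne_of_nondeg [Nonempty ι] {Q : (ι → F) → F} (hQ : IsNondegenerateQuadraticForm Q) : ∃ v, Q v ≠ 0 := by
  by_contra h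
  push Not at h
  obtain ⟨i⟩ := ‹Nonempty ι›
  have h1 : (Pi.single i 1 : ι → F) ≠ 0 := by
    intro h0
    have := congrFun h0 i
    rw [Pi.single_eq_same] at this
    exact one_ne_zero this
  obtain ⟨⟨x, hx⟩, _⟩ := hQ.nondegenerate _ h1
  apply hx
  rw [QuadraticMap.polar, h, h, h, sub_zero, sub_zero]

theorem scalars_bot_of_odd (hC : Core P) (hQ : FixQ P) (hodd : Odd (Fintype.card ι)) :
    (scalars ι F).subgroupOf P = ⊥ := by
  have := hC.nonempty
  obtain ⟨Q, hQ, hP⟩ := hQ
  rw [Subgroup.eq_bot_iff_forall]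
  intro z hz
  rw [Subgroup.mem_subgroupOf, mem_scalars_iff] at hz
  obtain ⟨c, hc⟩ := hz
  have h1 := hC.scalar_pow z.2 hc
  obtain ⟨v, hv⟩ := exists_ne_of_nondeg hQ
  have h2 : Q (((z : GL ι F) : Matrix ι ι F) *ᵥ v) = Q v := hP _ ⟨z, z.2, rfl⟩ v
  rw [hc, Matrix.smul_mulVec, Matrix.one_mulVec, hQ.smul] at h2
  have h3 : (c : F) ^ 2 = 1 := by
    have h4 : ((c : F) ^ 2 - 1) * Q v = 0 := by rw [sub_mul, h2, one_mul, sub_self]
    exact sub_eq_zero.1 ((mul_eq_zero.1 h4).resolve_right hv)
  obtain ⟨k, hk⟩ := hodd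
  rw [hk, pow_succ, pow_mul, h3, one_pow, one_mul] at h1
  apply Subtype.ext
  apply Units.ext
  rw [hc, h1, one_smul]
  rfl

/-- the isomorphism with the socle -/
noncomputable def socEquiv (hbot : (scalars ι F).subgroupOf P = ⊥) : P ≃* Soc P :=
  MulEquiv.ofBijective (toSoc P) ⟨by
    rw [← MonoidHom.ker_eq_bot_iff, ker_toSoc, hbot], toSoc_surjective P⟩

section Rep

variable (F ι) in
/-- matrices as endomorphisms over the algebraic closure -/
noncomputable def clo : GL ι F →* Module.End (AlgebraicClosure F) (ι → AlgebraicClosure F) :=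
  ((Matrix.toLinAlgEquiv' (R := AlgebraicClosure F) (n := ι)).toAlgHom.toRingHom.toMonoidHom).comp
    ((((algebraMap F (AlgebraicClosure F)).mapMatrix : Matrix ι ι F →+* Matrix ι ι (AlgebraicClosure F)) :
      Matrix ι ι F →* Matrix ι ι (AlgebraicClosure F)).comp (Units.coeHom (Matrix ι ι F)))

theorem clo_apply (g : GL ι F) (v : ι → AlgebraicClosure F) :
    clo ι F g v = ((g : Matrix ι ι F).map (algebraMap F (AlgebraicClosure F))) *ᵥ v := rfl

theorem clo_injective {g : GL ι F} (h : clo ι F g = 1) : g = 1 := by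
  apply Units.ext
  have h1 : ∀ i j, algebraMap F (AlgebraicClosure F) ((g : Matrix ι ι F) i j) = (1 : Matrix ι ι (AlgebraicClosure F)) i j := by
    have h2 : ∀ v, ((g : Matrix ι ι F).map (algebraMap F (AlgebraicClosure F))) *ᵥ v = v := by
      intro v
      rw [← clo_apply, h]; rfl
    intro i j
    have h3 := congrFun (h2 (Pi.single j 1)) i
    rw [Matrix.mulVec_single_one, Matrix.col_apply, Matrix.map_apply] at h3
    rw [h3, Pi.single_apply, Matrix.one_apply]
  ext i j
  apply (algebraMap F (AlgebraicClosure F)).injective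
  rw [h1, Units.val_one, Matrix.one_apply, Matrix.one_apply]
  split_ifs <;> simp

/-- A common fixed vector over the algebraic closure gives one over the ground field. -/
theorem exists_fixed (S : Set (GL ι F)) {v : ι → AlgebraicClosure F} (hv : v ≠ 0)
    (h : ∀ g ∈ S, clo ι F g v = v) : ∃ w : ι → F, w ≠ 0 ∧ ∀ g ∈ S, (g : Matrix ι ι F) *ᵥ w = w := by
  obtain ⟨i, hi⟩ : ∃ i, v i ≠ 0 := by
    by_contra hno
    push Not at hno
    exact hv (funext hno)
  obtain ⟨φ, hφ⟩ : ∃ φ : Module.Dual F (AlgebraicClosure F), φ (v i) ≠ 0 := by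
    by_contra hno
    push Not at hno
    exact hi ((Module.forall_dual_apply_eq_zero_iff F (v i)).1 hno)
  refine ⟨fun j => φ (v j), fun h0 => hφ (congrFun h0 i), fun g hg => ?_⟩
  funext j
  have h1 := congrFun (h g hg) j
  rw [clo_apply] at h1
  rw [← h1]
  simp only [mulVec, dotProduct, map_apply]
  rw [map_sum]
  refine Finset.sum_congr rfl fun k _ => ?_
  rw [← Algebra.smul_def, map_smul, smul_eq_mul]

theorem no_fixed_vector (hC : Core P) {w : ι → F} (hw : w ≠ 0) (h : ∀ g ∈ P, (g : Matrix ι ι F) *ᵥ w = w) : False := by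
  have h1 := hC.absIrred.1 (Submodule.span F {w}) (by
    rintro _ ⟨g, hg, rfl⟩
    rw [Submodule.map_span_le]
    intro x hx
    rw [Set.mem_singleton_iff] at hx
    subst hx
    rw [Matrix.toLin'_apply]
    exact Submodule.mem_span_singleton.2 ⟨1, by rw [one_smul]; exact (h g hg).symm⟩)
  rcases h1 with h1 | h1
  · exact hw ((Submodule.mem_bot F).1 (h1 ▸ Submodule.mem_span_singleton_self w))
  · have h2 := finrank_span_singleton (K := F) hw
    rw [h1, finrank_top, Module.finrank_fintype_fun_eq_card] at h2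
    have := hC.two_le
    omega

variable {T : Type v} [Group T]

/-- the representation of `T ≃ P` -/
noncomputable def repOf (e : P ≃* T) : T →* Module.End (AlgebraicClosure F) (ι → AlgebraicClosure F) :=
  ((clo ι F).comp P.subtype).comp e.symm.toMonoidHom

theorem repOf_apply (e : P ≃* T) (g : P) : repOf e (e g) = clo ι F g := by
  change clo ι F (e.symm (e g) : P) = _
  rw [e.symm_apply_apply]

/-- If all representations of `T` of this degree have a non-zero fixed vector, there is no core `P ≃ T`. -/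
theorem no_fixed (hC : Core P) (e : P ≃* T) (hT : ∃ v : ι → AlgebraicClosure F, v ≠ 0 ∧ ∀ g, repOf e g v = v) :
    False := by
  obtain ⟨v, hv, h⟩ := hT
  obtain ⟨w, hw, hw2⟩ := exists_fixed (P : Set (GL ι F)) hv (fun g hg => by
    rw [← repOf_apply e ⟨g, hg⟩]
    exact h _)
  exact no_fixed_vector hC hw hw2

/-- If all representations of `T` of this degree are trivial, there is no core `P ≃ T`. -/
theorem no_trivial (hC : Core P) (e : P ≃* T) (hT : ∀ g, repOf e g = 1) : False := by
  have := hC.nonempty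
  obtain ⟨i⟩ := this
  refine no_fixed hC e ⟨Pi.single i 1, ?_, fun g => by rw [hT g, Module.End.one_apply]⟩
  intro h0
  have := congrFun h0 i
  rw [Pi.single_eq_same] at this
  exact one_ne_zero this

theorem finrank_clo : finrank (AlgebraicClosure F) (ι → AlgebraicClosure F) = Fintype.card ι :=
  Module.finrank_fintype_fun_eq_card _

theorem two_ne_clo (h2 : (2 : F) ≠ 0) : (2 : AlgebraicClosure F) ≠ 0 := by
  intro h
  apply h2
  apply (algebraMap F (AlgebraicClosure F)).injective
  rw [map_ofNat, map_zero, h]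

end Rep

end Cfsg.Agent.H879.TL
end

-- part: H933/O10/Base
section
set_option linter.all false
open scoped Cfsg.Agent.FastGrp

/-!
# The setting of S5848 and S5851: residual cores in `Ω₁₀^±(q)` (helper933)

* `Cx p Q H P` : `H` is a maximal subgroup of `omegaGL Q`, `dim = 10`, with residual core `P`;
* `Cx.core`, `Cx.fixQ`, `Cx.sd`, `Cx.scalar_sq` : the first consequences;
* `Concl Q P` : the conclusion of the two statements.
-/

set_option autoImplicit false
set_option linter.unusedSectionVars false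

namespace Cfsg.Agent.H933.O10

open Cfsg Cfsg.Geo Matrix Cfsg.Agent.H915.LD

universe u

variable {F : Type u} [Field F]

section general

variable {ι : Type} [Fintype ι] [DecidableEq ι] {Q : (ι → F) → F}

/-- elements of `omegaGL Q` are isometries -/
theorem fix_of_mem_omegaGL {g : GL ι F} (hg : g ∈ omegaGL Q) (v : ι → F) : Q ((g : Matrix ι ι F) *ᵥ v) = Q v := by
  obtain ⟨x, -, rfl⟩ := hg
  exact (x.2 : _) v v

theorem polar_mulVec {g : GL ι F} (hg : g ∈ omegaGL Q) (x y : ι → F) :
    QuadraticMap.polar Q ((g : Matrix ι ι F) *ᵥ x) ((g : Matrix ι ι F) *ᵥ y) = QuadraticMap.polar Q x y := by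
  rw [QuadraticMap.polar, ← mulVec_add, fix_of_mem_omegaGL hg, fix_of_mem_omegaGL hg, fix_of_mem_omegaGL hg]
  rfl

theorem polar_eq_dot (hQ : IsNondegenerateQuadraticForm Q) (x y : ι → F) :
    QuadraticMap.polar Q x y = x ⬝ᵥ (gramMatrix (QuadraticMap.polar Q) *ᵥ y) := by
  have hb := hQ.polar_bilinear
  let B : LinearMap.BilinMap F (ι → F) F :=
    LinearMap.mk₂ F (QuadraticMap.polar Q) (fun x y v => hb.add_left x y v)
      (fun c x v => by rw [hb.smul_left, smul_eq_mul]) (fun v x y => hb.add_right v x y)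
      (fun c v x => by rw [hb.smul_right, smul_eq_mul])
  have h1 : ∀ x y, B x y = QuadraticMap.polar Q x y := fun _ _ => rfl
  rw [← h1]
  have hx : x = ∑ i, x i • (Pi.single i 1 : ι → F) := pi_eq_sum_univ' x
  have hy : y = ∑ i, y i • (Pi.single i 1 : ι → F) := pi_eq_sum_univ' y
  conv_lhs => rw [hx, hy]
  simp only [map_sum, LinearMap.sum_apply, map_smul, LinearMap.smul_apply, smul_eq_mul, dotProduct, mulVec,
    gramMatrix, Finset.mul_sum]
  rw [Finset.sum_comm]
  refine Finset.sum_congr rfl fun i _ => Finset.sum_congr rfl fun j _ => ?_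
  rw [h1]
  ring

/-- the Gram matrix is invertible -/
theorem isUnit_gram (hQ : IsNondegenerateQuadraticForm Q) : IsUnit (gramMatrix (QuadraticMap.polar Q)) := by
  rw [← Matrix.mulVec_injective_iff_isUnit]
  intro x y hxy
  by_contra hne
  obtain ⟨-, z, hz⟩ := hQ.nondegenerate (x - y) (sub_ne_zero.2 hne)
  apply hz
  have h1 : QuadraticMap.polar Q z (x - y) = 0 := by
    rw [polar_eq_dot hQ, mulVec_sub, sub_eq_zero.2 hxy, dotProduct_zero]
  rwa [QuadraticMap.polar_comm] at h1

theorem gram_conj (hQ : IsNondegenerateQuadraticForm Q) {g : GL ι F} (hg : g ∈ omegaGL Q) :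
    (g : Matrix ι ι F)ᵀ * gramMatrix (QuadraticMap.polar Q) * (g : Matrix ι ι F) = gramMatrix (QuadraticMap.polar Q) := by
  ext i j
  have h1 := polar_mulVec hg (Pi.single i 1) (Pi.single j 1)
  rw [polar_eq_dot hQ] at h1
  have h2 : (((g : Matrix ι ι F)ᵀ * gramMatrix (QuadraticMap.polar Q) * (g : Matrix ι ι F) : Matrix ι ι F)) i j =
      ((g : Matrix ι ι F) *ᵥ Pi.single i 1) ⬝ᵥ
        (gramMatrix (QuadraticMap.polar Q) *ᵥ ((g : Matrix ι ι F) *ᵥ Pi.single j 1)) := by
    rw [mulVec_mulVec, mulVec_single_one, mulVec_single_one, Matrix.mul_assoc, Matrix.mul_apply]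
    rfl
  rw [h2, h1]
  rfl

/-- isometries of a nondegenerate form: the traces of `g` and `g⁻¹` agree -/
theorem tr_inv_of_mem (hQ : IsNondegenerateQuadraticForm Q) {g : GL ι F} (hg : g ∈ omegaGL Q) : tr g⁻¹ = tr g := by
  obtain ⟨M, hM⟩ := isUnit_gram hQ
  have h := gram_conj hQ hg
  rw [← hM] at h
  have h1 : ((M⁻¹ : (Matrix ι ι F)ˣ) : Matrix ι ι F) * (g : Matrix ι ι F)ᵀ * (M : Matrix ι ι F) =
      ((g⁻¹ : GL ι F) : Matrix ι ι F) := by
    have h2 : (((M⁻¹ : (Matrix ι ι F)ˣ) : Matrix ι ι F) * (g : Matrix ι ι F)ᵀ * (M : Matrix ι ι F)) *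
        (g : Matrix ι ι F) = 1 := by
      rw [Matrix.mul_assoc, Matrix.mul_assoc, ← Matrix.mul_assoc ((g : Matrix ι ι F)ᵀ), h]
      exact M.inv_mul
    calc _ = (((M⁻¹ : (Matrix ι ι F)ˣ) : Matrix ι ι F) * (g : Matrix ι ι F)ᵀ * (M : Matrix ι ι F)) *
        ((g : Matrix ι ι F) * ((g⁻¹ : GL ι F) : Matrix ι ι F)) := by
          rw [show (g : Matrix ι ι F) * ((g⁻¹ : GL ι F) : Matrix ι ι F) = 1 from g.mul_inv, Matrix.mul_one]
      _ = _ := by rw [← Matrix.mul_assoc, h2, Matrix.one_mul]
  rw [tr, tr, ← h1, Matrix.trace_mul_comm, ← Matrix.mul_assoc]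
  rw [show (M : Matrix ι ι F) * ((M⁻¹ : (Matrix ι ι F)ˣ) : Matrix ι ι F) = 1 from M.mul_inv, Matrix.one_mul,
    Matrix.trace_transpose]

theorem sd_of_le (hQ : IsNondegenerateQuadraticForm Q) {P : Subgroup (GL ι F)} (h : P ≤ omegaGL Q) : SD P :=
  fun _ hg => tr_inv_of_mem hQ (h hg)

end general

/-- The setting: `H` maximal in `omegaGL Q`, `P` a residual core of `H`. -/
structure Cx (p : ℕ) (Q : (Fin 10 → F) → F) (H P : Subgroup (GL (Fin 10) F)) : Prop where
  prime : p.Prime
  char : CharP F p
  hQ : IsNondegenerateQuadraticForm Q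
  hH : IsMaximalIn (omegaGL Q) H
  hc : IsResidualCore H P

namespace Cx

variable {p : ℕ} {Q : (Fin 10 → F) → F} {H P : Subgroup (GL (Fin 10) F)}

theorem core (h : Cx p Q H P) : Core P := core_of_residual h.hc

theorem le_omega (h : Cx p Q H P) : P ≤ omegaGL Q := h.hc.le.trans h.hH.1.le

theorem fixes (h : Cx p Q H P) : FixesQuadForm (matrixSet P) Q := by
  rintro _ ⟨g, hg, rfl⟩ v
  exact fix_of_mem_omegaGL (h.le_omega hg) v

theorem fixQ (h : Cx p Q H P) : FixQ P := ⟨Q, h.hQ, h.fixes⟩

theorem sd (h : Cx p Q H P) : SD P := sd_of_le h.hQ h.le_omega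

/-- the scalars in `P` are `±1` -/
theorem scalar_sq (h : Cx p Q H P) {g : GL (Fin 10) F} (hg : g ∈ P) {c : F}
    (hc : (g : Matrix (Fin 10) (Fin 10) F) = c • (1 : Matrix (Fin 10) (Fin 10) F)) : c ^ 2 = 1 := by
  obtain ⟨v, hv⟩ := H879.TL.exists_ne_of_nondeg h.hQ
  have h2 := fix_of_mem_omegaGL (h.le_omega hg) v
  rw [hc, Matrix.smul_mulVec, Matrix.one_mulVec, h.hQ.smul] at h2
  have h4 : (c ^ 2 - 1) * Q v = 0 := by rw [sub_mul, h2, one_mul, sub_self]
  exact sub_eq_zero.1 ((mul_eq_zero.1 h4).resolve_right hv)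

end Cx

end Cfsg.Agent.H933.O10

private theorem dce_ae74ed0fc85b : _root_.True := by
  try have : _root_.True := by simp only [_root_.Cfsg.Agent.H915.LD.tr.eq_1]
  try have : _root_.True := by simp only [_root_.Cfsg.Geo.gramMatrix.eq_1]
  exact _root_.True.intro
end

-- part: H882/Sc/Scott
section
prune_inst 0x200000080000000000000210000000400001000003000080600502004000208941264010f004000018000048010040011000100200000000008400000000208480100611000000000086000000000000000000000000000000000000000004000000000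
set_option linter.all false
open scoped Cfsg.Agent.FastGrp

/-!
# Scott's lemma and eigenvalue multiplicities (helper882)

* `scott` : `G = ⟨x, y⟩` irreducible on `V` : `dim V^x + dim V^y + dim V^(xy) ≤ dim V`.
* `eig` : `c` of prime order `r ≠ char`, `y c y⁻¹ = c ^ k`, invariant nondegenerate form, `± k ^ i` all residues:
  `dim V = dim V^c + (r - 1) m`.
* `nine'` : `3 × 3` with arbitrary dimensions.
-/

set_option autoImplicit false
set_option linter.unusedSectionVars false

namespace Cfsg.Agent.H882.Sc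

open Module Cfsg.Agent.H637.JW Cfsg.Agent.H882.Dim

variable {K : Type*} [Field K] {V : Type*} [AddCommGroup V] [Module K V] [FiniteDimensional K V]
  {G : Type*} [Group G] {σ : G →* Module.End K V}

/-- irreducible representations of dimension at least two -/
structure Irr (σ : G →* Module.End K V) : Prop where
  irr : ∀ U : Submodule K V, (∀ g, ∀ u ∈ U, σ g u ∈ U) → U = ⊥ ∨ U = ⊤
  two : 2 ≤ finrank K V

theorem Irr.no_fixed (h : Irr σ) {v : V} (hv : ∀ g, σ g v = v) : v = 0 := by
  by_contra h0
  rcases h.irr (K ∙ v) (fun g u hu => by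
    obtain ⟨c, rfl⟩ := Submodule.mem_span_singleton.1 hu
    rw [map_smul, hv]
    exact Submodule.smul_mem _ _ (Submodule.mem_span_singleton_self v)) with h1 | h1
  · exact h0 ((Submodule.mem_bot K).1 (h1 ▸ Submodule.mem_span_singleton_self v))
  · have h2 := finrank_span_singleton (K := K) h0
    rw [h1, finrank_top] at h2
    have := h.two
    omega

theorem Irr.no_fixed_gen (h : Irr σ) {S : Set G} (hS : Subgroup.closure S = ⊤) {v : V} (hv : ∀ g ∈ S, σ g v = v) :
    v = 0 := by
  refine h.no_fixed fun g => ?_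
  have h1 : Subgroup.closure S ≤ stab σ v := (Subgroup.closure_le _).2 hv
  rw [hS] at h1
  exact h1 (Subgroup.mem_top g)

/-- the range of `g - 1` -/
def Rg (σ : G →* Module.End K V) (g : G) : Submodule K V := LinearMap.range (σ g - 1)

theorem mem_Rg (g : G) (v : V) : σ g v - v ∈ Rg σ g := ⟨v, rfl⟩

theorem rank_Rg (g : G) : finrank K (Rg σ g) + finrank K (Fix σ g) = finrank K V := by
  have h1 := LinearMap.finrank_range_add_finrank_ker (σ g - 1)
  have h2 : LinearMap.ker (σ g - 1) = Fix σ g := by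
    ext v
    rw [LinearMap.mem_ker, LinearMap.sub_apply, Module.End.one_apply, sub_eq_zero, mem_Fix]
  rwa [h2] at h1

theorem Irr.sup_eq_top (h : Irr σ) {x y : G} (hxy : Subgroup.closure {x, y} = ⊤) : Rg σ x ⊔ Rg σ y = ⊤ := by
  set U := Rg σ x ⊔ Rg σ y with hU
  let T : Subgroup G :=
    { carrier := {g | ∀ v, σ g v - v ∈ U}
      one_mem' := by
        intro v
        rw [map_one, Module.End.one_apply, sub_self]
        exact U.zero_mem
      mul_mem' := by
        intro a b ha hb v
        rw [mul_apply', ← sub_add_sub_cancel _ (σ b v)]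
        exact U.add_mem (ha _) (hb v)
      inv_mem' := by
        intro a ha v
        have h1 := ha (σ a⁻¹ v)
        rw [← mul_apply', mul_inv_cancel, map_one, Module.End.one_apply] at h1
        rw [← neg_sub]
        exact U.neg_mem h1 }
  have hT : Subgroup.closure {x, y} ≤ T := by
    rw [Subgroup.closure_le]
    rintro g (rfl | rfl)
    · exact fun v => (le_sup_left : Rg σ g ≤ U) (mem_Rg g v)
    · exact fun v => (le_sup_right : Rg σ g ≤ U) (mem_Rg g v)
  rw [hxy] at hT
  have hall : ∀ g v, σ g v - v ∈ U := fun g v => hT (Subgroup.mem_top g) v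
  rcases h.irr U (fun g u hu => by
    rw [← sub_add_cancel (σ g u) u]
    exact U.add_mem (hall g u) hu) with h1 | h1
  · exfalso
    have h2 : ∀ g v, σ g v = v := fun g v => by
      have := hall g v
      rw [h1, Submodule.mem_bot, sub_eq_zero] at this
      exact this
    have : Nontrivial V := Module.nontrivial_of_finrank_pos (R := K) (by have := h.two; omega)
    obtain ⟨v, hv⟩ := exists_ne (0 : V)
    exact hv (h.no_fixed fun g => h2 g v)
  · exact h1

/-- **Scott's lemma** -/
theorem Irr.scott (h : Irr σ) {x y : G} (hxy : Subgroup.closure {x, y} = ⊤) :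
    finrank K (Fix σ x) + finrank K (Fix σ y) + finrank K (Fix σ (x * y)) ≤ finrank K V := by
  let f : Fix σ (x * y) →ₗ[K] V := (σ y - 1).comp (Fix σ (x * y)).subtype
  have hfx : ∀ v : Fix σ (x * y), σ x (σ y (v : V)) = v := fun v => by
    rw [← mul_apply']
    exact mem_Fix.1 v.2
  have hf : Function.Injective f := by
    rw [injective_iff_map_eq_zero]
    rintro ⟨v, hv⟩ h0
    have h3 : σ y v = v := sub_eq_zero.1 h0
    have h4 : σ x (σ y v) = v := hfx ⟨v, hv⟩
    rw [h3] at h4
    refine Subtype.ext (h.no_fixed_gen hxy ?_)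
    rintro g (rfl | rfl)
    · exact h4
    · exact h3
  have hr : LinearMap.range f ≤ Rg σ x ⊓ Rg σ y := by
    rintro _ ⟨v, rfl⟩
    refine ⟨⟨-(σ y v), ?_⟩, ⟨v, rfl⟩⟩
    change σ x (-(σ y v)) - -(σ y v) = σ y v - v
    rw [map_neg, hfx v]
    abel
  have h5 := Submodule.finrank_mono hr
  rw [LinearMap.finrank_range_of_inj hf] at h5
  have h6 := Submodule.finrank_sup_add_finrank_inf_eq (Rg σ x) (Rg σ y)
  rw [h.sup_eq_top hxy, finrank_top] at h6
  have h7 := rank_Rg (σ := σ) x
  have h8 := rank_Rg (σ := σ) y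
  omega

/-! ### Eigenvalue multiplicities -/

/-- An invariant nondegenerate form. -/
structure Form (σ : G →* Module.End K V) (B : V →ₗ[K] V →ₗ[K] K) : Prop where
  inv : ∀ g v w, B (σ g v) (σ g w) = B v w
  nd : ∀ v, (∀ w, B v w = 0) → v = 0

section eig

variable [IsAlgClosed K]

/-- the eigenspace -/
def Eg (σ : G →* Module.End K V) (c : G) (μ : K) : Submodule K V := (σ c).eigenspace μ

theorem mem_Eg {c : G} {μ : K} {v : V} : v ∈ Eg σ c μ ↔ σ c v = μ • v := Module.End.mem_eigenspace_iff

theorem finrank_Eg_pow {c y : G} {k : ℕ} (h : y * c * y⁻¹ = c ^ k) (μ : K) :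
    finrank K (Eg σ c μ) ≤ finrank K (Eg σ c (μ ^ k)) := by
  refine finrank_le_of_map (σ := σ) y⁻¹ fun v hv => ?_
  rw [mem_Eg] at hv ⊢
  have h1 : c * y⁻¹ = y⁻¹ * c ^ k := by rw [← h]; group
  rw [← mul_apply', h1, mul_apply', map_pow, pow_apply hv, map_smul]

theorem finrank_Eg_inv {B : V →ₗ[K] V →ₗ[K] K} (hB : Form σ B) {c : G} {r : ℕ} [NeZero r] (hr : (r : K) ≠ 0)
    (hc : c ^ r = 1) {ζ : K} (hζ : IsPrimitiveRoot ζ r) (i : ZMod r) :
    finrank K (Eg σ c (ζ ^ i.val)) ≤ finrank K (Eg σ c (ζ ^ (-i).val)) := by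
  let f : Eg σ c (ζ ^ i.val) →ₗ[K] Module.Dual K (Eg σ c (ζ ^ (-i).val)) :=
    (Module.Dual.transpose (R := K) (Submodule.subtype (Eg σ c (ζ ^ (-i).val)))) ∘ₗ B ∘ₗ Submodule.subtype _
  have hinj : Function.Injective f := by
    rw [injective_iff_map_eq_zero]
    rintro ⟨v, hv⟩ h0
    have h1 : ∀ w ∈ Eg σ c (ζ ^ (-i).val), B v w = 0 := fun w hw => LinearMap.congr_fun h0 ⟨w, hw⟩
    have h2 : ∀ j : ZMod r, ∀ w ∈ Eg σ c (ζ ^ j.val), B v w = 0 := by
      intro j w hw
      by_cases hj : j = -i
      · subst hj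
        exact h1 w hw
      · have h3 := hB.inv c v w
        rw [mem_Eg.1 hv, mem_Eg.1 hw, map_smul, map_smul, LinearMap.smul_apply, smul_eq_mul, smul_eq_mul,
          ← mul_assoc, ← pow_val_add hζ.pow_eq_one] at h3
        have h4 : ζ ^ (j + i).val ≠ 1 := by
          intro h5
          have h6 := hζ.pow_inj (ZMod.val_lt _) (ZMod.val_lt (0 : ZMod r)) (h5.trans (by simp))
          have h7 := ZMod.val_injective r h6
          exact hj (eq_neg_of_add_eq_zero_left h7)
        have h5 : (ζ ^ (j + i).val - 1) * B v w = 0 := by rw [sub_mul, one_mul, h3, sub_self]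
        exact (mul_eq_zero.1 h5).resolve_left (sub_ne_zero.2 h4)
    have hsup := iSup_W (V := V) hr hζ (f := fun _ : Unit => σ c) (fun _ _ => rfl)
      (fun _ => by rw [← map_pow, hc, map_one])
    refine Subtype.ext (hB.nd v fun w => ?_)
    have hw : w ∈ ⨆ d, W r ζ (fun _ : Unit => σ c) d := by rw [hsup]; trivial
    induction hw using Submodule.iSup_induction' with
    | mem d w hw => exact h2 (d ()) w (mem_Eg.2 (mem_W.1 hw ()))
    | zero => exact map_zero _
    | add x y _ _ hx hy => rw [map_add, hx, hy, add_zero]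
  have := LinearMap.finrank_le_finrank_of_injective hinj
  rwa [Subspace.dual_finrank_eq] at this

/-- **Multiplicities for an element of prime order.** -/
theorem eig {B : V →ₗ[K] V →ₗ[K] K} (hB : Form σ B) {c y : G} {r : ℕ} [hr : Fact r.Prime] (hrK : (r : K) ≠ 0)
    (hc : c ^ r = 1) {k : ℕ} (h : y * c * y⁻¹ = c ^ k)
    (hk : ∀ j : ZMod r, j ≠ 0 → ∃ i : Fin r, j = (k : ZMod r) ^ (i : ℕ) ∨ j = -(k : ZMod r) ^ (i : ℕ)) :
    ∃ m, finrank K V = finrank K (Fix σ c) + (r - 1) * m := by
  classical
  obtain ⟨ζ, hζ⟩ := exists_root (K := K) hrK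
  have hsum := sum_W (V := V) hrK hζ (f := fun _ : Unit => σ c) (fun _ _ => rfl)
    (fun _ => by rw [← map_pow, hc, map_one])
  set m : ZMod r → ℕ := fun j => finrank K (Eg σ c (ζ ^ j.val)) with hm
  have hW : ∀ d : Unit → ZMod r, finrank K (W r ζ (fun _ : Unit => σ c) d) = m (d ()) := by
    intro d
    have : W r ζ (fun _ : Unit => σ c) d = Eg σ c (ζ ^ (d ()).val) := by
      ext v
      rw [mem_W, mem_Eg]
      exact ⟨fun h => h (), fun h _ => h⟩
    rw [this]
  have hsum2 : ∑ j : ZMod r, m j = finrank K V := by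
    rw [← hsum, Finset.sum_congr rfl fun d _ => hW d]
    exact (Fintype.sum_equiv (Equiv.funUnique Unit (ZMod r)) _ _ fun d => rfl).symm
  have hmul : ∀ j : ZMod r, m j ≤ m (j * k) := by
    intro j
    have h1 := finrank_Eg_pow (σ := σ) h (ζ ^ j.val)
    have h2 : (ζ ^ j.val) ^ k = ζ ^ (j * k : ZMod r).val := by
      rw [← pow_mul, ZMod.val_mul, ← pow_mod_of_pow_eq_one hζ.pow_eq_one (j.val * k),
        ZMod.val_natCast, Nat.mul_mod_mod]
    rw [h2] at h1
    exact h1
  have hmuls : ∀ (i : ℕ) (j : ZMod r), m j ≤ m (j * (k : ZMod r) ^ i) := by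
    intro i
    induction i with
    | zero => intro j; rw [pow_zero, mul_one]
    | succ i ih =>
      intro j
      refine (ih j).trans ((hmul _).trans ?_)
      rw [pow_succ, mul_assoc]
  have hneg : ∀ j : ZMod r, m j ≤ m (-j) := fun j => finrank_Eg_inv hB hrK hc hζ j
  have hall : ∀ j j' : ZMod r, j ≠ 0 → j' ≠ 0 → m j ≤ m j' := by
    intro j j' hj hj'
    obtain ⟨i, hi | hi⟩ := hk (j' / j) (div_ne_zero hj' hj)
    · have := hmuls i j
      rwa [← hi, mul_div_cancel₀ _ hj] at this
    · have := (hmuls i j).trans (hneg _)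
      rwa [← mul_neg, ← hi, mul_div_cancel₀ _ hj] at this
  refine ⟨m 1, ?_⟩
  rw [← hsum2, ← Finset.add_sum_erase Finset.univ m (Finset.mem_univ 0)]
  have h0 : m 0 = finrank K (Fix σ c) := by
    simp only [hm]
    rw [ZMod.val_zero, pow_zero]
    rfl
  rw [h0]
  congr 1
  rw [Finset.sum_congr rfl (g := fun _ => m 1) fun j hj => ?_, Finset.sum_const, smul_eq_mul,
    Finset.card_erase_of_mem (Finset.mem_univ _), Finset.card_univ, ZMod.card]
  have hj0 : j ≠ 0 := Finset.ne_of_mem_erase hj
  exact le_antisymm (hall j 1 hj0 one_ne_zero) (hall 1 j one_ne_zero hj0)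

/-- **Multiplicities for an element of prime order**, general form. -/
theorem eig_mult {B : V →ₗ[K] V →ₗ[K] K} (hB : Form σ B) {c y : G} {r : ℕ} [hr : Fact r.Prime] (hrK : (r : K) ≠ 0)
    (hc : c ^ r = 1) {k : ℕ} (h : y * c * y⁻¹ = c ^ k) {s : ℕ} (hk : (k : ZMod r) ^ (s + 1) = 1) :
    ∃ m : ZMod r → ℕ, m 0 = finrank K (Fix σ c) ∧ ∑ j, m j = finrank K V ∧ (∀ j, m (j * k) = m j) ∧
      ∀ j, m (-j) = m j := by
  classical
  obtain ⟨ζ, hζ⟩ := exists_root (K := K) hrK
  have hsum := sum_W (V := V) hrK hζ (f := fun _ : Unit => σ c) (fun _ _ => rfl)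
    (fun _ => by rw [← map_pow, hc, map_one])
  set m : ZMod r → ℕ := fun j => finrank K (Eg σ c (ζ ^ j.val)) with hm
  have hW : ∀ d : Unit → ZMod r, finrank K (W r ζ (fun _ : Unit => σ c) d) = m (d ()) := by
    intro d
    have : W r ζ (fun _ : Unit => σ c) d = Eg σ c (ζ ^ (d ()).val) := by
      ext v
      rw [mem_W, mem_Eg]
      exact ⟨fun h => h (), fun h _ => h⟩
    rw [this]
  have hsum2 : ∑ j : ZMod r, m j = finrank K V := by
    rw [← hsum, Finset.sum_congr rfl fun d _ => hW d]
    exact (Fintype.sum_equiv (Equiv.funUnique Unit (ZMod r)) _ _ fun d => rfl).symm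
  have hmul : ∀ j : ZMod r, m j ≤ m (j * k) := by
    intro j
    have h1 := finrank_Eg_pow (σ := σ) h (ζ ^ j.val)
    have h2 : (ζ ^ j.val) ^ k = ζ ^ (j * k : ZMod r).val := by
      rw [← pow_mul, ZMod.val_mul, ← pow_mod_of_pow_eq_one hζ.pow_eq_one (j.val * k),
        ZMod.val_natCast, Nat.mul_mod_mod]
    rw [h2] at h1
    exact h1
  have hmuls : ∀ (i : ℕ) (j : ZMod r), m j ≤ m (j * (k : ZMod r) ^ i) := by
    intro i
    induction i with
    | zero => intro j; rw [pow_zero, mul_one]
    | succ i ih =>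
      intro j
      refine (ih j).trans ((hmul _).trans ?_)
      rw [pow_succ, mul_assoc]
  have hneg : ∀ j : ZMod r, m j ≤ m (-j) := fun j => finrank_Eg_inv hB hrK hc hζ j
  refine ⟨m, ?_, hsum2, fun j => le_antisymm ?_ (hmul j), fun j => le_antisymm ?_ (hneg j)⟩
  · simp only [hm]
    rw [ZMod.val_zero, pow_zero]
    rfl
  · have := hmuls s (j * k)
    rwa [mul_assoc, ← pow_succ', hk, mul_one] at this
  · have := hneg (-j)
    rwa [neg_neg] at this

end eig

end Cfsg.Agent.H882.Sc
end

-- part: H882/Sc/Tools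
section
prune_inst 0x20044008400000000000000200000440000100004000000860050208408222894028400480040210ba888008010000001000104000000000000000001c0020802952061310ac04160089000000000000000000000000000000000000000004000000000
set_option linter.all false
open scoped Cfsg.Agent.FastGrp

/-!
# More relations between dimensions of fixed spaces (helper882)
-/

set_option autoImplicit false
set_option linter.unusedSectionVars false

namespace Cfsg.Agent.H882.Sc

open Module Cfsg.Agent.H637.JW Cfsg.Agent.H882.Dim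

variable {K : Type*} [Field K] {V : Type*} [AddCommGroup V] [Module K V] [FiniteDimensional K V]
  {G : Type*} [Group G] {σ : G →* Module.End K V}

/-- `3 × 3`, arbitrary dimensions of the fixed spaces of the four lines. -/
theorem nine' (h3 : (3 : K) ≠ 0) {x y : G} (hx : x * x * x = 1) (hy : y * y * y = 1) (hxy : x * y = y * x) :
    finrank K (Fix σ x) + finrank K (Fix σ y) + finrank K (Fix σ (x * y)) + finrank K (Fix σ (x * x * y)) =
      3 * finrank K (Fix σ x ⊓ Fix σ y : Submodule K V) + finrank K V := by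
  have hc : ∀ v, σ x (σ y v) = σ y (σ x v) := fun v => by rw [← mul_apply', hxy, mul_apply']
  have hxx : ∀ v, σ x (σ x (σ x v)) = v := fun v => by rw [← mul_apply', ← mul_apply', hx, act_one]
  have hyy : ∀ v, σ y (σ y (σ y v)) = v := fun v => by rw [← mul_apply', ← mul_apply', hy, act_one]
  -- invariance
  have i1 : ∀ v ∈ Om σ x, σ y v ∈ Om σ x := by
    intro v hv
    rw [mem_Om] at hv ⊢
    rw [hc, hc, ← map_add, ← map_add, hv, map_zero]
  have i2 : ∀ v ∈ Om σ y, σ x v ∈ Om σ y := by
    intro v hv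
    rw [mem_Om] at hv ⊢
    rw [← hc, ← hc, ← map_add, ← map_add, hv, map_zero]
  have i3 : ∀ v ∈ Om σ x, σ x v ∈ Om σ x := by
    intro v hv
    rw [mem_Om] at hv ⊢
    rw [← map_add, ← map_add, hv, map_zero]
  have i4 : ∀ v ∈ Om σ y, σ y v ∈ Om σ y := by
    intro v hv
    rw [mem_Om] at hv ⊢
    rw [← map_add, ← map_add, hv, map_zero]
  have s1 := split_three (σ := σ) h3 hx (⊤ : Submodule K V) (fun _ _ => trivial)
  rw [top_inf_eq, top_inf_eq, finrank_top] at s1
  have s2 := split_three h3 hy (Om σ x) (fun v hv => Submodule.add_mem _ (Submodule.add_mem _ hv (i1 v hv))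
    (i1 _ (i1 v hv)))
  have s3 := split_fix (σ := σ) h3 hx hxy
  have s4 := split_fix (σ := σ) h3 hx (y := x * y) (by rw [mul_assoc x y x, ← hxy])
  have s5 := split_fix (σ := σ) h3 hx (y := x * x * y) (by rw [mul_assoc (x * x) y x, ← hxy, mul_assoc, mul_assoc])
  have hxy3 : x * y * (x * y) * (x * y) = 1 := by
    calc x * y * (x * y) * (x * y) = x * (y * x) * y * (x * y) := by group
      _ = x * x * (y * y * x) * y := by rw [← hxy]; group
      _ = x * x * x * (y * y * y) := by
        rw [mul_assoc y y x, ← hxy, ← mul_assoc y x y, ← hxy]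
        group
      _ = 1 := by rw [hx, hy, one_mul]
  have s6 := split_three h3 hxy3 (Om σ x ⊓ Om σ y) (fun v hv => by
    have j : ∀ v ∈ Om σ x ⊓ Om σ y, σ (x * y) v ∈ Om σ x ⊓ Om σ y := fun v hv => by
      rw [mul_apply']
      exact ⟨i3 _ (i1 v hv.1), i2 _ (i4 v hv.2)⟩
    exact Submodule.add_mem _ (Submodule.add_mem _ hv (j v hv)) (j _ (j v hv)))
  have e0 : Fix σ y ⊓ Fix σ x = Fix σ x ⊓ Fix σ y := inf_comm _ _
  have e1 : Fix σ (x * y) ⊓ Fix σ x = Fix σ x ⊓ Fix σ y := by
    ext v
    simp only [Submodule.mem_inf, mem_Fix, mul_apply']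
    constructor
    · rintro ⟨h1, h4⟩
      rw [hc, h4] at h1
      exact ⟨h4, h1⟩
    · rintro ⟨h1, h4⟩
      exact ⟨by rw [h4, h1], h1⟩
  have e2 : Fix σ (x * x * y) ⊓ Fix σ x = Fix σ x ⊓ Fix σ y := by
    ext v
    simp only [Submodule.mem_inf, mem_Fix, mul_apply']
    constructor
    · rintro ⟨h1, h4⟩
      rw [hc, hc, h4, h4] at h1
      exact ⟨h4, h1⟩
    · rintro ⟨h1, h4⟩
      exact ⟨by rw [h4, h1, h1], h1⟩
  have e3 : (Om σ x ⊓ Om σ y) ⊓ Fix σ (x * y) = Fix σ (x * y) ⊓ Om σ x := by
    ext v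
    simp only [Submodule.mem_inf, mem_Fix, mem_Om, mul_apply']
    constructor
    · rintro ⟨⟨h1, -⟩, h4⟩
      exact ⟨h4, h1⟩
    · rintro ⟨h1, h4⟩
      refine ⟨⟨h4, ?_⟩, h1⟩
      -- `y v = x² v`
      have h5 : σ y v = σ x (σ x v) := by
        conv_rhs => rw [← h1]
        rw [hxx]
      rw [h5, hc (σ x v) |>.symm, ← hc, h5, hxx, ← h4]
      abel
  have e4 : (Om σ x ⊓ Om σ y) ⊓ Om σ (x * y) = Fix σ (x * x * y) ⊓ Om σ x := by
    ext v
    simp only [Submodule.mem_inf, mem_Fix, mem_Om, mul_apply']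
    constructor
    · rintro ⟨⟨h1, h4⟩, h5⟩
      refine ⟨?_, h1⟩
      have q1 : σ x (σ x v) = -v - σ x v := by linear_combination (norm := module) h1
      have q2 : σ y (σ y v) = -v - σ y v := by linear_combination (norm := module) h4
      have q3 : σ x (σ x (σ y v)) = -σ y v - σ x (σ y v) := by
        rw [hc v, hc (σ x v), q1, map_sub, map_neg, ← hc v]
      have q4 : (2 : K) • v + σ x v + σ y v + (2 : K) • σ x (σ y v) = 0 := by
        rw [← hc (σ y v), q2, map_sub, map_neg, map_sub, map_neg, q1, q3] at h5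
        linear_combination (norm := module) h5
      have q5 := congrArg (σ x) q4
      rw [map_add, map_add, map_add, map_smul, map_smul, q1, q3, map_zero] at q5
      have q6 : (3 : K) • (σ x v - σ y v) = 0 := by
        linear_combination (norm := module) q4 + (2 : K) • q5
      have q7 := sub_eq_zero.1 ((smul_eq_zero.1 q6).resolve_left h3)
      rw [← q7, hxx]
    · rintro ⟨h1, h4⟩
      -- `y v = x v`
      have h5 : σ y v = σ x v := by
        conv_rhs => rw [← h1]
        rw [hxx]
      refine ⟨⟨h4, ?_⟩, ?_⟩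
      · rw [h5, ← hc, h5, h4]
      · rw [h5, ← hc (σ x v), ← hc v, h5, hxx, ← h4]
        abel
  rw [e0] at s3
  rw [e1] at s4
  rw [e2] at s5
  rw [e3, e4] at s6
  have e5 : Fix σ y ⊓ Om σ x = Om σ x ⊓ Fix σ y := inf_comm _ _
  rw [e5] at s3
  omega

/-- four-groups on an invariant subspace -/
theorem klein_sub (h2 : (2 : K) ≠ 0) {a b : G} (ha : a * a = 1) (hb : b * b = 1) (hab : a * b = b * a)
    (U : Submodule K V) (hUa : ∀ v ∈ U, σ a v ∈ U) (hUb : ∀ v ∈ U, σ b v ∈ U) :
    finrank K (U ⊓ Fix σ a : Submodule K V) + finrank K (U ⊓ Fix σ b : Submodule K V) +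
      finrank K (U ⊓ Fix σ (a * b) : Submodule K V) =
      2 * finrank K (U ⊓ Fix σ a ⊓ Fix σ b : Submodule K V) + finrank K U := by
  have hc : ∀ v, σ a (σ b v) = σ b (σ a v) := fun v => by rw [← mul_apply', hab, mul_apply']
  have s0 := split_two h2 ha U hUa
  have s1 := split_two h2 hb (U ⊓ Fix σ a) (fun v hv => ⟨hUb v hv.1, fix_le_of_comm hab.symm hv.2⟩)
  have s2 := split_two h2 ha (U ⊓ Fix σ b) (fun v hv => ⟨hUa v hv.1, fix_le_of_comm hab hv.2⟩)
  have s3 := split_two h2 ha (U ⊓ Fix σ (a * b)) (fun v hv => ⟨hUa v hv.1, by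
    refine fix_le_of_comm ?_ hv.2
    rw [mul_assoc, ← hab]⟩)
  have s4 := split_two h2 hb (U ⊓ An σ a) (fun v hv => ⟨hUb v hv.1, by
    have h1 := hv.2
    change σ b v ∈ An σ a
    rw [SetLike.mem_coe, mem_An] at h1
    rw [mem_An, hc, h1, map_neg]⟩)
  have e1 : U ⊓ Fix σ b ⊓ Fix σ a = U ⊓ Fix σ a ⊓ Fix σ b := inf_right_comm _ _ _
  have e2 : U ⊓ Fix σ (a * b) ⊓ Fix σ a = U ⊓ Fix σ a ⊓ Fix σ b := by
    ext v
    simp only [Submodule.mem_inf, mem_Fix, mul_apply']
    constructor
    · rintro ⟨⟨h0, h1⟩, h3⟩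
      refine ⟨⟨h0, h3⟩, ?_⟩
      rw [hc, h3] at h1
      exact h1
    · rintro ⟨⟨h0, h1⟩, h3⟩
      exact ⟨⟨h0, by rw [h3, h1]⟩, h1⟩
  have e3 : U ⊓ Fix σ (a * b) ⊓ An σ a = U ⊓ An σ a ⊓ An σ b := by
    ext v
    simp only [Submodule.mem_inf, mem_Fix, mem_An, mul_apply']
    constructor
    · rintro ⟨⟨h0, h1⟩, h3⟩
      refine ⟨⟨h0, h3⟩, ?_⟩
      rw [hc, h3, map_neg] at h1
      exact neg_eq_iff_eq_neg.1 h1
    · rintro ⟨⟨h0, h1⟩, h3⟩
      exact ⟨⟨h0, by rw [h3, map_neg, h1, neg_neg]⟩, h1⟩
  have e4 : U ⊓ Fix σ b ⊓ An σ a = U ⊓ An σ a ⊓ Fix σ b := inf_right_comm _ _ _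
  rw [e1, e4] at s2
  rw [e2, e3] at s3
  omega

/-- `⟨a, b, y⟩ = A₄` : `dim V^y ≤ dim V^a`. -/
theorem a4_le (h2 : (2 : K) ≠ 0) {a b y : G} (haa : a * a = 1) (hbb : b * b = 1) (hab : a * b = b * a)
    (hya : y * a = b * y) (hyb : y * b = a * b * y) : finrank K (Fix σ y) ≤ finrank K (Fix σ a) := by
  have k2 := split_two (σ := σ) h2 hbb (Fix σ a) (fun v hv => fix_le_of_comm hab.symm hv)
  have hya' : ∀ v, σ y (σ a v) = σ b (σ y v) := fun v => by rw [← mul_apply', hya, mul_apply']
  have hyb' : ∀ v, σ y (σ b v) = σ a (σ b (σ y v)) := fun v => by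
    rw [← mul_apply', hyb, mul_apply', mul_apply']
  have hab' : ∀ v, σ a (σ b v) = σ b (σ a v) := fun v => by rw [← mul_apply', hab, mul_apply']
  have haa' : ∀ v, σ a (σ a v) = v := fun v => by rw [← mul_apply', haa, act_one]
  have hbb' : ∀ v, σ b (σ b v) = v := fun v => by rw [← mul_apply', hbb, act_one]
  let φ : Module.End K V := 1 + σ a - σ b - σ (a * b)
  have hφ : ∀ v, φ v = v + σ a v - σ b v - σ a (σ b v) := fun v => by
    change v + σ a v - σ b v - σ (a * b) v = _
    rw [mul_apply']
  have hφm : ∀ v ∈ Fix σ y, φ v ∈ (Fix σ a ⊓ An σ b : Submodule K V) := by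
    intro v _
    rw [hφ]
    constructor
    · change _ ∈ Fix σ a
      rw [mem_Fix, map_sub, map_sub, map_add, haa', haa']
      abel
    · change _ ∈ An σ b
      rw [mem_An, map_sub, map_sub, map_add, hbb', ← hab', ← hab', hbb']
      abel
  let ψ : Fix σ y →ₗ[K] (Fix σ a ⊓ An σ b : Submodule K V) := φ.restrict hφm
  have r1 := LinearMap.finrank_range_add_finrank_ker ψ
  have r2 : finrank K (LinearMap.range ψ) ≤ finrank K (Fix σ a ⊓ An σ b : Submodule K V) := Submodule.finrank_le _
  have r3 : finrank K (LinearMap.ker ψ) ≤ finrank K (Fix σ a ⊓ Fix σ b : Submodule K V) := by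
    let j : LinearMap.ker ψ →ₗ[K] V := (Fix σ y).subtype ∘ₗ (LinearMap.ker ψ).subtype
    have hj : ∀ v, j v ∈ (Fix σ a ⊓ Fix σ b : Submodule K V) := by
      rintro ⟨⟨v, hv⟩, h0⟩
      change v ∈ _
      have hv' := mem_Fix.1 hv
      have h0' : φ v = 0 := congrArg Subtype.val (LinearMap.mem_ker.1 h0)
      rw [hφ, hab' v] at h0'
      have h1 := congrArg (σ y) h0'
      rw [map_sub, map_sub, map_add, map_zero, hya' v, hyb' v, hyb' (σ a v), hya' v, hv', hab' v, hbb'] at h1
      have h4 := congrArg (σ y) h1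
      rw [map_sub, map_sub, map_add, map_zero, hyb' v, hyb' (σ a v), hya' v, hv', hab' v, hbb'] at h4
      have e1 : (2 : K) • (σ a v - σ b v) = 0 := by
        linear_combination (norm := module) h0' - h1
      have e2 : (2 : K) • (v - σ b v) = 0 := by
        linear_combination (norm := module) h0' + h4
      have e3 := sub_eq_zero.1 ((smul_eq_zero.1 e1).resolve_left h2)
      have e4 := sub_eq_zero.1 ((smul_eq_zero.1 e2).resolve_left h2)
      exact ⟨mem_Fix.2 (e3.trans e4.symm), mem_Fix.2 e4.symm⟩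
    refine LinearMap.finrank_le_finrank_of_injective (f := j.codRestrict _ hj) ?_
    intro u v huv
    have h : j u = j v := by
      have h1 : ((j.codRestrict _ hj u : (Fix σ a ⊓ Fix σ b : Submodule K V)) : V) =
          (j.codRestrict _ hj v : (Fix σ a ⊓ Fix σ b : Submodule K V)) := by rw [huv]
      exact h1
    exact Subtype.ext (Subtype.ext h)
  omega

/-- An element of order three inverted by an involution: the codimension of its fixed space is even. -/
theorem even_of_inv (h2 : (2 : K) ≠ 0) (h3 : (3 : K) ≠ 0) {a y : G} (ha : a * a = 1) (hay : a * y = y * y * a)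
    (hy : y * y * y = 1) : ∃ m, finrank K V = finrank K (Fix σ y) + 2 * m := by
  have s1 := split_three (σ := σ) h3 hy (⊤ : Submodule K V) (fun _ _ => trivial)
  rw [top_inf_eq, top_inf_eq, finrank_top] at s1
  have s2 := half_three (σ := σ) h2 h3 ha hay hy (Om σ y) (fun v hv => om_of_inv hy hay hv) (fun v hv => om_self hv)
    (fun v hv => hv)
  exact ⟨_, by rw [← s1, ← s2]⟩

/-- kernels of products -/
theorem finrank_ker_mul_le (f g : Module.End K V) :
    finrank K (LinearMap.ker (f * g)) ≤ finrank K (LinearMap.ker f) + finrank K (LinearMap.ker g) := by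
  let h : LinearMap.ker (f * g) →ₗ[K] LinearMap.ker f :=
    g.restrict (p := LinearMap.ker (f * g)) (q := LinearMap.ker f) (fun v hv => hv)
  have h1 := LinearMap.finrank_range_add_finrank_ker h
  have h2 : finrank K (LinearMap.range h) ≤ finrank K (LinearMap.ker f) := Submodule.finrank_le _
  have h3 : finrank K (LinearMap.ker h) ≤ finrank K (LinearMap.ker g) := by
    let j : LinearMap.ker h →ₗ[K] V := (LinearMap.ker (f * g)).subtype ∘ₗ (LinearMap.ker h).subtype
    have hj : ∀ v, j v ∈ LinearMap.ker g := by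
      rintro ⟨⟨v, hv⟩, h0⟩
      exact congrArg Subtype.val (LinearMap.mem_ker.1 h0)
    refine LinearMap.finrank_le_finrank_of_injective (f := j.codRestrict _ hj) ?_
    intro u v huv
    have h : j u = j v := by
      have h1 : ((j.codRestrict _ hj u : LinearMap.ker g) : V) = (j.codRestrict _ hj v : LinearMap.ker g) := by rw [huv]
      exact h1
    exact Subtype.ext (Subtype.ext h)
  omega

theorem finrank_ker_pow_le (f : Module.End K V) (n : ℕ) :
    finrank K (LinearMap.ker (f ^ n)) ≤ n * finrank K (LinearMap.ker f) := by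
  induction n with
  | zero =>
    rw [pow_zero, zero_mul]
    have : LinearMap.ker (1 : Module.End K V) = ⊥ := LinearMap.ker_id
    rw [this, finrank_bot]
  | succ n ih =>
    have := finrank_ker_mul_le (f ^ n) f
    rw [← pow_succ] at this
    rw [add_mul, one_mul]
    omega

/-- An element of order `p = char`: `dim V ≤ p dim V^c`. -/
theorem le_of_char {p : ℕ} [hp : Fact p.Prime] [CharP K p] {c : G} (hc : c ^ p = 1) :
    finrank K V ≤ p * finrank K (Fix σ c) := by
  have h1 : (σ c - 1) ^ p = 0 := by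
    have hc1 : Commute (σ c) 1 := Commute.one_right _
    by_cases hV : Nontrivial V
    · have : CharP (Module.End K V) p := charP_of_injective_algebraMap (algebraMap K (Module.End K V)).injective p
      rw [sub_pow_char_of_commute p hc1, ← map_pow, hc, map_one, one_pow, sub_self]
    · rw [not_nontrivial_iff_subsingleton] at hV
      exact Subsingleton.elim _ _
  have h2 := finrank_ker_pow_le (σ c - 1) p
  rw [h1] at h2
  have h3 : LinearMap.ker (0 : Module.End K V) = ⊤ := LinearMap.ker_zero
  have h4 : LinearMap.ker (σ c - 1) = Fix σ c := by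
    ext v
    rw [LinearMap.mem_ker, LinearMap.sub_apply, Module.End.one_apply, sub_eq_zero, mem_Fix]
  rwa [h3, h4, finrank_top] at h2

theorem Irr.fix_lt [IsSimpleGroup G] (h : Irr σ) {g : G} (hg : g ≠ 1) : finrank K (Fix σ g) < finrank K V := by
  by_contra hlt
  have h1 : Fix σ g = ⊤ := by
    apply Submodule.eq_top_of_finrank_eq
    exact le_antisymm (Submodule.finrank_le _) (not_lt.1 hlt)
  have hker : g ∈ σ.ker := by
    rw [MonoidHom.mem_ker]
    ext v
    have : v ∈ Fix σ g := by rw [h1]; trivial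
    exact mem_Fix.1 this
  have htop : σ.ker = ⊤ := by
    rcases (inferInstance : σ.ker.Normal).eq_bot_or_eq_top with h2 | h2
    · rw [h2, Subgroup.mem_bot] at hker
      exact absurd hker hg
    · exact h2
  have : Nontrivial V := Module.nontrivial_of_finrank_pos (R := K) (by have := h.two; omega)
  obtain ⟨v, hv⟩ := exists_ne (0 : V)
  refine hv (h.no_fixed fun g => ?_)
  have h3 : g ∈ σ.ker := by rw [htop]; trivial
  rw [MonoidHom.mem_ker.1 h3, Module.End.one_apply]

theorem fix_conj {g h k : G} (e : k * g = h * k) : finrank K (Fix σ h) = finrank K (Fix σ g) := by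
  rw [← conj_eq e, finrank_Fix_conj]

/-- a word -/
def ev (x y : G) (l : List Bool) : G := (l.map fun b => if b then y else x).prod

theorem ev_mem (x y : G) (l : List Bool) : ev x y l ∈ Subgroup.closure ({x, y} : Set G) := by
  refine Subgroup.list_prod_mem _ fun g hg => ?_
  rw [List.mem_map] at hg
  obtain ⟨b, -, rfl⟩ := hg
  cases b
  · exact Subgroup.subset_closure (by simp)
  · exact Subgroup.subset_closure (by simp)

end Cfsg.Agent.H882.Sc
end

-- part: H882/Sc/Core
section
prune_inst 0x2004000840000000000000120000000400009000430000612001400800c002a0000e401070000200e280806009004001000000420000000a000400001c00000080020000000000020008808880000000000000000000000000000000000000000000000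
set_option linter.all false
open scoped Cfsg.Agent.FastGrp

-- part: H882/Sc/A7
section
/-!
# `A₇` has no self-dual irreducible representation of dimension `11`, odd characteristic (helper882)
-/

set_option autoImplicit false
set_option linter.unusedSectionVars false
set_option maxRecDepth 10000

namespace Cfsg.Agent.H882.Sc.A7

open Module Equiv Cfsg.Agent.H637.JW Cfsg.Agent.H882.Dim Cfsg.Agent.H882.Sc Cfsg.Agent.H923.Ten.A7

/-- involution -/
def z : A := e2 0 1 2 3
/-- seven-cycle -/
def c : A := e2 0 2 2 1 * e2 1 3 3 4 * e2 4 5 5 6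
def yc : A := e2 1 4 4 2 * e2 3 6 6 5
def yzc : A := e2 1 5 5 2 * e2 3 4 4 6

theorem gen_zc : Subgroup.closure ({z, c} : Set A) = ⊤ := by
  apply top_of_c
  · rw [show c2 = ev z c [false, true, true, false, true, true, false, true] by decide +kernel]; exact ev_mem _ _ _
  · rw [show c3 = ev z c [false, true, false, true, true, false, true, true, false] by decide +kernel]; exact ev_mem _ _ _
  · rw [show c4 = ev z c [false, true, false, true, true, true, true, true, true] by decide +kernel]; exact ev_mem _ _ _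
  · rw [show c5 = ev z c [true, true, true, true, true, false, true, false, true] by decide +kernel]; exact ev_mem _ _ _
  · rw [show c6 = ev z c [false, true, true, false, true, true, true, false, true, true, false, true, true, false, true] by
      decide +kernel]
    exact ev_mem _ _ _

/-- five-cycle -/
def d : A := e2 1 4 4 6 * e2 6 3 3 5
def yd : A := e2 0 2 3 4 * e2 4 6 6 5

theorem gen_zd : Subgroup.closure ({z, d} : Set A) = ⊤ := by
  apply top_of_c
  · rw [show c2 = ev z d [true, true, true, false, true, false, true, false, true] by decide +kernel]; exact ev_mem _ _ _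
  · rw [show c3 = ev z d [true, false, true, false, true, false, true, true, true, false] by decide +kernel]
    exact ev_mem _ _ _
  · rw [show c4 = ev z d [true, false, true, false, true, false, true, true, false, true, false, true] by decide +kernel]
    exact ev_mem _ _ _
  · rw [show c5 = ev z d [true, false, true, false, true, true, false, true, false, true, true, false] by decide +kernel]
    exact ev_mem _ _ _
  · rw [show c6 = ev z d [true, true, false, true, true, true, false, true, false, true, false, true, false, true, true, true]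
      by decide +kernel]
    exact ev_mem _ _ _

/-- elements of type `3B` -/
def x : A := e2 0 1 1 2 * e2 3 4 4 5
def w : A := e2 0 3 3 1 * e2 4 6 6 5
theorem gen_xw : Subgroup.closure ({x, w} : Set A) = ⊤ := by
  apply top_of_c
  · rw [show c2 = ev x w [false, false, true, false, true, false, false, true, true, false, false, true, false, true] by
      decide +kernel]
    exact ev_mem _ _ _
  · rw [show c3 = ev x w [false, true, false, true, true, false, false, true, true, false, true, false, true] by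
      decide +kernel]
    exact ev_mem _ _ _
  · rw [show c4 = ev x w [false, true, true, false, true, false, true, false, false, true, false, false, true, false, true]
      by decide +kernel]
    exact ev_mem _ _ _
  · rw [show c5 = ev x w [true, false, false, true, false, true, false, false, true, false, true, true, false, true, true]
      by decide +kernel]
    exact ev_mem _ _ _
  · rw [show c6 = ev x w [true, false, true, true, false, true] by decide +kernel]; exact ev_mem _ _ _

/-! ### The theorem -/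

def b1 : A := e2 0 2 1 3
def y1 : A := e2 1 2 2 3
def b2 : A := e2 2 3 4 5
def y2 : A := e2 0 2 2 4 * e2 1 3 3 5
def p1 : A := e2 0 1 1 2
def p2 : A := e2 3 4 4 5
def t1 : A := e2 1 2 3 4
def t2 : A := e2 1 2 4 5
def yxw : A := e2 1 5 2 3 * e2 3 4 4 6

variable {K : Type*} [Field K] {V : Type*} [AddCommGroup V] [Module K V] [FiniteDimensional K V]
  {σ : A →* Module.End K V}

theorem simpleA : IsSimpleGroup A := alternatingGroup.isSimpleGroup (by simp)

theorem charP_of_zero {p : ℕ} (hp : p.Prime) (h : (p : K) = 0) : CharP K p := by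
  obtain ⟨q, hq⟩ := CharP.exists K
  have h1 : q ∣ p := (CharP.cast_eq_zero_iff K q p).1 h
  rcases (Nat.dvd_prime hp).1 h1 with h2 | h2
  · exact absurd h2 (CharP.char_ne_one K q)
  · rwa [h2] at hq

theorem fact5 : Fact (Nat.Prime 5) := ⟨by norm_num⟩
theorem fact7 : Fact (Nat.Prime 7) := ⟨by norm_num⟩

attribute [local instance] fact5 fact7

theorem res5 : ∀ j : ZMod 5, j ≠ 0 → ∃ i : Fin 5, j = ((2 : ℕ) : ZMod 5) ^ (i : ℕ) ∨ j = -((2 : ℕ) : ZMod 5) ^ (i : ℕ) := by
  decide
theorem res7 : ∀ j : ZMod 7, j ≠ 0 → ∃ i : Fin 7, j = ((2 : ℕ) : ZMod 7) ^ (i : ℕ) ∨ j = -((2 : ℕ) : ZMod 7) ^ (i : ℕ) := by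
  decide

/-- **`A₇` in dimension `11`.** -/
theorem eleven [IsAlgClosed K] (h2 : (2 : K) ≠ 0) (hI : Irr σ) {B : V →ₗ[K] V →ₗ[K] K} (hB : Form σ B)
    (hV : finrank K V = 11) : False := by
  have := simpleA
  have k1 := klein (σ := σ) h2 (a := z) (b := b1) (by decide +kernel) (by decide +kernel) (by decide +kernel) rfl
    (fix_conj (k := y1) (by decide +kernel)) (fix_conj (k := y1 * y1) (by decide +kernel))
  rw [hV] at k1
  by_cases h7 : (7 : K) = 0
  · have hch : CharP K 7 := by
      have : Fact (Nat.Prime 7) := ⟨by norm_num⟩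
      exact charP_of_zero (by norm_num) (by exact_mod_cast h7)
    have : Fact (Nat.Prime 7) := ⟨by norm_num⟩
    have : Fact (Nat.Prime 5) := ⟨by norm_num⟩
    have h3 : (3 : K) ≠ 0 := by
      intro h0
      have : (1 : K) = 0 := by
        have : (1 : K) = 7 - 2 * 3 := by norm_num
        rw [this, h7, h0, mul_zero, sub_zero]
      exact one_ne_zero this
    have h5 : ((5 : ℕ) : K) ≠ 0 := by
      intro h0
      have h0' : (5 : K) = 0 := by exact_mod_cast h0
      have : (1 : K) = 0 := by
        have : (1 : K) = 3 * 5 - 2 * 7 := by norm_num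
        rw [this, h7, h0', mul_zero, mul_zero, sub_zero]
      exact one_ne_zero this
    obtain ⟨m, hm⟩ := eig hB (c := d) (y := yd) (r := 5) (k := 2) h5 (by decide +kernel) (by decide +kernel) res5
    obtain ⟨m', hm'⟩ := eig hB (c := x * w) (y := yxw) (r := 5) (k := 2) h5 (by decide +kernel) (by decide +kernel)
      res5
    have l1 := hI.fix_lt (g := d) (by decide +kernel)
    have l2 := hI.fix_lt (g := x * w) (by decide +kernel)
    have c1 := le_of_char (σ := σ) (p := 7) (c := z * d) (by decide +kernel)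
    have s1 := hI.scott gen_zd
    have s2 := hI.scott gen_xw
    have a1 := a4_le (σ := σ) h2 (a := z) (b := b1) (y := y1) (by decide +kernel) (by decide +kernel) (by decide +kernel)
      (by decide +kernel) (by decide +kernel)
    have a2 := a4_le (σ := σ) h2 (a := z) (b := b2) (y := y2) (by decide +kernel) (by decide +kernel) (by decide +kernel)
      (by decide +kernel) (by decide +kernel)
    obtain ⟨n1, hn1⟩ := even_of_inv (σ := σ) h2 h3 (a := t1) (y := p1) (by decide +kernel) (by decide +kernel)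
      (by decide +kernel)
    obtain ⟨n2, hn2⟩ := even_of_inv (σ := σ) h2 h3 (a := t2) (y := x) (by decide +kernel) (by decide +kernel)
      (by decide +kernel)
    have e9 := nine' (σ := σ) h3 (x := p1) (y := p2) (by decide +kernel) (by decide +kernel) (by decide +kernel)
    have q1 : finrank K (Fix σ p2) = finrank K (Fix σ p1) := fix_conj (k := e2 0 3 1 4 * e2 4 2 2 5) (by decide +kernel)
    have q2 : finrank K (Fix σ (p1 * p2)) = finrank K (Fix σ x) := by
      rw [show p1 * p2 = x by decide +kernel]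
    have q3 : finrank K (Fix σ (p1 * p1 * p2)) = finrank K (Fix σ x) :=
      fix_conj (k := e2 0 3 1 4 * e2 4 2 2 5) (by decide +kernel)
    have q4 : finrank K (Fix σ y2) = finrank K (Fix σ x) := fix_conj (k := e2 0 1 1 3 * e2 2 5 5 4) (by decide +kernel)
    have q5 : finrank K (Fix σ y1) = finrank K (Fix σ p1) := fix_conj (k := e2 5 6 0 1 * e2 1 2 2 3) (by decide +kernel)
    have q6 : finrank K (Fix σ w) = finrank K (Fix σ x) := fix_conj (k := e2 1 3 3 4 * e2 4 6 6 2) (by decide +kernel)
    omega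
  · have h7' : ((7 : ℕ) : K) ≠ 0 := by exact_mod_cast h7
    obtain ⟨m, hm⟩ := eig hB (c := c) (y := yc) (r := 7) (k := 2) h7' (by decide +kernel) (by decide +kernel) res7
    obtain ⟨m', hm'⟩ := eig hB (c := z * c) (y := yzc) (r := 7) (k := 2) h7' (by decide +kernel) (by decide +kernel)
      res7
    have l1 := hI.fix_lt (g := c) (by decide +kernel)
    have l2 := hI.fix_lt (g := z * c) (by decide +kernel)
    have s1 := hI.scott gen_zc
    omega

end Cfsg.Agent.H882.Sc.A7
end

-- part: H882/Sc/Core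
section
/-!
# Scott's lemma for cores (helper882)

`P` a core (`H915.LD.Core`), `e : P ≃* T` : the representation `TL.repOf e` over the algebraic closure is irreducible, and
it has an invariant form if `P` fixes a quadratic form (characteristic `≠ 2`).
-/

set_option autoImplicit false
set_option linter.unusedSectionVars false

namespace Cfsg.Agent.H882.Sc

open Module Matrix Cfsg Cfsg.Geo Cfsg.Agent.H637.JW Cfsg.Agent.H915.LD

universe u v

variable {ι : Type} [Fintype ι] [DecidableEq ι] {F : Type u} [Field F] {P : Subgroup (GL ι F)} {T : Type v} [Group T]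

/-- the span over the closure -/
theorem span_clo (h : ActsAbsolutelyIrreducibly (matrixSet P)) (U : Submodule (AlgebraicClosure F) (ι → AlgebraicClosure F))
    (hU : ∀ g ∈ P, ∀ u ∈ U, H879.TL.clo ι F g u ∈ U) (M : Matrix ι ι (AlgebraicClosure F)) {u : ι → AlgebraicClosure F}
    (hu : u ∈ U) : M *ᵥ u ∈ U := by
  have h1 := H906.span_subtype h
  have h2 : ∀ A : Matrix ι ι F, (A.map (algebraMap F (AlgebraicClosure F))) *ᵥ u ∈ U := by
    intro A
    have hA : A ∈ Submodule.span F (Set.range ((Units.coeHom (Matrix ι ι F)).comp P.subtype)) := by rw [h1]; trivial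
    induction hA using Submodule.span_induction with
    | mem x hx =>
      obtain ⟨g, rfl⟩ := hx
      exact hU g g.2 u hu
    | zero =>
      rw [Matrix.map_zero _ (map_zero _), Matrix.zero_mulVec]
      exact Submodule.zero_mem _
    | add x y _ _ hx hy =>
      rw [Matrix.map_add _ (map_add _), Matrix.add_mulVec]
      exact Submodule.add_mem _ hx hy
    | smul c x _ hx =>
      have : (c • x).map (algebraMap F (AlgebraicClosure F)) =
          (algebraMap F (AlgebraicClosure F) c) • x.map (algebraMap F (AlgebraicClosure F)) := by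
        ext i j
        simp
      rw [this, Matrix.smul_mulVec]
      exact Submodule.smul_mem _ _ hx
  rw [Matrix.matrix_eq_sum_single M, Matrix.sum_mulVec]
  refine Submodule.sum_mem _ fun i _ => ?_
  rw [Matrix.sum_mulVec]
  refine Submodule.sum_mem _ fun j _ => ?_
  have h3 : Matrix.single i j (M i j) = M i j • (Matrix.single i j (1 : F)).map (algebraMap F (AlgebraicClosure F)) := by
    ext k l
    simp [Matrix.single_apply]
  rw [h3, Matrix.smul_mulVec]
  exact Submodule.smul_mem _ _ (h2 _)

theorem irr_of_core (hC : Core P) (e : P ≃* T) : Irr (H879.TL.repOf e) where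
  irr := by
    intro U hU
    by_cases hb : U = ⊥
    · exact Or.inl hb
    · right
      obtain ⟨v, hv, hv0⟩ := Submodule.exists_mem_ne_zero_of_ne_bot hb
      obtain ⟨j, hj⟩ : ∃ j, v j ≠ 0 := by
        by_contra hcon
        push Not at hcon
        exact hv0 (funext hcon)
      rw [eq_top_iff]
      intro w _
      have hU' : ∀ g ∈ P, ∀ u ∈ U, H879.TL.clo ι F g u ∈ U := by
        intro g hg u hu
        have := hU (e ⟨g, hg⟩) u hu
        rwa [H879.TL.repOf_apply] at this
      have h2 := span_clo hC.absIrred U hU' (Matrix.vecMulVec w (Pi.single j (v j)⁻¹)) hv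
      rw [Matrix.vecMulVec_mulVec, single_dotProduct, inv_mul_cancel₀ hj] at h2
      simpa using h2
  two := by
    rw [H879.TL.finrank_clo]
    exact hC.two_le

/-- the matrix of a fixed form -/
theorem exists_matrix (h2 : (2 : F) ≠ 0) (h : FixQ P) : ∃ M : Matrix ι ι F, M.det ≠ 0 ∧
    ∀ g ∈ P, (g : Matrix ι ι F)ᵀ * M * (g : Matrix ι ι F) = M := by
  obtain ⟨Q, hQ, hP⟩ := h
  set f := QuadraticMap.polar Q with hfdef
  have hf := hQ.polar_bilinear
  have hfix : ∀ g ∈ P, ∀ v w, f ((g : Matrix ι ι F) *ᵥ v) ((g : Matrix ι ι F) *ᵥ w) = f v w := by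
    intro g hg v w
    simp only [hfdef]
    unfold QuadraticMap.polar
    rw [← Matrix.mulVec_add, hP _ ⟨g, hg, rfl⟩, hP _ ⟨g, hg, rfl⟩, hP _ ⟨g, hg, rfl⟩]
  let B : (ι → F) →ₗ[F] (ι → F) →ₗ[F] F := LinearMap.mk₂ F f hf.add_left (fun c x y => hf.smul_left c x y)
    (fun x y z => hf.add_right x y z) (fun c x y => hf.smul_right c x y)
  have hB : ∀ a b, B a b = f a b := fun a b => rfl
  set M : Matrix ι ι F := LinearMap.toMatrix₂' F B with hM
  have hf' : ∀ a b, f a b = a ⬝ᵥ M *ᵥ b := by
    intro a b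
    rw [← Matrix.toLinearMap₂'_apply', hM, Matrix.toLinearMap₂'_toMatrix', hB]
  refine ⟨M, ?_, ?_⟩
  · intro h0
    obtain ⟨v, hv, hv0⟩ := Matrix.exists_mulVec_eq_zero_iff.2 h0
    obtain ⟨⟨x, hx⟩, -⟩ := hQ.nondegenerate v hv
    apply hx
    rw [← hfdef, hf', hv0, dotProduct_zero]
  · intro g hg
    have h1 : B.compl₁₂ (Matrix.toLin' (g : Matrix ι ι F)) (Matrix.toLin' (g : Matrix ι ι F)) = B := by
      apply LinearMap.ext₂
      intro a b
      rw [LinearMap.compl₁₂_apply, hB, hB, Matrix.toLin'_apply, Matrix.toLin'_apply]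
      exact hfix g hg a b
    have h2 := LinearMap.toMatrix₂'_compl₁₂ (R := F) B (Matrix.toLin' (g : Matrix ι ι F))
      (Matrix.toLin' (g : Matrix ι ι F))
    rw [h1, LinearMap.toMatrix'_toLin'] at h2
    exact h2.symm

/-- the form over the algebraic closure -/
theorem form_of_fixQ (h2 : (2 : F) ≠ 0) (h : FixQ P) (e : P ≃* T) :
    ∃ B : (ι → AlgebraicClosure F) →ₗ[AlgebraicClosure F] (ι → AlgebraicClosure F) →ₗ[AlgebraicClosure F]
      AlgebraicClosure F, Form (H879.TL.repOf e) B := by
  obtain ⟨M, hM, hinv⟩ := exists_matrix h2 h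
  set K := AlgebraicClosure F
  set N : Matrix ι ι K := M.map (algebraMap F K) with hN
  have hdet : N.det ≠ 0 := by
    rw [hN, ← RingHom.mapMatrix_apply, ← RingHom.map_det]
    exact fun h0 => hM ((algebraMap F K).injective (h0.trans (map_zero _).symm))
  refine ⟨Matrix.toLinearMap₂' K N.transpose, ?_, ?_⟩
  · intro g v w
    obtain ⟨g, rfl⟩ := e.surjective g
    rw [H879.TL.repOf_apply, H879.TL.clo_apply, H879.TL.clo_apply, Matrix.toLinearMap₂'_apply',
      Matrix.toLinearMap₂'_apply']
    have h1 := congrArg (fun A : Matrix ι ι F => A.map (algebraMap F K)) (hinv g g.2)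
    simp only [Matrix.map_mul, Matrix.transpose_map] at h1
    set A : Matrix ι ι K := ((g : GL ι F) : Matrix ι ι F).map (algebraMap F K) with hA
    have h3 : Aᵀ * Nᵀ * A = Nᵀ := by
      have := congrArg Matrix.transpose h1
      rw [Matrix.transpose_mul, Matrix.transpose_mul, Matrix.transpose_transpose, ← Matrix.mul_assoc] at this
      exact this
    have h4 : v ⬝ᵥ ((Aᵀ * Nᵀ * A) *ᵥ w) = (A *ᵥ v) ⬝ᵥ (Nᵀ *ᵥ (A *ᵥ w)) := by
      rw [← Matrix.mulVec_mulVec, ← Matrix.mulVec_mulVec, Matrix.dotProduct_mulVec v Aᵀ, Matrix.vecMul_transpose]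
    rw [← h4, h3]
  · intro v hv
    by_contra hv0
    have h1 : v ᵥ* Nᵀ = 0 := by
      funext j
      have := hv (Pi.single j 1)
      rw [Matrix.toLinearMap₂'_apply', Matrix.dotProduct_mulVec] at this
      simpa using this
    rw [Matrix.vecMul_transpose] at h1
    exact hdet (Matrix.exists_mulVec_eq_zero_iff.1 ⟨v, hv0, h1⟩)

/-- **`A₇` in orthogonal groups of dimension `11`.** -/
theorem a7_eleven (hC : Core P) (h2 : (2 : F) ≠ 0) (hQ : FixQ P) (hn : Fintype.card ι = 11)
    (e : Soc P ≃* alternatingGroup (Fin 7)) : False := by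
  have hbot := H879.TL.scalars_bot_of_odd hC hQ (by rw [hn]; decide)
  let e' := (H879.TL.socEquiv hbot).trans e
  obtain ⟨B, hB⟩ := form_of_fixQ h2 hQ e'
  exact A7.eleven (H879.TL.two_ne_clo h2) (irr_of_core hC e') hB (H879.TL.finrank_clo.trans hn)

end Cfsg.Agent.H882.Sc
end
end

-- part: H879/TL/KillSp
section
set_option linter.all false
open scoped Cfsg.Agent.FastGrp

/-!
# Cores with socle `PSp_{2m}(q)`, `m ≥ 3`, `q` odd (helper879)

**`kill_psp`** : `P ≤ GL(ι, F)` a core without scalars, `char F ≠ 2`, `P ≃ PSp m E`, `|E|` odd, `m ≥ 3`: `|ι| ≥ 12`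
(the characteristics of `E` and `F` may be equal or different).
-/

set_option autoImplicit false
set_option linter.unusedSectionVars false

namespace Cfsg.Agent.H879.TL

open Module Matrix Cfsg Cfsg.Geo Cfsg.Agent.H915.LD

universe u v

variable {ι : Type} [Fintype ι] [DecidableEq ι] {F : Type u} [Field F] {P : Subgroup (GL ι F)}

theorem kill_psp (hC : Core P) (h2 : (2 : F) ≠ 0) (hbot : (scalars ι F).subgroupOf P = ⊥) {m : ℕ} (hm : 3 ≤ m)
    {E : Type v} [Field E] [Fintype E] (hE : Odd (Fintype.card E)) (e : Soc P ≃* Cfsg.PSp m E) :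
    12 ≤ Fintype.card ι := by
  by_contra hlt
  have hs := hC.simple
  have hsT : IsSimpleGroup (Cfsg.PSp m E) := e.symm.isSimpleGroup
  exact no_trivial hC ((socEquiv hbot).trans e) fun g =>
    Sp.psp_twelve hE hm hsT (two_ne_clo h2) _ (by rw [finrank_clo]; omega) g

end Cfsg.Agent.H879.TL
end
end
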