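import Cfsg.Agent.H830.O10.Sev.Kill_m3
import Cfsg.Agent.H937.T2Rep_m3
import Cfsg.Agent.H36.U52.Main
import Cfsg.Agent.H916.SpSixK_mg
import Cfsg.Agent.H203.LSTor_m3
import Cfsg.Agent.H936.U33Two
import Cfsg.Agent.H937.T2Fields_m3
import Cfsg.Agent.H464.L2Num_m3
import Cfsg.Agent.H937.T2Nine
import Cfsg.Agent.StdAlt.Six.AutLemmas
import Cfsg.Agent.H922.OddBase
import Cfsg.Agent.H933.O10.Base_m3
import Cfsg.Agent.H871.Par10_m3
import Cfsg.Agent.H875.TwoQuad
import Cfsg.Agent.H840.L34.Kill_m3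
import Cfsg.Agent.H957.Bridge
import Cfsg.Agent.H932.Spinor
import Cfsg.Agent.H932.TypeClass
import Cfsg.Agent.H614.AMod.Main
import Cfsg.Agent.H614.AMod.EightF_m3
import Cfsg.Agent.H114.AltNorm
import Cfsg.Agent.H870.MEleven.Main_m3
import Cfsg.Agent.H882.Del.Stein
import Cfsg.Agent.H6.M11.Stage11
import Cfsg.Agent.H933.JOneTen
import Cfsg.Agent.H936.List12c
import Cfsg.Agent.H925.U52Form
import Cfsg.Agent.H936.U33All
import Cfsg.Agent.H175.LD.Core33
import Cfsg.Agent.H95.JT.Core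
import Cfsg.Agent.H814.SzEightCore
import Cfsg.Agent.H4.LDM.Stage24
import Cfsg.Agent.Lib.PermCode
import Cfsg.Agent.SporadicA.SharpFour
import Cfsg.Agent.H906.Cover_m3
import Cfsg.Agent.SectRankFour.AutM11
import Cfsg.Agent.UGT.End.MEleven
import Cfsg.Agent.S2034
import Cfsg.Agent.H36.M12.Kill
import Cfsg.Agent.H392.TD.Main
import Cfsg.Agent.H887.DS.SixFive
import Cfsg.Agent.H905.Sp4Adj
import Cfsg.Agent.H924.D5L
import Cfsg.Agent.H925.NatMain
import Cfsg.Agent.H708.ReeSix_m3
import Cfsg.Agent.H708.ReeTw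
import Cfsg.Agent.H927.G2Main
import Cfsg.Agent.H927.LDTwF4
import Cfsg.Agent.H921.M22.Final_m3
import Cfsg.Agent.H878.Sz.MainThree
import Cfsg.Agent.H878.Sz.MainP3
import Cfsg.Agent.H937.G24.Row
import Cfsg.Agent.FastGrp
import Cfsg.Agent.Prune
set_option linter.all false

section
prune_inst 0x7fb4a9f9abb809dfdfff7e7fa6dccffdf8b93fffe6dff9cb7fe061ff0b9f4b00c9c5238d8be010fc0e96421410e87b03f9fffeffe06bfc7ffffd5ff41ffbffcfedf73508519488340fb40ff603f0778e7f3fffffffffffffffffffffffffffbeffbfffffffff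

-- part: H933/O10/Cross
section
prune_inst 0x4010004000122000000000000000000000000000000000800000000040000200004800000a00000040a0000010001002000000000400000000a000000000000000000000000400000000000000000000000000000000000000000000000000000000000000
set_option linter.all false
open scoped Cfsg.Agent.FastGrp

-- part: H933/O10/Rows
section
/-!
# S5848 and S5851: landed rows (helper933)
-/

set_option autoImplicit false
set_option linter.unusedSectionVars false

namespace Cfsg.Agent.H933.O10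

open Cfsg Cfsg.Geo Matrix Cfsg.Agent.H915.LD Cfsg.Agent.H912.Bd Cfsg.Agent.H912.Five

universe u v

variable {F : Type u} [Field F] [Fintype F] {p : ℕ} {Q : (Fin 10 → F) → F} {H P : Subgroup (GL (Fin 10) F)}

theorem Cx.two_ne (h : Cx p Q H P) (hp : p ≠ 2) : (2 : F) ≠ 0 := by
  have := h.ne_zero (r := 2) Nat.prime_two hp
  exact_mod_cast this

theorem row_a5 (h : Cx p Q H P) (hp : p ≠ 5) (e : Nonempty (Soc P ≃* alternatingGroup (Fin 5))) : False := by
  obtain ⟨e⟩ := e
  have := Fact.mk h.prime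
  have := h.char
  have h1 := H937.T2.a5_dims p h.core e hp
  rw [Fintype.card_fin] at h1
  exact absurd h1 (by decide)

theorem zero_or_one {K : Type v} [Field K] [Fintype K] (hK : Fintype.card K = 2) (x : K) : x = 0 ∨ x = 1 := by
  have h1 := FiniteField.pow_card x
  rw [hK] at h1
  have h2 : x * (x - 1) = 0 := by linear_combination h1
  rcases mul_eq_zero.1 h2 with h3 | h3
  · exact Or.inl h3
  · exact Or.inr (sub_eq_zero.1 h3)

theorem row_s62 (h : Cx p Q H P) (hp : p ≠ 2) (hT : IsS 3 2 (Soc P)) : False := by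
  obtain ⟨K, i1, i2, hK, ⟨e⟩⟩ := hT
  have h1 := H916.SpSix.spSix_dim (zero_or_one hK) h.core e (h.two_ne hp) (by rw [Fintype.card_fin]; norm_num)
  rw [Fintype.card_fin] at h1
  omega

theorem row_o82 (h : Cx p Q H P) (hp : p ≠ 2) (hT : IsOP 4 2 (Soc P)) : False := by
  obtain ⟨K, i1, i2, hK, ⟨e⟩⟩ := hT
  have h1 := H916.Om.omega_dim (zero_or_one hK) h.core e (h.two_ne hp) (by rw [Fintype.card_fin]; norm_num)
  rw [Fintype.card_fin] at h1
  omega

theorem row_u62 (h : Cx p Q H P) (hp : p ≠ 2) (hT : IsU 6 2 (Soc P)) : False := by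
  obtain ⟨K, i1, i2, hK, he⟩ := hT
  have := Fact.mk h.prime
  have := h.char
  have h1 := H936.List12.le_of_ls' h.core (H936.List12.cast_ne Nat.prime_two hp.symm)
    (H95.LSx.Uni.ls_u62 (K := K) (by rw [hK]; norm_num)) he
  omega

theorem row_g23 (h : Cx p Q H P) (hp : p ≠ 3) (hT : H912.Bd.IsG2 3 (Soc P)) : False := by
  obtain ⟨K, i1, i2, hK, he⟩ := hT
  have := Fact.mk h.prime
  have := h.char
  have h1 := H936.List12.le_of_ls' h.core (H936.List12.cast_ne Nat.prime_three hp.symm) (H95.LSx.G23.ls hK) he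
  omega

/-- `U₃(3)`, from the row for odd `p` -/
theorem row_u33 (h : Cx p Q H P) (hT : IsU 3 3 (Soc P)) (hodd : p ≠ 2 → False) : False := by
  obtain ⟨K, i1, i2, hK, he⟩ := hT
  by_cases hp : p = 2
  · subst hp
    have := h.char
    have h1 := (H936.U33Two.u33_two h.core (by rw [hK]; norm_num) he (by rw [Fintype.card_fin]; norm_num)).1
    rw [Fintype.card_fin] at h1
    omega
  · exact hodd hp

end Cfsg.Agent.H933.O10
end

-- part: H937/O10Det
section
/-!
# Outer automorphisms of `A₆` have determinant `-1` in dimension ten (helper937)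

`|K| = 9`, `R : SL₂(K) → End V` irreducible of dimension ten with `R (-1) = 1`, `f` an invariant symmetric form, `T` an
isometry of `f` normalising `R(U)` and `R(T)` and inducing on `U` the map `x ↦ γ x` or `x ↦ γ x³` with `γ` a
non-square: `det T = -1`.
-/

set_option autoImplicit false
set_option linter.unusedSectionVars false

namespace Cfsg.Agent.H937.T2

open Matrix Module Cfsg Cfsg.Geo Cfsg.Agent.H464.Sl2 Cfsg.Agent.H931.L2T Cfsg.Agent.H915.LD

/-! ### general lemmas -/

/-- the determinant of a monomial map -/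
theorem det_mono {I : Type*} [Fintype I] [DecidableEq I] {k V : Type*} [Field k] [AddCommGroup V] [Module k V]
    (B : Basis I k V) (T : V →ₗ[k] V) (π : Equiv.Perm I) (c : I → k) (h : ∀ i, T (B i) = c i • B (π i)) :
    LinearMap.det T = ((Equiv.Perm.sign π : ℤ) : k) * ∏ i, c i := by
  rw [← LinearMap.det_toMatrix B T]
  have h1 : LinearMap.toMatrix B B T = (Matrix.diagonal c).submatrix π.symm id := by
    ext i j
    rw [LinearMap.toMatrix_apply, h, map_smul, Basis.repr_self, Finsupp.smul_apply, smul_eq_mul, Matrix.submatrix_apply,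
      id_eq]
    by_cases hij : π j = i
    · rw [hij, Finsupp.single_eq_same, ← hij, Equiv.symm_apply_apply, Matrix.diagonal_apply_eq, mul_one]
    · rw [Finsupp.single_eq_of_ne (Ne.symm hij), mul_zero, Matrix.diagonal_apply_ne]
      intro h2
      apply hij
      rw [← h2, Equiv.apply_symm_apply]
  rw [h1, Matrix.det_permute, Matrix.det_diagonal, Equiv.Perm.sign_symm]

/-- `j ↦ 3 j + m` -/
def semi (m : ZMod 8) : Equiv.Perm (ZMod 8) where
  toFun j := 3 * j + m
  invFun j := 3 * (j - m)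
  left_inv j := by
    revert m j; decide
  right_inv j := by revert m j; decide

theorem sign_lin : ∀ m : ZMod 8, m.val % 2 = 1 → Equiv.Perm.sign (Equiv.addRight m) = -1 := by decide +kernel

theorem odd_cases : ∀ m : ZMod 8, m.val % 2 = 1 → m = 1 ∨ m = 3 ∨ m = 5 ∨ m = 7 := by decide

theorem dbl_cases : ∀ m : ZMod 8, m.val % 2 = 1 → m + m = 2 ∨ m + m = 6 := by decide

theorem four_mul : ∀ m : ZMod 8, m.val % 2 = 1 → 3 * m + m = 4 := by decide

theorem sign_semi : ∀ m : ZMod 8, m.val % 2 = 1 → Equiv.Perm.sign (semi m) = 1 := by decide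

section field

variable {K : Type*} [Field K]

/-- the powers of an element of order eight -/
def pw (a : Kˣ) (j : ZMod 8) : Kˣ := a ^ j.val

theorem pw_add {a : Kˣ} (h8 : a ^ 8 = 1) (i j : ZMod 8) : pw a (i + j) = pw a i * pw a j := by
  unfold pw
  rw [ZMod.val_add, ← pow_add]
  conv_rhs => rw [← Nat.mod_add_div (i.val + j.val) 8, pow_add, pow_mul, h8, one_pow, mul_one]

theorem pw_four {a : Kˣ} (h4 : a ^ 4 = -1) : pw a 4 = -1 := h4

theorem pw_inj {a : Kˣ} (h4 : a ^ 4 = -1) (h2 : (2 : K) ≠ 0) {i j : ZMod 8} (h : pw a i = pw a j) : i = j := by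
  have hn1 : (-1 : Kˣ) ≠ 1 := by
    intro h
    have := congrArg Units.val h
    rw [Units.val_neg, Units.val_one] at this
    apply h2
    linear_combination -this
  have ho : orderOf a = 8 := by
    have : orderOf a = 2 ^ (2 + 1) := by
      apply orderOf_eq_prime_pow
      · rw [show 2 ^ 2 = 4 by norm_num, h4]; exact hn1
      · rw [show 2 ^ (2 + 1) = 4 * 2 by norm_num, pow_mul, h4]; simp only [_root_.even_two, _root_.Even.neg_pow, _root_.one_pow]
    rw [this]
    norm_num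
  have h1 := (pow_inj_mod (x := a) (n := i.val) (m := j.val)).1 h
  rw [ho, Nat.mod_eq_of_lt (ZMod.val_lt i), Nat.mod_eq_of_lt (ZMod.val_lt j)] at h1
  exact ZMod.val_injective 8 h1

/-- a Frobenius-invariant primitive character -/
theorem exists_prim_frob [Fintype K] (h9 : Fintype.card K = 9) [CharP K 3] {k : Type*} [Field k] {ψ : AddChar K k}
    (hψ : ψ.IsPrimitive) : ∃ ψ' : AddChar K k, ψ'.IsPrimitive ∧ ∀ y, ψ' (y ^ 3) = ψ' y := by
  have h1 : ψ ≠ 1 := by
    have := hψ (a := 1) one_ne_zero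
    intro h
    apply this
    rw [h]
    ext x
    rfl
  obtain ⟨c, hc⟩ := AddChar.ne_one_iff.1 h1
  have hf : Fact (Nat.Prime 3) := ⟨Nat.prime_three⟩
  let φ : K →+ K :=
    { toFun := fun y => c * (y + y ^ 3)
      map_zero' := by simp
      map_add' := fun x y => by
        rw [add_pow_char]
        ring }
  refine ⟨ψ.compAddMonoidHom φ, AddChar.IsPrimitive.of_ne_one ?_, ?_⟩
  · rw [AddChar.ne_one_iff]
    refine ⟨-1, ?_⟩
    have h3 : (3 : K) = 0 := by exact_mod_cast CharP.cast_eq_zero K 3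
    have h2 : φ (-1) = c := by
      change c * (-1 + (-1) ^ 3) = c
      linear_combination -c * h3
    rw [AddChar.compAddMonoidHom_apply, h2]
    exact hc
  · intro y
    rw [AddChar.compAddMonoidHom_apply, AddChar.compAddMonoidHom_apply]
    congr 1
    change c * (y ^ 3 + (y ^ 3) ^ 3) = c * (y + y ^ 3)
    have h2 : y ^ 9 = y := by rw [← h9]; exact FiniteField.pow_card y
    rw [← pow_mul, show 3 * 3 = 9 by norm_num, h2]
    ring

end field

/-! ### the module -/

section rep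

variable {K : Type*} [Field K] [Fintype K] {k : Type*} [Field k] {V : Type*} [AddCommGroup V]
  [Module k V] [FiniteDimensional k V] {R : _root_.Matrix.SpecialLinearGroup (Fin 2) K →* Module.End k V} {ψ : AddChar K k}
  {v : V} {lam : Kˣ →* k} {a : Kˣ}

/-- the weight vectors -/
noncomputable def Wv (R : _root_.Matrix.SpecialLinearGroup (Fin 2) K →* Module.End k V) (ψ : AddChar K k) (v : V) (a : Kˣ)
    (j : ZMod 8) : V := E R ψ (pw a j : K) (R (w 1) v)

/-- the hypotheses -/
structure Ten (R : _root_.Matrix.SpecialLinearGroup (Fin 2) K →* Module.End k V) (ψ : AddChar K k) (v : V) (lam : Kˣ →* k)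
    (a : Kˣ) : Prop where
  prim : ψ.IsPrimitive
  card : (Fintype.card K : k) ≠ 0
  two : (2 : k) ≠ 0
  twoK : (2 : K) ≠ 0
  span : Submodule.span k (Set.range R) = ⊤
  hw : Hw R ψ v lam
  r0 : finrank k (LinearMap.range (E R ψ 0)) = 2
  r1 : ∀ b : K, b ≠ 0 → finrank k (LinearMap.range (E R ψ b)) = 1
  four : a ^ 4 = -1
  lam2 : lam a ^ 2 = -1
  dim : finrank k V = 10

variable (S : Ten R ψ v lam a)

include S

theorem Ten.eight : a ^ 8 = 1 := by
  rw [show 8 = 4 * 2 by norm_num, pow_mul, S.four]; simp only [_root_.even_two, _root_.Even.neg_pow, _root_.one_pow]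

theorem Ten.lam_ne : lam a ≠ 0 := by
  intro h
  have := S.lam2
  rw [h] at this
  apply S.two
  linear_combination 2 * this

theorem Ten.E_ne {b : K} (hb : b ≠ 0) : E R ψ b ≠ 0 := by
  intro h
  have := S.r1 b hb
  rw [h, LinearMap.range_zero, finrank_bot] at this
  exact zero_ne_one this

theorem Ten.W_ne (j : ZMod 8) : Wv R ψ v a j ≠ 0 := by
  classical
  intro h
  exact S.E_ne (pw a j).ne_zero (S.hw.E_eq_zero S.prim S.card S.span (pw a j).ne_zero h)

theorem Ten.W_mem (j : ZMod 8) : E R ψ (pw a j : K) (Wv R ψ v a j) = Wv R ψ v a j := by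
  unfold Wv
  rw [← Module.End.mul_apply, E_mul_self R S.prim S.card]

theorem Ten.W_other {j : ZMod 8} {b : K} (hb : b ≠ pw a j) : E R ψ b (Wv R ψ v a j) = 0 := by
  unfold Wv
  rw [← Module.End.mul_apply, E_mul_of_ne R S.prim S.card hb, LinearMap.zero_apply]

/-- the weight spaces are lines -/
theorem Ten.line {j : ZMod 8} {x : V} (hx : E R ψ (pw a j : K) x = x) : ∃ c : k, x = c • Wv R ψ v a j := by
  have h1 := S.r1 (pw a j : K) (pw a j).ne_zero
  have h2 : Wv R ψ v a j ∈ LinearMap.range (E R ψ (pw a j : K)) := ⟨_, S.W_mem j⟩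
  obtain ⟨c, hc⟩ := (finrank_eq_one_iff_of_nonzero' (⟨_, h2⟩ : LinearMap.range (E R ψ (pw a j : K)))
    (fun h => S.W_ne j (congrArg Subtype.val h))).1 h1 ⟨x, ⟨x, hx⟩⟩
  exact ⟨c, (congrArg Subtype.val hc).symm⟩

theorem Ten.t_W (j : ZMod 8) : R (t a) (Wv R ψ v a j) = (lam a)⁻¹ • Wv R ψ v a (j + 6) := by
  unfold Wv
  have h1 : (pw a j : K) / (a : K) ^ 2 = (pw a (j + 6) : K) := by
    rw [pw_add S.eight, div_eq_iff (pow_ne_zero _ a.ne_zero)]
    have h2 : pw a 6 = a ^ 6 := rfl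
    rw [h2, ← Units.val_pow_eq_pow_val, ← Units.val_mul, mul_assoc, ← pow_add, S.eight, mul_one]
  rw [← Module.End.mul_apply, t_mul_E, h1, Module.End.mul_apply, ← Module.End.mul_apply (R (t a)), ← map_mul]
  have h2 : t a * w 1 = w (1 : Kˣ) * t a⁻¹ := Cfsg.Agent.H464.Sl2.t_mul_w a 1
  rw [h2, map_mul, Module.End.mul_apply, S.hw.tor, map_smul, map_smul, lam_inv]

theorem Ten.v_ne : v ≠ 0 := S.hw.ne

theorem Ten.E_v {b : K} (hb : b ≠ 0) : E R ψ b v = 0 := by
  classical
  exact S.hw.E_v S.prim S.card hb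

theorem Ten.E_zero_vs : E R ψ 0 (vs R ψ v) = vs R ψ v := by
  unfold vs
  rw [← Module.End.mul_apply, E_mul_self R S.prim S.card]

theorem Ten.E_vs {b : K} (hb : b ≠ 0) : E R ψ b (vs R ψ v) = 0 := by
  unfold vs
  rw [← Module.End.mul_apply, E_mul_of_ne R S.prim S.card hb, LinearMap.zero_apply]

/-- the basis -/
theorem Ten.exists_basis : ∃ B : Basis (Fin 2 ⊕ ZMod 8) k V, B (Sum.inl 0) = v ∧ B (Sum.inl 1) = vs R ψ v ∧
    ∀ j, B (Sum.inr j) = Wv R ψ v a j := by
  have hli : LinearIndependent k (Sum.elim ![v, vs R ψ v] (Wv R ψ v a) : Fin 2 ⊕ ZMod 8 → V) := by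
    rw [Fintype.linearIndependent_iff]
    intro g hg
    rw [Fintype.sum_sum_type] at hg
    simp only [Sum.elim_inl, Sum.elim_inr, Fin.sum_univ_two, Matrix.cons_val_zero, Matrix.cons_val_one] at hg
    have h1 : ∀ j, g (Sum.inr j) = 0 := by
      intro j
      have h2 := congrArg (E R ψ (pw a j : K)) hg
      rw [map_add, map_add, map_smul, map_smul, S.E_v (pw a j).ne_zero, S.E_vs (pw a j).ne_zero, smul_zero, smul_zero,
        zero_add, zero_add, map_sum, map_zero, Finset.sum_eq_single j] at h2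
      · rw [map_smul, S.W_mem] at h2
        exact (smul_eq_zero.1 h2).resolve_right (S.W_ne j)
      · intro l _ hl
        rw [map_smul, S.W_other, smul_zero]
        intro h3
        exact hl (pw_inj S.four S.twoK (Units.ext h3)).symm
      · intro h
        exact absurd (Finset.mem_univ _) h
    have h2 : g (Sum.inl 0) • v + g (Sum.inl 1) • vs R ψ v = 0 := by
      rw [← hg]
      simp [h1]
    obtain ⟨h3, h4⟩ := S.hw.indep S.prim S.card S.span S.r0
    have h5 : g (Sum.inl 1) = 0 := by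
      by_contra h
      apply h3
      rw [Submodule.mem_span_singleton]
      refine ⟨-((g (Sum.inl 1))⁻¹ * g (Sum.inl 0)), ?_⟩
      have h6 : vs R ψ v = (g (Sum.inl 1))⁻¹ • (g (Sum.inl 1) • vs R ψ v) := by
        rw [smul_smul, inv_mul_cancel₀ h, one_smul]
      rw [h6, eq_neg_of_add_eq_zero_right h2, smul_neg, smul_smul, neg_smul]
    have h6 : g (Sum.inl 0) = 0 := by
      rw [h5, zero_smul, add_zero] at h2
      exact (smul_eq_zero.1 h2).resolve_right S.v_ne
    rintro (i | j)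
    · fin_cases i
      · exact h6
      · exact h5
    · exact h1 j
  have hc : Fintype.card (Fin 2 ⊕ ZMod 8) = finrank k V := by
    rw [S.dim, Fintype.card_sum, ZMod.card, Fintype.card_fin]
  refine ⟨basisOfLinearIndependentOfCardEqFinrank hli hc, ?_, ?_, fun j => ?_⟩ <;>
    rw [coe_basisOfLinearIndependentOfCardEqFinrank] <;> rfl

/-! #### the form -/

section form

variable (f : V →ₗ[k] V →ₗ[k] k) (hsym : ∀ x y, f x y = f y x) (hnd : ∀ x, (∀ y, f x y = 0) → x = 0)
  (hinv : ∀ g x y, f (R g x) (R g y) = f x y)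

include hinv

theorem Ten.f_E (b : K) (x y : V) : f (E R ψ b x) y = f x (E R ψ (-b) y) := adj R f hinv b x y

theorem Ten.f_W {j l : ZMod 8} (h : l ≠ j + 4) : f (Wv R ψ v a j) (Wv R ψ v a l) = 0 := by
  rw [← S.W_mem j, S.f_E f hinv, S.W_other, map_zero]
  intro h1
  apply h
  apply pw_inj S.four S.twoK
  rw [pw_add S.eight, pw_four S.four, mul_neg_one]
  apply Units.ext
  rw [Units.val_neg, h1]

theorem Ten.f_v_W (j : ZMod 8) : f v (Wv R ψ v a j) = 0 := by
  have h := S.f_E f hinv 0 v (Wv R ψ v a j)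
  rw [S.hw.fix] at h
  rw [h, neg_zero, S.W_other (pw a j).ne_zero.symm, map_zero]

theorem Ten.f_W_v (j : ZMod 8) : f (Wv R ψ v a j) v = 0 := by
  rw [← S.W_mem j, S.f_E f hinv, S.E_v (neg_ne_zero.2 (pw a j).ne_zero), map_zero]

theorem Ten.f_W_vs (j : ZMod 8) : f (Wv R ψ v a j) (vs R ψ v) = 0 := by
  rw [← S.W_mem j, S.f_E f hinv, S.E_vs (neg_ne_zero.2 (pw a j).ne_zero), map_zero]

theorem Ten.f_v_v : f v v = 0 := by
  have h1 := hinv (t a) v v
  rw [S.hw.tor, map_smul, map_smul, LinearMap.smul_apply, smul_eq_mul, smul_eq_mul, ← mul_assoc, ← sq, S.lam2] at h1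
  have h2 : (2 : k) * f v v = 0 := by linear_combination -h1
  exact (mul_eq_zero.1 h2).resolve_left S.two

include hnd in
theorem Ten.f_v_vs : f v (vs R ψ v) ≠ 0 := by
  intro h
  obtain ⟨B, h1, h2, h3⟩ := S.exists_basis
  apply S.v_ne
  apply hnd
  intro y
  have h4 : f v = 0 := by
    apply B.ext
    rintro (i | j)
    · fin_cases i
      · change f v (B (Sum.inl 0)) = _
        rw [h1, S.f_v_v f hinv]; rfl
      · change f v (B (Sum.inl 1)) = _
        rw [h2, h]; rfl
    · rw [h3, S.f_v_W f hinv]; rfl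
  rw [h4]; rfl

/-- the numbers `f (W j) (W (j+4))` -/
noncomputable def nn (f : V →ₗ[k] V →ₗ[k] k) (R : _root_.Matrix.SpecialLinearGroup (Fin 2) K →* Module.End k V) (ψ : AddChar K k)
    (v : V) (a : Kˣ) (j : ZMod 8) : k := f (Wv R ψ v a j) (Wv R ψ v a (j + 4))

include hnd in
theorem Ten.nn_ne (j : ZMod 8) : nn f R ψ v a j ≠ 0 := by
  intro h
  obtain ⟨B, h1, h2, h3⟩ := S.exists_basis
  apply S.W_ne j
  apply hnd
  intro y
  have h4 : f (Wv R ψ v a j) = 0 := by
    apply B.ext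
    rintro (i | l)
    · fin_cases i
      · change f (Wv R ψ v a j) (B (Sum.inl 0)) = _
        rw [h1, S.f_W_v f hinv]; rfl
      · change f (Wv R ψ v a j) (B (Sum.inl 1)) = _
        rw [h2, S.f_W_vs f hinv]; rfl
    · rw [h3]
      by_cases hl : l = j + 4
      · rw [hl]; exact h
      · rw [S.f_W f hinv hl]; rfl
  rw [h4]; rfl

theorem Ten.nn_shift (j : ZMod 8) : nn f R ψ v a (j + 6) = - nn f R ψ v a j := by
  have h1 := hinv (t a) (Wv R ψ v a j) (Wv R ψ v a (j + 4))
  rw [S.t_W, S.t_W, map_smul, map_smul, LinearMap.smul_apply, smul_eq_mul, smul_eq_mul] at h1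
  have h2 : j + 4 + 6 = j + 6 + 4 := by ring
  rw [h2] at h1
  change (lam a)⁻¹ * ((lam a)⁻¹ * nn f R ψ v a (j + 6)) = nn f R ψ v a j at h1
  have h3 := S.lam2
  have h4 := S.lam_ne
  have h5 : (lam a)⁻¹ * lam a = 1 := inv_mul_cancel₀ h4
  calc nn f R ψ v a (j + 6) = ((lam a)⁻¹ * lam a) * ((lam a)⁻¹ * lam a) * nn f R ψ v a (j + 6) := by rw [h5]; ring
    _ = lam a ^ 2 * ((lam a)⁻¹ * ((lam a)⁻¹ * nn f R ψ v a (j + 6))) := by ring
    _ = - nn f R ψ v a j := by rw [h1, h3]; ring

/-! #### the isometry -/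

variable (T : V →ₗ[k] V) (hT : ∀ x y, f (T x) (T y) = f x y)

omit hinv S in
/-- the weights are permuted -/
theorem T_E_lin {γ : Kˣ} (hTu : ∀ x : K, T * R (u x) = R (u (γ * x)) * T) (b : K) :
    T * E R ψ b = E R ψ ((γ⁻¹ : Kˣ) * b) * T := by
  unfold E
  rw [mul_smul_comm, smul_mul_assoc, Finset.mul_sum, Finset.sum_mul]
  congr 1
  rw [← Equiv.sum_comp (Equiv.mulLeft₀ (γ : K) γ.ne_zero)
    (fun x : K => (ψ (-((γ⁻¹ : Kˣ) * b * x)) • R (u x)) * T)]
  refine Finset.sum_congr rfl fun x _ => ?_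
  rw [mul_smul_comm, hTu, Equiv.mulLeft₀_apply, smul_mul_assoc]
  congr 3
  have : ((γ⁻¹ : Kˣ) : K) * γ = 1 := by simp
  linear_combination (-(b * x)) * this

omit hinv S in
/-- the weights are permuted, semilinear case -/
theorem T_E_semi [CharP K 3] (hF : ∀ y, ψ (y ^ 3) = ψ y) {γ : Kˣ}
    (hTu : ∀ x : K, T * R (u x) = R (u (γ * x ^ 3)) * T) (b : K) :
    T * E R ψ b = E R ψ ((γ⁻¹ : Kˣ) * b ^ 3) * T := by
  have h3 : Fact (Nat.Prime 3) := ⟨Nat.prime_three⟩
  unfold E
  rw [mul_smul_comm, smul_mul_assoc, Finset.mul_sum, Finset.sum_mul]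
  congr 1
  rw [← Equiv.sum_comp (((frobeniusEquiv K 3).toEquiv).trans (Equiv.mulLeft₀ (γ : K) γ.ne_zero))
    (fun x : K => (ψ (-((γ⁻¹ : Kˣ) * b ^ 3 * x)) • R (u x)) * T)]
  refine Finset.sum_congr rfl fun x _ => ?_
  have h4 : (((frobeniusEquiv K 3).toEquiv).trans (Equiv.mulLeft₀ (γ : K) γ.ne_zero)) x = γ * x ^ 3 := rfl
  rw [mul_smul_comm, hTu, h4, smul_mul_assoc, ← hF (-(b * x))]
  congr 3
  have : ((γ⁻¹ : Kˣ) : K) * γ = 1 := by simp
  linear_combination (b ^ 3 * x ^ 3) * this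

omit hinv in
/-- the numbers `c j` -/
theorem Ten.exists_c {τ : ZMod 8 → ZMod 8} (hTE : ∀ j, T * E R ψ (pw a j : K) = E R ψ (pw a (τ j) : K) * T) :
    ∃ c : ZMod 8 → k, ∀ j, T (Wv R ψ v a j) = c j • Wv R ψ v a (τ j) := by
  have h1 : ∀ j, ∃ c : k, T (Wv R ψ v a j) = c • Wv R ψ v a (τ j) := by
    intro j
    apply S.line
    rw [← Module.End.mul_apply, ← hTE, Module.End.mul_apply, S.W_mem]
  choose c hc using h1
  exact ⟨c, hc⟩

include hT in
theorem Ten.c_rel {τ : ZMod 8 → ZMod 8} (hτ : ∀ j, τ (j + 4) = τ j + 4) {c : ZMod 8 → k}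
    (hc : ∀ j, T (Wv R ψ v a j) = c j • Wv R ψ v a (τ j)) (j : ZMod 8) :
    c j * c (j + 4) * nn f R ψ v a (τ j) = nn f R ψ v a j := by
  have h1 := hT (Wv R ψ v a j) (Wv R ψ v a (j + 4))
  rw [hc, hc, map_smul, map_smul, LinearMap.smul_apply, smul_eq_mul, smul_eq_mul, hτ] at h1
  change _ = nn f R ψ v a j at h1
  rw [← h1]
  unfold nn
  ring

omit hinv in
/-- the torus character on the weight vectors, inverse -/
theorem Ten.t_inv_W (j : ZMod 8) : R (t a⁻¹) (Wv R ψ v a j) = lam a • Wv R ψ v a (j + 2) := by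
  have h1 := S.t_W (j + 2)
  have h2 : j + 2 + 6 = j := by
    have : (8 : ZMod 8) = 0 := by decide
    linear_combination this
  rw [h2] at h1
  have h3 : R (t a⁻¹) (R (t a) (Wv R ψ v a (j + 2))) = Wv R ψ v a (j + 2) := by
    rw [← Module.End.mul_apply, ← map_mul, ← t_mul, inv_mul_cancel, t_one, map_one, Module.End.one_apply]
  rw [h1, map_smul] at h3
  rw [← h3, smul_smul, mul_inv_cancel₀ S.lam_ne, one_smul]

omit hinv in
/-- the torus on the fixed vectors -/
theorem Ten.eig {x : V} (hx : E R ψ 0 x = x) : (R (t a) x = lam a • x → ∃ c : k, x = c • v) ∧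
    (R (t a) x = (lam a)⁻¹ • x → ∃ c : k, x = c • vs R ψ v) := by
  have h1 := S.hw.range_le S.prim S.card S.span (show x ∈ LinearMap.range (E R ψ 0) from ⟨x, hx⟩)
  obtain ⟨p, q, rfl⟩ := Submodule.mem_span_pair.1 h1
  have h2 := S.lam_ne
  have h3 : lam a - (lam a)⁻¹ ≠ 0 := by
    intro h
    apply S.two
    have h4 : lam a * (lam a)⁻¹ = 1 := mul_inv_cancel₀ h2
    linear_combination (-lam a) * h + S.lam2 - h4
  obtain ⟨B, b1, b2, -⟩ := S.exists_basis
  have hv := S.v_ne
  have hvs : vs R ψ v ≠ 0 := by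
    rw [← b2]
    exact B.ne_zero _
  rw [map_add, map_smul, map_smul, S.hw.tor, S.hw.t_vs, smul_add, smul_add]
  constructor
  · intro h
    have h4 : (q * ((lam a)⁻¹ - lam a)) • vs R ψ v = 0 := by
      rw [smul_comm p, smul_comm (lam a) q] at h
      have h5 := add_left_cancel h
      rw [mul_smul, sub_smul, smul_sub, h5, sub_self]
    have h5 := (mul_eq_zero.1 ((smul_eq_zero.1 h4).resolve_right hvs)).resolve_right (fun h6 => h3 (by
      rw [← neg_sub, h6, neg_zero]))
    exact ⟨p, by rw [h5, zero_smul, add_zero]⟩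
  · intro h
    have h4 : (p * (lam a - (lam a)⁻¹)) • v = 0 := by
      rw [smul_comm q, smul_comm (lam a)⁻¹ p] at h
      have h5 := add_right_cancel h
      rw [mul_smul, sub_smul, smul_sub, h5, sub_self]
    have h5 := (mul_eq_zero.1 ((smul_eq_zero.1 h4).resolve_right hv)).resolve_right h3
    exact ⟨q, by rw [h5, zero_smul, zero_add]⟩

include hsym hnd hT in
/-- **The linear case.** -/
theorem Ten.det_lin {m : ZMod 8} (hm : m.val % 2 = 1) {γ : Kˣ} (hγ : γ⁻¹ = pw a m)
    (hTu : ∀ x : K, T * R (u x) = R (u (γ * x)) * T) (hTt : T * R (t a) = R (t a) * T) : LinearMap.det T = -1 := by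
  have hTE : ∀ j, T * E R ψ (pw a j : K) = E R ψ (pw a (j + m) : K) * T := by
    intro j
    rw [T_E_lin T hTu, hγ, ← Units.val_mul, ← pw_add S.eight, add_comm m j]
  obtain ⟨c, hc⟩ := S.exists_c T (τ := fun j => j + m) hTE
  have hrel := S.c_rel f hinv T hT (τ := fun j => j + m) (fun j => by ring) hc
  -- `c` is constant on the classes
  have hc6 : ∀ j, c (j + 6) = c j := by
    intro j
    have h1 := congrArg (fun A : Module.End k V => A (Wv R ψ v a j)) hTt
    simp only [Module.End.mul_apply] at h1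
    rw [S.t_W, map_smul, hc, hc, map_smul, S.t_W, smul_smul, smul_smul] at h1
    have h2 : j + m + 6 = j + 6 + m := by ring
    rw [h2, ← sub_eq_zero, ← sub_smul] at h1
    have h3 := (smul_eq_zero.1 h1).resolve_right (S.W_ne _)
    have h4 := S.lam_ne
    apply mul_left_cancel₀ (inv_ne_zero h4)
    linear_combination h3
  have hT0 : T * E R ψ 0 = E R ψ 0 * T := by
    have := T_E_lin T hTu (ψ := ψ) 0
    rwa [mul_zero] at this
  have hTv : E R ψ 0 (T v) = T v := by
    rw [← Module.End.mul_apply, ← hT0, Module.End.mul_apply, S.hw.fix]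
  have hTvs : E R ψ 0 (T (vs R ψ v)) = T (vs R ψ v) := by
    rw [← Module.End.mul_apply, ← hT0, Module.End.mul_apply, S.E_zero_vs]
  obtain ⟨x, hx⟩ := (S.eig hTv).1 (by
    rw [← Module.End.mul_apply, ← hTt, Module.End.mul_apply, S.hw.tor, map_smul])
  obtain ⟨y, hy⟩ := (S.eig hTvs).2 (by
    rw [← Module.End.mul_apply, ← hTt, Module.End.mul_apply, S.hw.t_vs, map_smul])
  have hxy : x * y = 1 := by
    have h1 := hT v (vs R ψ v)
    rw [hx, hy, map_smul, map_smul, LinearMap.smul_apply, smul_eq_mul, smul_eq_mul] at h1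
    apply mul_right_cancel₀ (S.f_v_vs f hnd hinv)
    linear_combination h1
  obtain ⟨B, b1, b2, b3⟩ := S.exists_basis
  have hdet := det_mono B T (Equiv.sumCongr 1 (Equiv.addRight m)) (Sum.elim ![x, y] c) (by
    rintro (i | j)
    · fin_cases i
      · change T (B (Sum.inl 0)) = x • B (Sum.inl 0)
        rw [b1, hx]
      · change T (B (Sum.inl 1)) = y • B (Sum.inl 1)
        rw [b2, hy]
    · change T (B (Sum.inr j)) = c j • B (Sum.inr (j + m))
      rw [b3, b3, hc])
  rw [hdet]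
  have hsg : Equiv.Perm.sign (Equiv.sumCongr (1 : Equiv.Perm (Fin 2)) (Equiv.addRight m)) = -1 := by
    rw [Equiv.Perm.sign_sumCongr, sign_lin m hm, Equiv.Perm.sign_one, one_mul]
  rw [hsg, Fintype.prod_sum_type]
  simp only [Sum.elim_inl, Sum.elim_inr, Fin.prod_univ_two, Matrix.cons_val_zero, Matrix.cons_val_one]
  rw [hxy, one_mul]
  have hprod : ∏ j : ZMod 8, c j = c 0 * c 1 * c 2 * c 3 * c 4 * c 5 * c 6 * c 7 := Fin.prod_univ_eight c
  have e6 : c 6 = c 0 := hc6 0
  have e4 : c 4 = c 6 := hc6 6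
  have e2 : c 2 = c 4 := hc6 4
  have e7 : c 7 = c 1 := hc6 1
  have e5 : c 5 = c 7 := hc6 7
  have e3 : c 3 = c 5 := hc6 5
  have n6 : nn f R ψ v a 6 = - nn f R ψ v a 0 := S.nn_shift f hinv 0
  have n4 : nn f R ψ v a 4 = - nn f R ψ v a 6 := S.nn_shift f hinv 6
  have n2 : nn f R ψ v a 2 = - nn f R ψ v a 4 := S.nn_shift f hinv 4
  have n0 := S.nn_ne f hnd hinv 0
  have hcm : ∀ j, c (j + 4) = c j := by
    intro j
    have h1 := hc6 (j + 6)
    rw [hc6 j] at h1
    rw [← h1]
    congr 1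
    have : (8 : ZMod 8) = 0 := by decide
    linear_combination -this
  have key : (c 0 * c 1) ^ 2 = -1 := by
    have r0 := hrel 0
    have rm := hrel m
    rw [hcm] at r0 rm
    simp only [zero_add] at r0
    have hcm1 : c m = c 1 := by
      rcases odd_cases m hm with rfl | rfl | rfl | rfl
      · rfl
      · rw [e3, e5, e7]
      · rw [e5, e7]
      · rw [e7]
    have hnm : nn f R ψ v a (m + m) = - nn f R ψ v a 0 := by
      rcases dbl_cases m hm with h | h
      · rw [h, n2, n4, n6]; ring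
      · rw [h, n6]
    rw [hnm, hcm1] at rm
    rw [← rm] at r0
    apply mul_right_cancel₀ n0
    linear_combination -r0
  rw [hprod]
  push_cast
  have h9 : c 0 * c 1 * c 2 * c 3 * c 4 * c 5 * c 6 * c 7 = (c 0 * c 1) ^ 2 * (c 0 * c 1) ^ 2 := by
    rw [e2, e3, e4, e5, e6, e7]; ring
  rw [h9, key]
  ring

include hsym hnd hT in
/-- **The semilinear case.** -/
theorem Ten.det_semi [CharP K 3] (hF : ∀ y, ψ (y ^ 3) = ψ y) {m : ZMod 8} (hm : m.val % 2 = 1) {γ : Kˣ}
    (hγ : γ⁻¹ = pw a m) (hTu : ∀ x : K, T * R (u x) = R (u (γ * x ^ 3)) * T) (hTt : T * R (t a) = R (t a⁻¹) * T) :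
    LinearMap.det T = -1 := by
  have hpw3 : ∀ j : ZMod 8, (pw a j) ^ 3 = pw a (3 * j) := by
    intro j
    have : (3 : ZMod 8) * j = j + j + j := by ring
    rw [this, pw_add S.eight, pw_add S.eight, pow_succ, sq]
  have hTE : ∀ j, T * E R ψ (pw a j : K) = E R ψ (pw a (semi m j) : K) * T := by
    intro j
    have : semi m j = m + 3 * j := by
      change 3 * j + m = _
      ring
    rw [T_E_semi T hF hTu, hγ, ← Units.val_pow_eq_pow_val, hpw3, ← Units.val_mul, ← pw_add S.eight, this]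
  obtain ⟨c, hc⟩ := S.exists_c T (τ := semi m) hTE
  have hs4 : ∀ j, semi m (j + 4) = semi m j + 4 := by
    intro j
    change 3 * (j + 4) + m = 3 * j + m + 4
    have : (8 : ZMod 8) = 0 := by decide
    linear_combination this
  have hrel := S.c_rel f hinv T hT (τ := semi m) hs4 hc
  have hc6 : ∀ j, c (j + 6) = - c j := by
    intro j
    have h1 := congrArg (fun A : Module.End k V => A (Wv R ψ v a j)) hTt
    simp only [Module.End.mul_apply] at h1
    rw [S.t_W, map_smul, hc, hc, map_smul, S.t_inv_W, smul_smul, smul_smul] at h1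
    have h2 : semi m (j + 6) = semi m j + 2 := by
      change 3 * (j + 6) + m = 3 * j + m + 2
      have : (8 : ZMod 8) = 0 := by decide
      linear_combination 2 * this
    rw [h2, ← sub_eq_zero, ← sub_smul] at h1
    have h3 := (smul_eq_zero.1 h1).resolve_right (S.W_ne _)
    have h4 := S.lam_ne
    have h5 : (lam a)⁻¹ * lam a = 1 := inv_mul_cancel₀ h4
    apply mul_left_cancel₀ (inv_ne_zero h4)
    linear_combination h3 + (lam a)⁻¹ * c j * S.lam2 - (c j * lam a) * h5
  have hT0 : T * E R ψ 0 = E R ψ 0 * T := by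
    have := T_E_semi T hF hTu (ψ := ψ) 0
    rwa [zero_pow three_ne_zero, mul_zero] at this
  have hTv : E R ψ 0 (T v) = T v := by
    rw [← Module.End.mul_apply, ← hT0, Module.End.mul_apply, S.hw.fix]
  have hTvs : E R ψ 0 (T (vs R ψ v)) = T (vs R ψ v) := by
    rw [← Module.End.mul_apply, ← hT0, Module.End.mul_apply, S.E_zero_vs]
  -- `R (t a)` on `T v`
  have hta : ∀ x : V, R (t a) (R (t a⁻¹) x) = x := by
    intro x
    rw [← Module.End.mul_apply, ← map_mul, ← t_mul, mul_inv_cancel, t_one, map_one, Module.End.one_apply]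
  have hcm : ∀ x : V, T x = R (t a) (T (R (t a) x)) := by
    intro x
    rw [← Module.End.mul_apply T, hTt, Module.End.mul_apply, hta]
  obtain ⟨x, hx⟩ := (S.eig hTv).2 (by
    have h1 := hcm v
    rw [S.hw.tor, map_smul, map_smul] at h1
    conv_rhs => rw [h1]
    rw [smul_smul, inv_mul_cancel₀ S.lam_ne, one_smul])
  obtain ⟨y, hy⟩ := (S.eig hTvs).1 (by
    have h1 := hcm (vs R ψ v)
    rw [S.hw.t_vs, map_smul, map_smul] at h1
    conv_rhs => rw [h1]
    rw [smul_smul, mul_inv_cancel₀ S.lam_ne, one_smul])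
  have hxy : x * y = 1 := by
    have h1 := hT v (vs R ψ v)
    rw [hx, hy, map_smul, map_smul, LinearMap.smul_apply, smul_eq_mul, smul_eq_mul, hsym] at h1
    apply mul_right_cancel₀ (S.f_v_vs f hnd hinv)
    linear_combination h1
  obtain ⟨B, b1, b2, b3⟩ := S.exists_basis
  have hdet := det_mono B T (Equiv.sumCongr (Equiv.swap 0 1) (semi m)) (Sum.elim ![x, y] c) (by
    rintro (i | j)
    · fin_cases i
      · change T (B (Sum.inl 0)) = x • B (Sum.inl 1)
        rw [b1, b2, hx]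
      · change T (B (Sum.inl 1)) = y • B (Sum.inl 0)
        rw [b1, b2, hy]
    · change T (B (Sum.inr j)) = c j • B (Sum.inr (semi m j))
      rw [b3, b3, hc])
  rw [hdet]
  have hsg : Equiv.Perm.sign (Equiv.sumCongr (Equiv.swap (0 : Fin 2) 1) (semi m)) = -1 := by
    rw [Equiv.Perm.sign_sumCongr, sign_semi m hm, mul_one]
    decide
  rw [hsg, Fintype.prod_sum_type]
  simp only [Sum.elim_inl, Sum.elim_inr, Fin.prod_univ_two, Matrix.cons_val_zero, Matrix.cons_val_one]
  rw [hxy, one_mul]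
  have hprod : ∏ j : ZMod 8, c j = c 0 * c 1 * c 2 * c 3 * c 4 * c 5 * c 6 * c 7 := Fin.prod_univ_eight c
  have e6 : c 6 = - c 0 := hc6 0
  have e4 : c 4 = - c 6 := hc6 6
  have e2 : c 2 = - c 4 := hc6 4
  have e7 : c 7 = - c 1 := hc6 1
  have e5 : c 5 = - c 7 := hc6 7
  have e3 : c 3 = - c 5 := hc6 5
  have n6 : nn f R ψ v a 6 = - nn f R ψ v a 0 := S.nn_shift f hinv 0
  have n4 : nn f R ψ v a 4 = - nn f R ψ v a 6 := S.nn_shift f hinv 6
  have n0 := S.nn_ne f hnd hinv 0
  have hcm4 : ∀ j, c (j + 4) = c j := by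
    intro j
    have h1 := hc6 (j + 6)
    rw [hc6 j, neg_neg] at h1
    rw [← h1]
    congr 1
    have : (8 : ZMod 8) = 0 := by decide
    linear_combination -this
  have key : (c 0 * c 1) ^ 2 = 1 := by
    have r0 := hrel 0
    have rm := hrel m
    rw [hcm4] at r0 rm
    have z0 : semi m 0 = m := by
      change 3 * 0 + m = m
      ring
    have zm : semi m m = 4 := four_mul m hm
    rw [z0] at r0
    rw [zm, n4, n6, neg_neg] at rm
    have hcm1 : c m * c m = c 1 * c 1 := by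
      rcases odd_cases m hm with rfl | rfl | rfl | rfl
      · rfl
      · rw [e3, e5, e7]; ring
      · rw [e5, e7]; ring
      · rw [e7]; ring
    rw [hcm1] at rm
    rw [← rm] at r0
    apply mul_right_cancel₀ n0
    linear_combination r0
  rw [hprod]
  push_cast
  have h9 : c 0 * c 1 * c 2 * c 3 * c 4 * c 5 * c 6 * c 7 = (c 0 * c 1) ^ 2 * (c 0 * c 1) ^ 2 := by
    rw [e2, e3, e4, e5, e6, e7]; ring
  rw [h9, key]
  ring

end form

end rep

end Cfsg.Agent.H937.T2
end

-- part: H931/L2Forms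
section
/-!
# `FixQ` and `FixA` for cores with socle `PSL₂(q)` in cross characteristic (helper931)

Characteristic `≠ 2`. `type_core` : an invariant form with `f v u = κ f u v` has `κ = c` where `-1` acts as `c`
(both weights `b`, `-b` occur). `fixQ_of_central_one`, `not_fixQ_of_central_neg`, ....
-/

set_option autoImplicit false
set_option linter.unusedSectionVars false

namespace Cfsg.Agent.H931.L2T

open Matrix Module Cfsg Cfsg.Geo Cfsg.Agent.H464.Sl2 Cfsg.Agent.H915.LD Cfsg.Agent.H911.OddForm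

section Gram

variable {ι : Type} [Fintype ι] [DecidableEq ι] {F : Type*} [Field F] {f : (ι → F) → (ι → F) → F}

theorem form_eq (hf : IsBilinearForm f) (x y : ι → F) : f x y = x ⬝ᵥ (_root_.Cfsg.Agent.H911.OddForm.gram f *ᵥ y) := by
  have h1 : ∀ i, f (Pi.single i 1) y = (_root_.Cfsg.Agent.H911.OddForm.gram f *ᵥ y) i := by
    intro i
    conv_lhs => rw [eq_sum_single y, f_sum_right hf]
    rw [Matrix.mulVec, dotProduct]
    refine Finset.sum_congr rfl fun j _ => ?_
    rw [hf.smul_right, mul_comm]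
    rfl
  conv_lhs => rw [eq_sum_single x, f_sum_left hf]
  rw [dotProduct]
  refine Finset.sum_congr rfl fun i _ => ?_
  rw [hf.smul_left, h1]

theorem eq_of_dot {A B : Matrix ι ι F} (h : ∀ x y, x ⬝ᵥ (A *ᵥ y) = x ⬝ᵥ (B *ᵥ y)) : A = B := by
  ext i j
  have h1 := h (Pi.single i 1) (Pi.single j 1)
  rw [single_dotProduct, single_dotProduct, Matrix.mulVec_single, Matrix.mulVec_single] at h1
  simpa using h1

theorem gram_conj (hf : IsBilinearForm f) {g : Matrix ι ι F} (h : ∀ x y, f (g *ᵥ x) (g *ᵥ y) = f x y) :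
    gᵀ * _root_.Cfsg.Agent.H911.OddForm.gram f * g = _root_.Cfsg.Agent.H911.OddForm.gram f := by
  apply eq_of_dot
  intro x y
  rw [← form_eq hf, ← h, form_eq hf, Matrix.mul_assoc, ← Matrix.mulVec_mulVec, ← Matrix.mulVec_mulVec,
    Matrix.dotProduct_mulVec x gᵀ, Matrix.vecMul_transpose]

theorem gram_symm {κ : F} (h : ∀ x y, f y x = κ * f x y) : (_root_.Cfsg.Agent.H911.OddForm.gram f)ᵀ = κ • _root_.Cfsg.Agent.H911.OddForm.gram f := by
  ext i j
  rw [Matrix.transpose_apply, Matrix.smul_apply, smul_eq_mul]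
  exact h _ _

end Gram

section Core

variable {ι : Type} [Fintype ι] [DecidableEq ι] {F : Type*} [Field F] {P : Subgroup (GL ι F)}
  {K : Type*} [Field K] [Fintype K]

/-- The lift of an invariant bilinear form to an extension field. -/
theorem exists_lift {G : Type*} [Group G] (ρ : G →* GL ι F) (k : Type*) [Field k] [Algebra F k]
    {f : (ι → F) → (ι → F) → F} (hf : IsBilinearForm f) (hn : IsNondegenerateForm f)
    (hfix : FixesForm (matrixSet ρ.range) f) {κ : F} (hκ1 : κ = 1 ∨ κ = -1) (hκ : ∀ x y, f y x = κ * f x y) :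
    ∃ f' : (ι → k) →ₗ[k] (ι → k) →ₗ[k] k, (∀ g v w, f' (extI ρ k g v) (extI ρ k g w) = f' v w) ∧
      (∀ w, (∀ v, f' v w = 0) → w = 0) ∧ ∀ v w, f' w v = algebraMap F k κ * f' v w := by
  set M' := (_root_.Cfsg.Agent.H911.OddForm.gram f).map (algebraMap F k) with hM'
  refine ⟨Matrix.toLinearMap₂' k M', ?_, ?_, ?_⟩
  · intro g v w
    have h1 : ((ρ g : Matrix ι ι F))ᵀ * _root_.Cfsg.Agent.H911.OddForm.gram f * (ρ g : Matrix ι ι F) = _root_.Cfsg.Agent.H911.OddForm.gram f :=
      gram_conj hf fun x y => hfix _ ⟨ρ g, ⟨g, rfl⟩, rfl⟩ x y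
    have h2 : ((ρ g : Matrix ι ι F).map (algebraMap F k))ᵀ * M' * (ρ g : Matrix ι ι F).map (algebraMap F k) = M' := by
      rw [hM']
      conv_rhs => rw [← h1]
      rw [Matrix.map_mul, Matrix.map_mul, Matrix.transpose_map]
    rw [Matrix.toLinearMap₂'_apply', Matrix.toLinearMap₂'_apply', extI_apply, Matrix.toLin'_apply, Matrix.toLin'_apply]
    conv_rhs => rw [← h2]
    rw [Matrix.mul_assoc, ← Matrix.mulVec_mulVec, ← Matrix.mulVec_mulVec, Matrix.dotProduct_mulVec v _ᵀ,
      Matrix.vecMul_transpose]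
  · intro w hw
    have h1 : M'.det ≠ 0 := by
      have : M' = (algebraMap F k).mapMatrix (_root_.Cfsg.Agent.H911.OddForm.gram f) := rfl
      rw [this, ← RingHom.map_det]
      intro h
      exact det_gram_ne_zero hf hn ((map_eq_zero _).1 h)
    apply Matrix.eq_zero_of_mulVec_eq_zero h1
    funext i
    have h2 := hw (Pi.single i 1)
    rw [Matrix.toLinearMap₂'_apply', single_dotProduct, one_mul] at h2
    exact h2
  · intro v w
    have h1 : M'ᵀ = (algebraMap F k κ) • M' := by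
      rw [hM', ← Matrix.transpose_map, gram_symm hκ]
      ext i j
      simp
    rw [Matrix.toLinearMap₂'_apply', Matrix.toLinearMap₂'_apply']
    have h2 : v ⬝ᵥ (M' *ᵥ w) = w ⬝ᵥ (M'ᵀ *ᵥ v) := by
      rw [Matrix.mulVec_transpose, Matrix.dotProduct_mulVec, dotProduct_comm]
    rw [h2, h1, Matrix.smul_mulVec, dotProduct_smul, smul_eq_mul, ← mul_assoc, ← map_mul]
    have h3 : κ * κ = 1 := by
      rcases hκ1 with rfl | rfl <;> ring
    rw [h3, map_one, one_mul]

variable (ρ : _root_.Matrix.SpecialLinearGroup (Fin 2) K →* GL ι F)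

variable {ρ}

end Core

end Cfsg.Agent.H931.L2T
end

-- part: H937/O10Aut
section
/-!
# `A₆` in dimension ten: the normaliser induces permutations of six points (helper937)
-/

set_option autoImplicit false
set_option linter.unusedSectionVars false

namespace Cfsg.Agent.H937.T2

open Matrix Module Cfsg Cfsg.Geo Cfsg.Agent.H464.Sl2 Cfsg.Agent.H931.L2T Cfsg.Agent.H915.LD
open scoped Pointwise

universe u' v'

section grp

variable {K : Type v'} [Field K] {G : Type u'} [Group G] (ρ : _root_.Matrix.SpecialLinearGroup (Fin 2) K →* G)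

/-- the kernel consists of scalars -/
def KerZ : Prop := ∀ g, ρ g = 1 → g.1 1 0 = 0 ∧ g.1 0 1 = 0

theorem kerZ_of_center (h : ∀ g, ρ g = 1 → g ∈ Subgroup.center (_root_.Matrix.SpecialLinearGroup (Fin 2) K)) : KerZ ρ := by
  intro g hg
  obtain ⟨r, -, hr⟩ := Matrix.SpecialLinearGroup.mem_center_iff.1 (h g hg)
  rw [← hr]
  simp

variable {ρ} (hker : KerZ ρ)

include hker

theorem u_inj {x y : K} (h : ρ (u x) = ρ (u y)) : x = y := by
  have h1 : ρ (u (x - y)) = 1 := by
    rw [sub_eq_add_neg, u_add, map_mul, h, ← map_mul, ← u_add, add_neg_cancel, u_zero, map_one]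
  have h2 := (hker _ h1).2
  have h3 : (u (x - y)).1 0 1 = x - y := rfl
  rw [h3] at h2
  exact sub_eq_zero.1 h2

theorem lower_zero {s : _root_.Matrix.SpecialLinearGroup (Fin 2) K} {y y' : K} (hy : y ≠ 0) (h : ρ (s * u y * s⁻¹) = ρ (u y')) :
    s.1 1 0 = 0 := by
  have h1 : ρ (s * u y * s⁻¹ * u (-y')) = 1 := by
    rw [map_mul, h, ← map_mul, ← u_add, add_neg_cancel, u_zero, map_one]
  have h2 := (hker _ h1).1
  have h3 : (s * u y * s⁻¹ * u (-y')).1 = s.1 * !![1, y; 0, 1] * (s⁻¹).1 * !![1, -y'; 0, 1] := rfl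
  have h4 : (s⁻¹).1 = !![s.1 1 1, -s.1 0 1; -s.1 1 0, s.1 0 0] := by
    rw [Matrix.SpecialLinearGroup.SL2_inv_expl s]; rfl
  rw [h3, h4] at h2
  simp only [Matrix.mul_apply, Fin.sum_univ_two, Matrix.of_apply, Matrix.cons_val', Matrix.cons_val_zero,
    Matrix.cons_val_one, Matrix.empty_val', Matrix.cons_val_fin_one] at h2
  have h5 : y * (s.1 1 0 * s.1 1 0) = 0 := by linear_combination -h2
  have h6 := (mul_eq_zero.1 h5).resolve_left hy
  exact mul_self_eq_zero.1 h6

omit hker in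
/-- every element of `K` is `s + t i` -/
theorem exists_coord [Fintype K] [CharP K 3] (h9 : Fintype.card K = 9) {i : K} (hi : i ^ 2 = -1) (x : K) :
    ∃ s r : ZMod 3, x = cc K s + cc K r * i := by
  have hinj : Function.Injective (fun p : ZMod 3 × ZMod 3 => cc K p.1 + cc K p.2 * i) := by
    rintro ⟨s, r⟩ ⟨s', r'⟩ h
    have h1 : cc K (s - s') + cc K (r - r') * i = 0 := by
      simp only at h
      rw [map_sub, map_sub]
      linear_combination h
    obtain ⟨h2, h3⟩ := basis_i hi _ _ h1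
    exact Prod.ext (sub_eq_zero.1 h2) (sub_eq_zero.1 h3)
  have hbij : Function.Bijective (fun p : ZMod 3 × ZMod 3 => cc K p.1 + cc K p.2 * i) :=
    (Fintype.bijective_iff_injective_and_card _).2 ⟨hinj, by rw [h9, Fintype.card_prod, ZMod.card]⟩
  obtain ⟨⟨s, r⟩, h⟩ := hbij.2 x
  exact ⟨s, r, h.symm⟩

omit hker in
/-- additive semilinear maps -/
theorem add_form [Fintype K] [CharP K 3] (h9 : Fintype.card K = 9) {i : K} (hi : i ^ 2 = -1) {α : K → K}
    (hα : ∀ x y, α (x + y) = α x + α y) :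
    ((∀ x, α (i * x) = i * α x) → ∀ x, α x = α 1 * x) ∧
      ((∀ x, α (i * x) = -(i * α x)) → ∀ x, α x = α 1 * x ^ 3) := by
  have h0 : α 0 = 0 := by
    have := hα 0 0
    rw [add_zero] at this
    linear_combination -this
  have h3 : (3 : K) = 0 := by exact_mod_cast CharP.cast_eq_zero K 3
  have hs : ∀ s : ZMod 3, ∀ x, α (cc K s * x) = cc K s * α x := by
    intro s x
    have : s = 0 ∨ s = 1 ∨ s = 1 + 1 := by
      revert s; decide
    rcases this with rfl | rfl | rfl
    · rw [map_zero, zero_mul, zero_mul, h0]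
    · rw [map_one, one_mul, one_mul]
    · rw [map_add, map_one, add_mul, one_mul, hα]
      ring
  have hcube : ∀ s : ZMod 3, (cc K s) ^ 3 = cc K s := by
    intro s
    rw [← map_pow]
    congr 1
    revert s; decide
  constructor
  · intro h x
    obtain ⟨s, r, rfl⟩ := exists_coord (K := K) h9 hi x
    have e1 : cc K r * i = cc K r * (i * 1) := by ring
    have e2 : cc K s = cc K s * 1 := by ring
    rw [hα, e1, hs, h, e2, hs]
    ring
  · intro h x
    obtain ⟨s, r, rfl⟩ := exists_coord (K := K) h9 hi x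
    have e1 : cc K r * i = cc K r * (i * 1) := by ring
    have e2 : α (cc K s) = cc K s * α 1 := by rw [← hs, mul_one]
    have hF : Fact (Nat.Prime 3) := ⟨Nat.prime_three⟩
    rw [hα, e2, add_pow_char, mul_pow, hcube, hcube, e1, hs, h]
    linear_combination (-(α 1) * cc K r * i) * hi

end grp

section norm

variable {K : Type v'} [Field K] [Fintype K] [CharP K 3] {G : Type u'} [Group G]
  {ρ : _root_.Matrix.SpecialLinearGroup (Fin 2) K →* G}

/-- first step: normalising `U` -/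
theorem exists_norm_U {h : G} (hh : ∀ x ∈ ρ.range, h * x * h⁻¹ ∈ ρ.range)
    (hh' : ∀ x ∈ ρ.range, h⁻¹ * x * h ∈ ρ.range) :
    ∃ z ∈ ρ.range, ∀ x : K, ∃ y : K, (z * h) * ρ (u x) * (z * h)⁻¹ = ρ (u y) := by
  have hF : Fact (Nat.Prime 3) := ⟨Nat.prime_three⟩
  obtain ⟨S, hS⟩ := exists_sylow (E := K) 3
  set ρ' := ρ.rangeRestrict with hρ'
  have hsurj : Function.Surjective ρ' := ρ.rangeRestrict_surjective
  have hfin : Finite ρ.range := Finite.of_surjective _ hsurj
  have hp : IsPGroup 3 ((S : Subgroup (_root_.Matrix.SpecialLinearGroup (Fin 2) K)).map ρ') := S.isPGroup'.map _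
  have hidx : ¬ 3 ∣ ((S : Subgroup (_root_.Matrix.SpecialLinearGroup (Fin 2) K)).map ρ').index := by
    intro h1
    have h2 := Subgroup.index_map_dvd (S : Subgroup (_root_.Matrix.SpecialLinearGroup (Fin 2) K)) hsurj
    exact S.not_dvd_index (h1.trans h2)
  let S' : Sylow 3 ρ.range := hp.toSylow hidx
  let φ : MulAut ρ.range :=
    { toFun := fun x => ⟨h * x * h⁻¹, hh x x.2⟩
      invFun := fun x => ⟨h⁻¹ * x * h, hh' x x.2⟩
      left_inv := fun x => Subtype.ext (by simp only; group)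
      right_inv := fun x => Subtype.ext (by simp only; group)
      map_mul' := fun x y => Subtype.ext (by simp only [Subgroup.coe_mul]; group) }
  obtain ⟨z, hz⟩ := MulAction.exists_smul_eq ρ.range (φ • S') S'
  refine ⟨z, z.2, fun x => ?_⟩
  have h1 : (⟨ρ (u x), ⟨u x, rfl⟩⟩ : ρ.range) ∈ S' := by
    refine ⟨u x, ?_, rfl⟩
    change u x ∈ (S : Subgroup (_root_.Matrix.SpecialLinearGroup (Fin 2) K))
    rw [hS]
    exact ⟨Multiplicative.ofAdd x, rfl⟩
  have h2 : φ • (⟨ρ (u x), ⟨u x, rfl⟩⟩ : ρ.range) ∈ φ • (S' : Subgroup ρ.range) :=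
    Subgroup.smul_mem_pointwise_smul _ _ _ h1
  have h3 : MulAut.conj z • (φ • (⟨ρ (u x), ⟨u x, rfl⟩⟩ : ρ.range)) ∈ MulAut.conj z • (φ • (S' : Subgroup ρ.range)) :=
    Subgroup.smul_mem_pointwise_smul _ _ _ h2
  have h4 : MulAut.conj z • (φ • (S' : Subgroup ρ.range)) = (S' : Subgroup ρ.range) := by
    rw [← Sylow.pointwise_smul_def, ← Sylow.coe_subgroup_smul, hz]
  rw [h4] at h3
  obtain ⟨g, hg, hg'⟩ := h3
  have hg2 : g ∈ (S : Subgroup (_root_.Matrix.SpecialLinearGroup (Fin 2) K)) := hg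
  rw [hS] at hg2
  obtain ⟨y, rfl⟩ := hg2
  refine ⟨Multiplicative.toAdd y, ?_⟩
  have h5 := congrArg Subtype.val hg'
  change ρ (u (Multiplicative.toAdd y)) = z.1 * (h * ρ (u x) * h⁻¹) * z.1⁻¹ at h5
  rw [h5]
  group

/-- **Normal form.** -/
theorem normal_form (h9 : Fintype.card K = 9) (hker : KerZ ρ) (hz : ρ (t (-1)) = 1) {a : Kˣ} (ha : a ^ 4 = -1) {h : G}
    (hh : ∀ x ∈ ρ.range, h * x * h⁻¹ ∈ ρ.range) (hh' : ∀ x ∈ ρ.range, h⁻¹ * x * h ∈ ρ.range) :
    ∃ z ∈ ρ.range, ∃ γ : Kˣ,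
      ((∀ x : K, (z * h) * ρ (u x) = ρ (u (γ * x)) * (z * h)) ∧ (z * h) * ρ (t a) = ρ (t a) * (z * h)) ∨
      ((∀ x : K, (z * h) * ρ (u x) = ρ (u (γ * x ^ 3)) * (z * h)) ∧ (z * h) * ρ (t a) = ρ (t a⁻¹) * (z * h)) := by
  obtain ⟨z, hzm, hzU⟩ := exists_norm_U hh hh'
  choose α hα using hzU
  have h2K : (2 : K) ≠ 0 := by
    intro h
    have h3 : (3 : K) = 0 := by exact_mod_cast CharP.cast_eq_zero K 3
    apply one_ne_zero (α := K)
    linear_combination h3 - h
  set b := z * h with hb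
  have hadd : ∀ x y, α (x + y) = α x + α y := by
    intro x y
    apply u_inj hker
    rw [u_add (α x), map_mul, ← hα, ← hα, ← hα, u_add x y, map_mul]
    group
  have h00 : α 0 = 0 := by
    have := hadd 0 0
    rw [add_zero] at this
    linear_combination -this
  have hneg : ∀ x, α (-x) = - α x := by
    intro x
    have := hadd x (-x)
    rw [add_neg_cancel, h00] at this
    linear_combination -this
  have hne : ∀ x, x ≠ 0 → α x ≠ 0 := by
    intro x hx h0
    apply hx
    apply u_inj hker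
    have h1 := hα x
    rw [h0, u_zero, map_one] at h1
    have h2 : b * ρ (u x) = b := by
      have := congrArg (fun y => y * b) h1
      simp only [inv_mul_cancel_right, one_mul] at this
      exact this
    rw [u_zero, map_one]
    exact mul_eq_left.1 h2
  have hbP : ∀ x ∈ ρ.range, b * x * b⁻¹ ∈ ρ.range := by
    intro x hx
    have : b * x * b⁻¹ = z * (h * x * h⁻¹) * z⁻¹ := by
      rw [hb]; group
    rw [this]
    exact mul_mem (mul_mem hzm (hh x hx)) (inv_mem hzm)
  obtain ⟨s, hs⟩ := hbP (ρ (t a)) ⟨t a, rfl⟩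
  have hcj : ∀ x : K, ρ (s * u (α x) * s⁻¹) = ρ (u (α ((a : K) ^ 2 * x))) := by
    intro x
    have h1 : t a * u x * (t a)⁻¹ = u ((a : K) ^ 2 * x) := by
      rw [t_mul_u, mul_inv_cancel_right]
    rw [map_mul, map_mul, map_inv, hs, ← hα, ← hα, ← h1, map_mul, map_mul, map_inv]
    group
  have hlow := lower_zero hker (hne 1 one_ne_zero) (hcj 1)
  obtain ⟨c, d, rfl⟩ | ⟨c, d, e, rfl⟩ := bruhat s
  swap
  · exfalso
    rw [coe_uwu] at hlow
    exact d.ne_zero hlow
  have hd : ∀ x, α ((a : K) ^ 2 * x) = (d : K) ^ 2 * α x := by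
    intro x
    apply u_inj hker
    rw [← hcj x]
    congr 1
    have h1 : t d * u (α x) * (t d)⁻¹ = u ((d : K) ^ 2 * α x) := by
      rw [t_mul_u, mul_inv_cancel_right]
    calc u c * t d * u (α x) * (u c * t d)⁻¹ = u c * (t d * u (α x) * (t d)⁻¹) * (u c)⁻¹ := by group
      _ = u c * u ((d : K) ^ 2 * α x) * (u c)⁻¹ := by rw [h1]
      _ = u ((d : K) ^ 2 * α x) := by rw [← u_add, add_comm, u_add, mul_inv_cancel_right]
  have ha4 : (a : K) ^ 4 = -1 := by
    rw [← Units.val_pow_eq_pow_val, ha, Units.val_neg, Units.val_one]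
  have ha2 : ((a : K) ^ 2) ^ 2 = -1 := by rw [← ha4]; ring
  have hd4 : (d : K) ^ 4 = -1 := by
    have h1 := hd ((a : K) ^ 2 * 1)
    rw [hd 1, ← mul_assoc, ← sq, ha2, neg_one_mul, hneg] at h1
    apply mul_right_cancel₀ (hne 1 one_ne_zero)
    linear_combination -h1
  have hd2 : (d : K) ^ 2 = (a : K) ^ 2 ∨ (d : K) ^ 2 = -(a : K) ^ 2 := by
    have h1 : ((d : K) ^ 2 - (a : K) ^ 2) * ((d : K) ^ 2 + (a : K) ^ 2) = 0 := by linear_combination hd4 - ha4
    rcases mul_eq_zero.1 h1 with h | h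
    · exact Or.inl (sub_eq_zero.1 h)
    · exact Or.inr (eq_neg_of_add_eq_zero_left h)
  have hd1 : 1 - (d : K) ^ 2 ≠ 0 := by
    intro h
    have h1 : (d : K) ^ 2 = 1 := by linear_combination -h
    have h3 : (d : K) ^ 4 = 1 := by
      calc (d : K) ^ 4 = ((d : K) ^ 2) ^ 2 := by ring
        _ = 1 := by rw [h1, one_pow]
    rw [hd4] at h3
    apply h2K
    linear_combination -h3
  -- adjust
  set y := -c / (1 - (d : K) ^ 2) with hy
  have hyc : y + c - (d : K) ^ 2 * y = 0 := by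
    have : y * (1 - (d : K) ^ 2) = -c := by rw [hy, div_mul_cancel₀ _ hd1]
    linear_combination this
  have hb2 : (ρ (u y) * b) * ρ (t a) * (ρ (u y) * b)⁻¹ = ρ (t d) := by
    have h1 : (ρ (u y) * b) * ρ (t a) * (ρ (u y) * b)⁻¹ = ρ (u y) * (b * ρ (t a) * b⁻¹) * (ρ (u y))⁻¹ := by group
    rw [h1, ← hs, ← map_inv, ← map_mul, ← map_mul]
    congr 1
    have h2 : (u y)⁻¹ = u (-y) := by
      rw [inv_eq_iff_mul_eq_one, ← u_add, add_neg_cancel, u_zero]
    have h3 : t d * u (-y) = u ((d : K) ^ 2 * -y) * t d := t_mul_u d (-y)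
    rw [h2]
    calc u y * (u c * t d) * u (-y) = u y * u c * (t d * u (-y)) := by group
      _ = u y * u c * u ((d : K) ^ 2 * -y) * t d := by rw [h3]; group
      _ = t d := by
          rw [← u_add, ← u_add]
          have : y + c + (d : K) ^ 2 * -y = 0 := by linear_combination hyc
          rw [this, u_zero, one_mul]
  have hb1 : ∀ x, (ρ (u y) * b) * ρ (u x) * (ρ (u y) * b)⁻¹ = ρ (u (α x)) := by
    intro x
    have h1 : (ρ (u y) * b) * ρ (u x) * (ρ (u y) * b)⁻¹ = ρ (u y) * (b * ρ (u x) * b⁻¹) * (ρ (u y))⁻¹ := by group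
    rw [h1, hα, ← map_mul, ← u_add, add_comm, u_add, map_mul, mul_inv_cancel_right]
  have hmem : ρ (u y) * z ∈ ρ.range := mul_mem ⟨u y, rfl⟩ hzm
  have hzneg : ∀ e : Kˣ, ρ (t (-e)) = ρ (t e) := by
    intro e
    have : -e = (-1) * e := by rw [neg_one_mul]
    rw [this, t_mul, map_mul, hz, one_mul]
  obtain ⟨f1, f2⟩ := add_form (K := K) h9 ha2 hadd
  refine ⟨ρ (u y) * z, hmem, Units.mk0 (α 1) (hne 1 one_ne_zero), ?_⟩
  have hassoc : ρ (u y) * z * h = ρ (u y) * b := by rw [hb, mul_assoc]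
  rw [hassoc, Units.val_mk0]
  rcases hd2 with hd2 | hd2
  · left
    have hlin := f1 (fun x => by rw [hd, hd2])
    refine ⟨fun x => ?_, ?_⟩
    · rw [← hlin, ← hb1, inv_mul_cancel_right]
    · have h1 : d = a ∨ d = -a := by
        have h3 : ((d : K) - a) * ((d : K) + a) = 0 := by linear_combination hd2
        rcases mul_eq_zero.1 h3 with h | h
        · exact Or.inl (Units.ext (sub_eq_zero.1 h))
        · exact Or.inr (Units.ext (by rw [Units.val_neg]; exact eq_neg_of_add_eq_zero_left h))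
      have h2 : ρ (t d) = ρ (t a) := by
        rcases h1 with rfl | rfl
        · rfl
        · exact hzneg a
      rw [h2] at hb2
      exact mul_inv_eq_iff_eq_mul.1 hb2
  · right
    have hsemi := f2 (fun x => by rw [hd, hd2, neg_mul])
    refine ⟨fun x => ?_, ?_⟩
    · rw [← hsemi, ← hb1, inv_mul_cancel_right]
    · have h1 : d = a⁻¹ ∨ d = -a⁻¹ := by
        have h3 : ((d : K) * a - 1) * ((d : K) * a + 1) = 0 := by
          linear_combination (a : K) ^ 2 * hd2 - ha4
        rcases mul_eq_zero.1 h3 with h | h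
        · left
          rw [eq_inv_iff_mul_eq_one]
          exact Units.ext (sub_eq_zero.1 h)
        · right
          rw [← neg_eq_iff_eq_neg, eq_inv_iff_mul_eq_one, neg_mul]
          apply Units.ext
          rw [Units.val_neg, Units.val_mul, Units.val_one]
          linear_combination -h
      have h2 : ρ (t d) = ρ (t a⁻¹) := by
        rcases h1 with rfl | rfl
        · rfl
        · exact hzneg _
      rw [← h2, ← hb2, inv_mul_cancel_right]

end norm

section main

variable {K : Type v'} [Field K] [Fintype K] [CharP K 3] {F : Type u'} [Field F] [Finite F]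
  {ρ : _root_.Matrix.SpecialLinearGroup (Fin 2) K →* GL (Fin 10) F}

theorem pw_surj (h9 : Fintype.card K = 9) {a : Kˣ} (ha : a ^ 4 = -1) (h2 : (2 : K) ≠ 0) (x : Kˣ) :
    ∃ m : ZMod 8, pw a m = x := by
  classical
  have hinj : Function.Injective (pw a) := fun i j h => pw_inj ha h2 h
  have hbij : Function.Bijective (pw a) :=
    (Fintype.bijective_iff_injective_and_card _).2 ⟨hinj, by rw [ZMod.card, Fintype.card_units, h9]⟩
  exact hbij.2 x

/-- the structure `Ten` over the algebraic closure -/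
theorem exists_ten (p : ℕ) [hp : Fact p.Prime] [CharP F p] (hp2 : p ≠ 2) (hp3 : p ≠ 3) (h9 : Fintype.card K = 9)
    (habs : ActsAbsolutelyIrreducibly (matrixSet ρ.range)) (hz : ρ (t (-1)) = 1) {a : Kˣ} (ha : a ^ 4 = -1) :
    ∃ (ψ : AddChar K (AlgebraicClosure F)) (v : Fin 10 → AlgebraicClosure F) (lam : Kˣ →* AlgebraicClosure F),
      Ten (extI ρ (AlgebraicClosure F)) ψ v lam a ∧ ∀ y, ψ (y ^ 3) = ψ y := by
  classical
  set k := AlgebraicClosure F with hk
  have hch : CharP k p := charP_of_injective_algebraMap (algebraMap F k).injective p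
  have h2 : (2 : k) ≠ 0 := by
    have h2F : (2 : F) ≠ 0 := by exact_mod_cast prime_ne_zero (F := F) p Nat.prime_two hp2
    rw [← map_ofNat (algebraMap F k) 2]
    exact (map_ne_zero _).2 h2F
  have h3 : (3 : k) ≠ 0 := by
    have h3F : (3 : F) ≠ 0 := by exact_mod_cast prime_ne_zero (F := F) p Nat.prime_three hp3
    rw [← map_ofNat (algebraMap F k) 3]
    exact (map_ne_zero _).2 h3F
  have hK : (Fintype.card K : k) ≠ 0 := by
    rw [h9]
    have : ((9 : ℕ) : k) = 3 * 3 := by norm_num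
    rw [this]
    exact mul_ne_zero h3 h3
  have h2K : (2 : K) ≠ 0 := by
    intro h
    have h3 : (3 : K) = 0 := by exact_mod_cast CharP.cast_eq_zero K 3
    apply one_ne_zero (α := K)
    linear_combination h3 - h
  set R := extI ρ k with hR
  have hspan : Submodule.span k (Set.range R) = ⊤ := span_extI ρ k (span_eq_topI ρ habs)
  have hdim : finrank k (Fin 10 → k) = 10 := by rw [Module.finrank_fintype_fun_eq_card, Fintype.card_fin]
  have hRne : R ≠ 1 := by
    intro h1
    have h2 : (Set.range R) ⊆ {1} := by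
      rw [h1]
      rintro _ ⟨g, rfl⟩
      rfl
    have h3 : (⊤ : Submodule k (Module.End k (Fin 10 → k))) ≤ Submodule.span k {1} := by
      rw [← hspan]
      exact Submodule.span_mono h2
    have h4 := (Submodule.finrank_mono h3).trans (finrank_span_le_card _)
    rw [finrank_top, Module.finrank_linearMap, hdim, Set.toFinset_singleton, Finset.card_singleton] at h4
    omega
  obtain ⟨ψ₀, hψ₀⟩ := exists_prim (K := K) hK
  obtain ⟨ψ, hψ, hF⟩ := exists_prim_frob h9 hψ₀
  have hall : ∀ b : K, b ≠ 0 → finrank k (LinearMap.range (E R ψ b)) = 1 := by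
    rcases dim_cases R hψ hK hspan hRne with ⟨h, -⟩ | ⟨-, h⟩
    · exact h
    · exfalso
      omega
  have hr0 : finrank k (LinearMap.range (E R ψ 0)) = 2 := by
    have h1 := finrank_eq R hψ hK
    rw [Finset.sum_congr rfl fun b hb => hall b (Finset.ne_of_mem_erase hb), Finset.sum_const,
      Finset.card_erase_of_mem (Finset.mem_univ _), Finset.card_univ, smul_eq_mul, mul_one] at h1
    omega
  obtain ⟨v, lam, h⟩ := exists_hw hψ hK (R := R) (fun h0 => by rw [h0, finrank_bot] at hr0; omega)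
  have hRz : R (t (-1)) = 1 := by
    rw [hR, extI_apply, hz, Units.val_one, Matrix.map_one _ (map_zero _) (map_one _), Matrix.toLin'_one]
    rfl
  have hl1 : lam (-1) = 1 := by
    have h3 := h.tor (-1)
    rw [hRz, Module.End.one_apply] at h3
    have h5 : (1 - lam (-1)) • v = 0 := by rw [sub_smul, ← h3, one_smul, sub_self]
    exact (sub_eq_zero.1 ((smul_eq_zero.1 h5).resolve_right h.ne)).symm
  have hl4 : lam a ^ 4 = 1 := by rw [← map_pow, ha, hl1]
  have hl2 : lam a ^ 2 = -1 := by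
    have h1 : (lam a ^ 2 - 1) * (lam a ^ 2 + 1) = 0 := by linear_combination hl4
    rcases mul_eq_zero.1 h1 with h3 | h3
    · exfalso
      obtain ⟨b, hb⟩ := h.exists_sq_ne hψ hK hspan hr0
      obtain ⟨m, rfl⟩ := pw_surj h9 ha h2K b
      apply hb
      rw [pw, map_pow, ← pow_mul, mul_comm, pow_mul, sub_eq_zero.1 h3, one_pow]
    · linear_combination h3
  exact ⟨ψ, v, lam, ⟨hψ, hK, h2, h2K, hspan, h, hr0, hall, ha, hl2, hdim⟩, hF⟩

/-- **The class of `ρ (u 1)` is preserved.** -/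
theorem class_preserved (p : ℕ) [hp : Fact p.Prime] [CharP F p] (hp2 : p ≠ 2) (hp3 : p ≠ 3) (h9 : Fintype.card K = 9)
    (habs : ActsAbsolutelyIrreducibly (matrixSet ρ.range)) (hz : ρ (t (-1)) = 1) (hker : KerZ ρ)
    {Q : (Fin 10 → F) → F} (hQ : IsNondegenerateQuadraticForm Q) {H : Subgroup (GL (Fin 10) F)}
    (hHQ : H ≤ omegaGL Q) (hPH : ρ.range ≤ H) (hn : ∀ h ∈ H, ∀ x ∈ ρ.range, h * x * h⁻¹ ∈ ρ.range)
    {h : GL (Fin 10) F} (hh : h ∈ H) : ∃ y ∈ ρ.range, h * ρ (u 1) * h⁻¹ = y * ρ (u 1) * y⁻¹ := by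
  classical
  obtain ⟨β, hβ⟩ := exists_i (E := K) h9
  have hβ4 : β ^ 4 = -1 := by
    apply Units.ext
    rw [Units.val_pow_eq_pow_val, Units.val_neg, Units.val_one, ← hβ]
    ring
  obtain ⟨z, hzm, γ, hcase⟩ := normal_form h9 hker hz hβ4 (hn h hh) (fun x hx => by
    have := hn h⁻¹ (inv_mem hh) x hx
    rwa [inv_inv] at this)
  have hconj : (z * h) * ρ (u 1) * (z * h)⁻¹ = ρ (u γ) := by
    rcases hcase with ⟨h1, -⟩ | ⟨h1, -⟩
    · rw [h1, mul_inv_cancel_right, mul_one]
    · rw [h1, mul_inv_cancel_right, one_pow, mul_one]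
  by_cases hsq : ∃ δ : Kˣ, γ = δ ^ 2
  · obtain ⟨δ, rfl⟩ := hsq
    refine ⟨z⁻¹ * ρ (t δ), mul_mem (inv_mem hzm) ⟨_, rfl⟩, ?_⟩
    have h1 : ρ (t δ) * ρ (u 1) * (ρ (t δ))⁻¹ = (z * h) * ρ (u 1) * (z * h)⁻¹ := by
      rw [hconj, ← map_mul, ← map_inv, ← map_mul, t_mul_u, mul_inv_cancel_right, mul_one, Units.val_pow_eq_pow_val]
    calc h * ρ (u 1) * h⁻¹ = z⁻¹ * ((z * h) * ρ (u 1) * (z * h)⁻¹) * z := by group
      _ = z⁻¹ * (ρ (t δ) * ρ (u 1) * (ρ (t δ))⁻¹) * z := by rw [h1]
      _ = z⁻¹ * ρ (t δ) * ρ (u 1) * (z⁻¹ * ρ (t δ))⁻¹ := by group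
  · exfalso
    have h2K : (2 : K) ≠ 0 := by
      intro h
      have h3 : (3 : K) = 0 := by exact_mod_cast CharP.cast_eq_zero K 3
      apply one_ne_zero (α := K)
      linear_combination h3 - h
    obtain ⟨m, hm⟩ := pw_surj h9 hβ4 h2K γ⁻¹
    have hmodd : m.val % 2 = 1 := by
      by_contra hev
      apply hsq
      refine ⟨(β ^ (m.val / 2))⁻¹, ?_⟩
      rw [inv_pow, ← pow_mul, Nat.div_mul_cancel (by omega), ← inv_eq_iff_eq_inv, ← hm]
      rfl
    obtain ⟨ψ, v, lam, S, hF⟩ := exists_ten (ρ := ρ) p hp2 hp3 h9 habs hz hβ4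
    set k := AlgebraicClosure F with hk
    -- the form
    obtain ⟨f, hf1, hf2, hf3⟩ := exists_lift H.subtype k hQ.polar_bilinear hQ.nondegenerate (by
      rintro _ ⟨_, ⟨g, rfl⟩, rfl⟩ x y
      exact H933.O10.polar_mulVec (hHQ g.2) x y) (Or.inl rfl)
      (fun x y => by rw [QuadraticMap.polar_comm, one_mul])
    have hsym : ∀ x y, f x y = f y x := fun x y => by rw [hf3 y x, map_one, one_mul]
    have hnd : ∀ x, (∀ y, f x y = 0) → x = 0 := fun x hx => hf2 x fun y => by rw [hsym]; exact hx y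
    have hinv : ∀ g x y, f (extI ρ k g x) (extI ρ k g y) = f x y := fun g x y =>
      hf1 ⟨ρ g, hPH ⟨g, rfl⟩⟩ x y
    have hzh : z * h ∈ H := mul_mem (hPH hzm) hh
    set T : Module.End k (Fin 10 → k) := extI H.subtype k ⟨z * h, hzh⟩ with hT
    have hTf : ∀ x y, f (T x) (T y) = f x y := hf1 _
    have hrel : ∀ g g' : _root_.Matrix.SpecialLinearGroup (Fin 2) K, (z * h) * ρ g = ρ g' * (z * h) →
        T * extI ρ k g = extI ρ k g' * T := by
      intro g g' hg
      have h1 : (⟨z * h, hzh⟩ : H) * ⟨ρ g, hPH ⟨g, rfl⟩⟩ = ⟨ρ g', hPH ⟨g', rfl⟩⟩ * ⟨z * h, hzh⟩ := Subtype.ext hg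
      have h2 := congrArg (extI H.subtype k) h1
      rw [map_mul, map_mul] at h2
      exact h2
    have hdet : LinearMap.det T = 1 := by
      have h1 : T = Matrix.toLin' ((algebraMap F k).mapMatrix ((z * h : GL (Fin 10) F) : Matrix (Fin 10) (Fin 10) F)) := rfl
      have h2 := H922.omegaGL_le_specialLinear Q (hHQ hzh)
      have h3 : ((z * h : GL (Fin 10) F) : Matrix (Fin 10) (Fin 10) F).det = 1 := by
        rw [← Matrix.GeneralLinearGroup.val_det_apply]
        exact congrArg Units.val h2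
      rw [h1, LinearMap.det_toLin', ← RingHom.map_det, h3, map_one]
    have hneg : LinearMap.det T = -1 := by
      rcases hcase with ⟨h1, h2⟩ | ⟨h1, h2⟩
      · exact S.det_lin f hsym hnd hinv T hTf hmodd hm.symm (fun x => hrel _ _ (h1 x)) (hrel _ _ h2)
      · exact S.det_semi f hsym hnd hinv T hTf hF hmodd hm.symm (fun x => hrel _ _ (h1 x)) (hrel _ _ h2)
    rw [hdet] at hneg
    apply S.two
    linear_combination hneg

end main

end Cfsg.Agent.H937.T2
end

-- part: H937/O10Tr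
section
/-!
# `A₆` in dimension ten: traces (helper937)
-/

set_option autoImplicit false
set_option linter.unusedSectionVars false

namespace Cfsg.Agent.H937.T2

open Matrix Module Cfsg Cfsg.Geo Cfsg.Agent.H464.Sl2 Cfsg.Agent.H915.LD
open Cfsg.Agent.H931.L2T (trace_u_ne trace_eq_X tr_conj' extI trace_extI extI_apply mt_t)

universe u' v'

/-- the matrix trace -/
local notation "mtr" => Cfsg.Agent.H931.L2T.mt

/-- the number of fixed points -/
def fx (σ : Equiv.Perm (Fin 6)) : ℤ := ((Finset.univ.filter fun i => σ i = i).card : ℤ)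

theorem perm_dec : ∀ σ : Equiv.Perm (Fin 6), Equiv.Perm.sign σ = 1 →
    (fx σ - 1) ^ 2 - (fx (σ * σ) - 1) = if σ = 1 then 20 else if σ * σ = 1 then -4 else if σ * σ * σ = 1 then 2 else 0 := by
  delta fx
  simp only [↓Cfsg.Agent.PermCode.M, Cfsg.Agent.PermCode.P6.R, Cfsg.Agent.PermCode.B]
  decide +kernel

section sl

variable {K : Type v'} [Field K]

theorem det_rel (g : _root_.Matrix.SpecialLinearGroup (Fin 2) K) : g.1 0 0 * g.1 1 1 - g.1 0 1 * g.1 1 0 = 1 := by
  have := g.2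
  rwa [Matrix.det_fin_two] at this

theorem mt_sq (g : _root_.Matrix.SpecialLinearGroup (Fin 2) K) : mtr (g * g) = mtr g ^ 2 - 2 := by
  have hdet := det_rel g
  change (g.1 * g.1) 0 0 + (g.1 * g.1) 1 1 = (g.1 0 0 + g.1 1 1) ^ 2 - 2
  rw [Matrix.mul_apply, Fin.sum_univ_two, Matrix.mul_apply, Fin.sum_univ_two]
  linear_combination (-2) * hdet

theorem mt_cube (g : _root_.Matrix.SpecialLinearGroup (Fin 2) K) : mtr (g * g * g) = mtr g ^ 3 - 3 * mtr g := by
  have hdet := det_rel g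
  change (g.1 * g.1 * g.1) 0 0 + (g.1 * g.1 * g.1) 1 1 = (g.1 0 0 + g.1 1 1) ^ 3 - 3 * (g.1 0 0 + g.1 1 1)
  simp only [Matrix.mul_apply, Fin.sum_univ_two]
  linear_combination (-3) * (g.1 0 0 + g.1 1 1) * hdet

theorem sq_eq (g : _root_.Matrix.SpecialLinearGroup (Fin 2) K) (h : mtr g = 0) : g * g = t (-1) := by
  have hdet := det_rel g
  have h0 : g.1 0 0 + g.1 1 1 = 0 := h
  have h1 : g.1 1 1 = - g.1 0 0 := by linear_combination h0
  rw [h1] at hdet
  apply Subtype.ext
  rw [t_coe]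
  change g.1 * g.1 = _
  ext i j
  rw [Matrix.mul_apply, Fin.sum_univ_two]
  (revert i j; simp only [_root_.Fin.forall_fin_succ, Fin.isValue, _root_.Units.val_neg, _root_.Units.val_one, _root_.inv_neg, _root_.inv_one, _root_.Matrix.of_apply, _root_.Matrix.cons_val', _root_.Matrix.cons_val_fin_one, _root_.Matrix.cons_val_zero, _root_.Matrix.cons_val_succ, _root_.Fin.succ_zero_eq_one, _root_.IsEmpty.forall_iff, _root_.and_true, _root_.true_and]) <;> (repeat' with_reducible apply And.intro)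
  · linear_combination -hdet
  · rw [h1]; ring
  · rw [h1]; ring
  · rw [h1]; linear_combination -hdet

theorem diag_eq {g : _root_.Matrix.SpecialLinearGroup (Fin 2) K} (h1 : g.1 1 0 = 0) (h2 : g.1 0 1 = 0) : ∃ b : Kˣ, g = t b := by
  have hdet := det_rel g
  rw [h1, mul_zero, sub_zero] at hdet
  refine ⟨⟨g.1 0 0, g.1 1 1, hdet, by rw [mul_comm]; exact hdet⟩, ?_⟩
  apply Subtype.ext
  rw [t_coe]
  ext i j
  fin_cases i <;> fin_cases j
  · rfl
  · exact h2
  · exact h1
  · rfl

theorem center_sq {g : _root_.Matrix.SpecialLinearGroup (Fin 2) K} (h : g ∈ Subgroup.center (_root_.Matrix.SpecialLinearGroup (Fin 2) K)) :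
    mtr g ^ 2 = 4 := by
  obtain ⟨r, hr, hr'⟩ := Matrix.SpecialLinearGroup.mem_center_iff.1 h
  rw [Fintype.card_fin] at hr
  have h1 : mtr g = g.1 0 0 + g.1 1 1 := rfl
  rw [h1, ← hr']
  simp only [Matrix.scalar_apply, Matrix.diagonal_apply_eq]
  linear_combination 4 * hr

theorem center_entries {g : _root_.Matrix.SpecialLinearGroup (Fin 2) K} (h : g ∈ Subgroup.center (_root_.Matrix.SpecialLinearGroup (Fin 2) K)) :
    g.1 1 0 = 0 ∧ g.1 0 1 = 0 := by
  obtain ⟨r, hr, hr'⟩ := Matrix.SpecialLinearGroup.mem_center_iff.1 h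
  rw [← hr']
  simp

end sl

section tr

variable {K : Type v'} [Field K] [Fintype K] [CharP K 3] {F : Type u'} [Field F] [Finite F]
  {ρ : _root_.Matrix.SpecialLinearGroup (Fin 2) K →* GL (Fin 10) F}

/-- **Traces.** -/
theorem tr_cases (p : ℕ) [hp : Fact p.Prime] [CharP F p] (hp2 : p ≠ 2) (hp3 : p ≠ 3) (h9 : Fintype.card K = 9)
    (habs : ActsAbsolutelyIrreducibly (matrixSet ρ.range)) (hz : ρ (t (-1)) = 1)
    (hker : ∀ g, ρ g = 1 → g ∈ Subgroup.center (_root_.Matrix.SpecialLinearGroup (Fin 2) K)) (g : _root_.Matrix.SpecialLinearGroup (Fin 2) K) :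
    ρ g = 1 ∨ (ρ g ≠ 1 ∧ ρ g * ρ g = 1 ∧ tr (ρ g) = -2) ∨
      (ρ g ≠ 1 ∧ ρ g * ρ g ≠ 1 ∧ ρ g * ρ g * ρ g = 1 ∧ tr (ρ g) = 1) ∨
      (ρ g ≠ 1 ∧ ρ g * ρ g ≠ 1 ∧ ρ g * ρ g * ρ g ≠ 1 ∧ tr (ρ g) = 0) := by
  classical
  obtain ⟨a, ha'⟩ := exists_i (E := K) h9
  have ha : a ^ 4 = -1 := by
    apply Units.ext
    rw [Units.val_pow_eq_pow_val, Units.val_neg, Units.val_one, ← ha']
    ring
  set k := AlgebraicClosure F with hk
  obtain ⟨ψ, v, lam, S, -⟩ : ∃ (ψ : AddChar K k) (v : Fin 10 → k) (lam : Kˣ →* k),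
      Ten (extI ρ k) ψ v lam a ∧ ∀ y, ψ (y ^ 3) = ψ y := exists_ten (ρ := ρ) p hp2 hp3 h9 habs hz ha
  set R := extI ρ k with hR
  have h3K : (3 : K) = 0 := by exact_mod_cast CharP.cast_eq_zero K 3
  have htr : ∀ g, ∀ z : ℤ, LinearMap.trace k (Fin 10 → k) (R g) = z → tr (ρ g) = z := by
    intro g z hg
    apply (algebraMap F k).injective
    rw [map_intCast, ← hg, hR, trace_extI]
  have hzneg : ∀ ε : Kˣ, ε ^ 2 = 1 → ρ (t ε) = 1 := by
    intro ε hε
    have h2 : (ε : K) * ε = 1 := by rw [← Units.val_mul, ← sq, hε, Units.val_one]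
    rcases mul_self_eq_one_iff.1 h2 with h | h
    · have : ε = 1 := Units.ext h
      rw [this, t_one, map_one]
    · have : ε = -1 := Units.ext h
      rw [this, hz]
  have hl1 : lam (-1) = 1 := by
    have h3 := S.hw.tor (-1)
    have hRz : R (t (-1)) = 1 := by
      rw [hR, extI_apply, hz, Units.val_one, Matrix.map_one _ (map_zero _) (map_one _), Matrix.toLin'_one]
      rfl
    rw [hRz, Module.End.one_apply] at h3
    have h5 : (1 - lam (-1)) • v = 0 := by rw [sub_smul, ← h3, one_smul, sub_self]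
    exact (sub_eq_zero.1 ((smul_eq_zero.1 h5).resolve_right S.hw.ne)).symm
  by_cases ht : (mtr g) ^ 2 - 4 = 0
  · obtain ⟨h, ε, y, hε, rfl⟩ := exists_conj_unip g ht
    have h1 : ρ (h * (t ε * u y) * h⁻¹) = ρ (h * u y * h⁻¹) := by
      rw [map_mul, map_mul, map_mul, hzneg ε hε, one_mul, ← map_mul, ← map_mul]
    rw [h1]
    by_cases hy : y = 0
    · left
      rw [hy, u_zero, mul_one, mul_inv_cancel, map_one]
    · right; right; left
      have hent : ∀ y : K, y ≠ 0 → ρ (h * u y * h⁻¹) ≠ 1 := by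
        intro y hy h2
        have h3 : ρ (u y) = 1 := by
          have h4 : ρ (h * u y * h⁻¹) = ρ h * ρ (u y) * (ρ h)⁻¹ := by
            rw [map_mul, map_mul, map_inv]
          rw [h4] at h2
          exact conj_eq_one_iff.1 h2
        have h4 := (center_entries (hker _ h3)).2
        exact hy h4
      have hmul : ∀ y y' : K, (h * u y * h⁻¹) * (h * u y' * h⁻¹) = h * u (y + y') * h⁻¹ := by
        intro y y'
        rw [u_add]
        group
      refine ⟨hent y hy, ?_, ?_, ?_⟩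
      · rw [← map_mul, hmul]
        apply hent
        intro h0
        apply hy
        linear_combination y * h3K - h0
      · rw [← map_mul, ← map_mul, hmul, hmul]
        have : y + y + y = 0 := by linear_combination y * h3K
        rw [this, u_zero, mul_one, mul_inv_cancel, map_one]
      · have h5 := htr (h * u y * h⁻¹) 1 (by
          rw [tr_conj', trace_u_ne R S.prim S.card S.r1 hy, S.r0]
          push_cast
          ring)
        rw [h5, Int.cast_one]
  · have hne1 : ρ g ≠ 1 := by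
      intro h
      apply ht
      rw [center_sq (hker _ h), sub_self]
    have hsq : ρ g * ρ g = 1 → mtr g = 0 := by
      intro h
      rw [← map_mul] at h
      have h1 := center_sq (hker _ h)
      rw [mt_sq] at h1
      have h2 : mtr g ^ 2 * (mtr g ^ 2 - 4) = 0 := by linear_combination h1
      exact pow_eq_zero_iff two_ne_zero |>.1 ((mul_eq_zero.1 h2).resolve_right ht)
    have hcu : ρ g * ρ g * ρ g ≠ 1 := by
      intro h
      rw [← map_mul, ← map_mul] at h
      have h1 := center_sq (hker _ h)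
      rw [mt_cube] at h1
      have h2 : (mtr g ^ 2 - 4) * (mtr g ^ 2 - 4) ^ 2 = 0 := by
        linear_combination h1 - (mtr g ^ 2 - 4) * (2 * mtr g ^ 2 - 5) * h3K
      rcases mul_eq_zero.1 h2 with h3 | h3
      · exact ht h3
      · exact ht (pow_eq_zero_iff two_ne_zero |>.1 h3)
    have ha0 : (a : K) ≠ 0 := a.ne_zero
    have ha4 : (a : K) ^ 4 = -1 := by
      rw [← Units.val_pow_eq_pow_val, ha, Units.val_neg, Units.val_one]
    have hlam2 : lam (a ^ 2) = -1 := by rw [map_pow, S.lam2]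
    have hlamn : ∀ x : Kˣ, lam (-x) = lam x := by
      intro x
      have : -x = -1 * x := by rw [neg_one_mul]
      rw [this, map_mul, hl1, one_mul]
    have htrb : ∀ b : Kˣ, mtr g = (b : K) + ((b⁻¹ : Kˣ) : K) → b ^ 2 ≠ 1 →
        LinearMap.trace k (Fin 10 → k) (R g) = lam b + (lam b)⁻¹ := by
      intro b hb hb2
      have h8 := trace_eq_X R (t b) (by rw [mt_t, ← hb]; exact ht)
      rw [mt_t, ← hb, ← trace_eq_X R g ht] at h8
      rw [← h8]
      have h9 := chi_t R S.prim S.card hb2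
      rw [S.hw.trace_two S.prim S.card S.span S.r0] at h9
      exact h9
    have h2K : (2 : K) ≠ 0 := by
      intro h
      apply one_ne_zero (α := K)
      linear_combination h3K - h
    by_cases h0 : mtr g = 0
    · right; left
      refine ⟨hne1, ?_, ?_⟩
      · rw [← map_mul, sq_eq g h0, hz]
      · have h1 := htrb (a ^ 2) (by
          rw [h0, ← inv_pow, Units.val_pow_eq_pow_val, Units.val_pow_eq_pow_val, Units.val_inv_eq_inv_val]
          field_simp
          linear_combination -ha4) (by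
          intro h
          rw [← pow_mul, ha] at h
          apply h2K
          have := congrArg Units.val h
          rw [Units.val_neg, Units.val_one] at this
          linear_combination -this)
        rw [hlam2] at h1
        have h2 := htr g (-2) (by rw [h1]; push_cast; norm_num only [])
        rw [h2]
        push_cast
        rfl
    · right; right; right
      refine ⟨hne1, fun h => h0 (hsq h), hcu, ?_⟩
      have h1 : LinearMap.trace k (Fin 10 → k) (R g) = ((0 : ℤ) : k) := by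
        by_cases hs : ∀ x : K, x * x - mtr g * x + 1 ≠ 0
        · rw [(hw_prin R S.hw).trace_nonsplit S.prim S.card S.span (by rw [S.dim, h9]) hs]
          simp
        · push Not at hs
          obtain ⟨b, hb⟩ := hs
          have hb0 : b ≠ 0 := by
            rintro rfl
            simp at hb
          have h5 : mtr g = b + b⁻¹ := by
            field_simp
            linear_combination -hb
          set β : Kˣ := Units.mk0 b hb0 with hβ
          have hβ1 : (b : K) ^ 2 - 1 ≠ 0 := by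
            intro h
            apply ht
            rw [h5]
            field_simp
            linear_combination (b ^ 2 - 1) * h
          have hβ2 : (b : K) ^ 2 + 1 ≠ 0 := by
            intro h
            apply h0
            rw [h5]
            field_simp
            rw [h, mul_zero]
          have hb2 : β ^ 2 ≠ 1 := by
            intro h
            have := congrArg Units.val h
            rw [Units.val_pow_eq_pow_val, Units.val_one, hβ, Units.val_mk0] at this
            exact hβ1 (sub_eq_zero.2 this)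
          have h8 : b ^ 8 = 1 := by
            have := FiniteField.pow_card_sub_one_eq_one b hb0
            rwa [h9] at this
          have h4 : b ^ 4 = -1 := by
            have h1 : (b ^ 2 - 1) * ((b ^ 2 + 1) * (b ^ 4 + 1)) = 0 := by linear_combination h8
            have h2 := ((mul_eq_zero.1 ((mul_eq_zero.1 h1).resolve_left hβ1)).resolve_left hβ2)
            linear_combination h2
          have h6 : β ^ 2 = a ^ 2 ∨ β ^ 2 = -a ^ 2 := by
            have h1 : (b ^ 2 - (a : K) ^ 2) * (b ^ 2 + (a : K) ^ 2) = 0 := by linear_combination h4 - ha4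
            rcases mul_eq_zero.1 h1 with h | h
            · left
              apply Units.ext
              rw [Units.val_pow_eq_pow_val, Units.val_pow_eq_pow_val]
              exact sub_eq_zero.1 h
            · right
              apply Units.ext
              rw [Units.val_neg, Units.val_pow_eq_pow_val, Units.val_pow_eq_pow_val]
              exact eq_neg_of_add_eq_zero_left h
          have h7 : lam β ^ 2 = -1 := by
            rw [← map_pow]
            rcases h6 with h6 | h6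
            · rw [h6, hlam2]
            · rw [h6, hlamn, hlam2]
          rw [htrb β (by rw [h5, Units.val_inv_eq_inv_val, hβ, Units.val_mk0]) hb2, Int.cast_zero]
          rw [inv_eq_of_mul_eq_one_right (b := -lam β) (by linear_combination -h7), add_neg_cancel]
      have h2 := htr g 0 h1
      rw [h2, Int.cast_zero]

end tr

end Cfsg.Agent.H937.T2
end

-- part: H937/O10Six
section
/-!
# `A₆` in dimension ten: the data needed for the wedge square (helper937)

`six_data` : `Cx p Q H P`, `Soc P ≃* A₆`, `p ≠ 3` : `P ≃* A₆`, the traces of `P` are those of `Λ²` of the heart of the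
permutation module, and `H` induces permutations of the six points.
-/

set_option autoImplicit false
set_option linter.unusedSectionVars false

namespace Cfsg.Agent.H937.T2

open Matrix Module Cfsg Cfsg.Geo Cfsg.Agent.H464.Sl2 Cfsg.Agent.H915.LD
open Cfsg.Agent.H933.O10 (Cx)
open Cfsg.Agent.StdAlt.Six (A6 mv NS mv_conj' ns_of_mv_three ns_of_mv_six)

universe u'

theorem six_data {F : Type u'} [Field F] [Finite F] {p : ℕ} {Q : (Fin 10 → F) → F} {H P : Subgroup (GL (Fin 10) F)}
    (hX : Cx p Q H P) (hp3 : p ≠ 3) (e : Soc P ≃* alternatingGroup (Fin 6)) :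
    p ≠ 2 ∧ ∃ e' : P ≃* alternatingGroup (Fin 6),
      (∀ x : P, 2 * tr (x : GL (Fin 10) F) =
        (((fx (e' x : Equiv.Perm (Fin 6)) - 1) ^ 2 - (fx ((e' x : Equiv.Perm (Fin 6)) * e' x) - 1) : ℤ) : F)) ∧
      ∀ h ∈ H, ∃ σ : Equiv.Perm (Fin 6), ∀ x y : P, (y : GL (Fin 10) F) = h * x * h⁻¹ →
        (e' y : Equiv.Perm (Fin 6)) = σ * e' x * σ⁻¹ := by
  classical
  have hp : Fact p.Prime := ⟨hX.prime⟩
  have hch := hX.char
  have hC := hX.core
  have hfF := Fintype.ofFinite F
  obtain ⟨hp2, -⟩ := a6_ten p hp3 hC (by rw [Fintype.card_fin]) e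
  obtain ⟨K, _, _, hK, _, ⟨f⟩⟩ := exists_nine e
  have h3 : ¬ 3 ∣ Nat.card ((scalars (Fin 10) F).subgroupOf P) :=
    not_dvd_scalars hC Nat.prime_three (by rw [Fintype.card_fin]; norm_num)
  obtain ⟨ρ, hρ, hρ2⟩ := exists_rep hC Nat.prime_three (by omega)
    (((Nat.Prime.coprime_iff_not_dvd Nat.prime_three).2 h3).symm) f
  have habs : ActsAbsolutelyIrreducibly (matrixSet ρ.range) := by rw [hρ]; exact hC.absIrred
  have hpK := a6_not_dvd_nine p hp3 hK
  obtain ⟨-, h5⟩ := fix_iff p hp2 hpK hρ hC (a6_sd hC e h3)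
  have hz : ρ (t (-1)) = 1 := by
    by_contra h
    exact (h5 h).2 hX.fixQ
  have hmem : ∀ g, ρ g ∈ P := fun g => by rw [← hρ]; exact ⟨g, rfl⟩
  have hker : ∀ g, ρ g = 1 → g ∈ Subgroup.center (_root_.Matrix.SpecialLinearGroup (Fin 2) K) := by
    intro g hg
    have h6 := hρ2 g (hmem g)
    have h7 : (⟨ρ g, hmem g⟩ : P) = 1 := Subtype.ext hg
    rw [h7, map_one, map_one] at h6
    exact (QuotientGroup.eq_one_iff g).1 h6.symm
  have hcen : ∀ g ∈ Subgroup.center (_root_.Matrix.SpecialLinearGroup (Fin 2) K), ρ g = 1 := by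
    intro g hg
    obtain ⟨h6, h7⟩ := center_entries hg
    obtain ⟨b, rfl⟩ := diag_eq h6 h7
    obtain ⟨r, hr, hr'⟩ := Matrix.SpecialLinearGroup.mem_center_iff.1 hg
    rw [Fintype.card_fin] at hr
    have h8 : r = b := by
      have := congrFun (congrFun hr' 0) 0
      rw [t_coe] at this
      simpa using this
    rw [h8] at hr
    have h9 : (b : K) * b = 1 := by rw [← sq, hr]
    rcases mul_self_eq_one_iff.1 h9 with h | h
    · have : b = 1 := Units.ext h
      rw [this, t_one, map_one]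
    · have : b = -1 := Units.ext h
      rw [this, hz]
  have hinj : ∀ x : P, toSoc P x = 1 → x = 1 := by
    rintro ⟨x, hx⟩ h6
    rw [← hρ] at hx
    obtain ⟨g, rfl⟩ := hx
    have h7 := hρ2 g (hmem g)
    rw [h6, map_one] at h7
    exact Subtype.ext (hcen g ((QuotientGroup.eq_one_iff g).1 h7.symm))
  have hbij : Function.Bijective (e.toMonoidHom.comp (toSoc P)) := by
    constructor
    · rw [injective_iff_map_eq_one]
      intro x hx
      apply hinj
      apply e.injective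
      rw [map_one]
      exact hx
    · exact e.surjective.comp (toSoc_surjective P)
  set e' : P ≃* alternatingGroup (Fin 6) := MulEquiv.ofBijective _ hbij with he'
  have hone : ∀ x : P, (e' x : Equiv.Perm (Fin 6)) = 1 ↔ x = 1 := by
    intro x
    rw [← map_eq_one_iff e' e'.injective]
    exact ⟨fun h => Subtype.ext h, fun h => by rw [h]; rfl⟩
  have hmul : ∀ x y : P, ((e' (x * y) : alternatingGroup (Fin 6)) : Equiv.Perm (Fin 6)) = e' x * e' y := by
    intro x y
    rw [map_mul]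
    rfl
  have hval : ∀ (g : _root_.Matrix.SpecialLinearGroup (Fin 2) K) (hg : ρ g ∈ P), ρ g = 1 ↔ (⟨ρ g, hg⟩ : P) = 1 := by
    intro g hg
    exact ⟨fun h => Subtype.ext h, fun h => congrArg Subtype.val h⟩
  refine ⟨hp2, e', ?_, ?_⟩
  · rintro ⟨x, hx⟩
    have hx' := hx
    rw [← hρ] at hx'
    obtain ⟨g, rfl⟩ := hx'
    set X : P := ⟨ρ g, hx⟩ with hX'
    rw [perm_dec _ (Equiv.Perm.mem_alternatingGroup.1 (e' X).2)]
    have e1 : (e' X : Equiv.Perm (Fin 6)) = 1 ↔ ρ g = 1 := by rw [hone, ← hval]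
    have e2 : (e' X : Equiv.Perm (Fin 6)) * e' X = 1 ↔ ρ g * ρ g = 1 := by
      rw [← hmul, hone]
      exact ⟨fun h => congrArg Subtype.val h, fun h => Subtype.ext h⟩
    have e3 : (e' X : Equiv.Perm (Fin 6)) * e' X * e' X = 1 ↔ ρ g * ρ g * ρ g = 1 := by
      rw [← hmul, ← hmul, hone]
      exact ⟨fun h => congrArg Subtype.val h, fun h => Subtype.ext h⟩
    simp only [e1, e2, e3]
    rcases tr_cases p hp2 hp3 hK habs hz hker g with h | ⟨h1, h2, h3⟩ | ⟨h1, h2, h3, h4⟩ | ⟨h1, h2, h3, h4⟩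
    · rw [if_pos h]
      change 2 * tr (ρ g) = _
      rw [h, tr, Units.val_one, Matrix.trace_one, Fintype.card_fin]
      push_cast
      norm_num
    · rw [if_neg h1, if_pos h2]
      change 2 * tr (ρ g) = _
      rw [h3]
      push_cast
      norm_num
    · rw [if_neg h1, if_neg h2, if_pos h3]
      change 2 * tr (ρ g) = _
      rw [h4]
      push_cast
      norm_num
    · rw [if_neg h1, if_neg h2, if_neg h3]
      change 2 * tr (ρ g) = _
      rw [h4]
      push_cast
      norm_num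
  · intro h hh
    have hn := hX.hc.normal
    have hh' : h⁻¹ ∈ H := inv_mem hh
    let φ : MulAut P :=
      { toFun := fun x => ⟨h * x * h⁻¹, hn h hh x x.2⟩
        invFun := fun x => ⟨h⁻¹ * x * h, by have := hn h⁻¹ hh' x x.2; rwa [inv_inv] at this⟩
        left_inv := fun x => Subtype.ext (by simp only; group)
        right_inv := fun x => Subtype.ext (by simp only; group)
        map_mul' := fun x y => Subtype.ext (by simp only [Subgroup.coe_mul]; group) }
    let α : MulAut A6 := e'.symm.trans (φ.trans e')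
    have hα : ∀ x : P, α (e' x) = e' (φ x) := by
      intro x
      change e' (φ (e'.symm (e' x))) = _
      rw [e'.symm_apply_apply]
    obtain ⟨y, hy, hyc⟩ := class_preserved p hp2 hp3 hK habs hz (kerZ_of_center ρ hker) hX.hQ hX.hH.1.le
      (by rw [hρ]; exact hX.hc.le) (fun h hh x hx => by rw [hρ] at hx ⊢; exact hn h hh x hx) hh
    rw [hρ] at hy
    set U : P := ⟨ρ (u 1), hmem _⟩ with hU
    have h1 : φ U = (⟨y, hy⟩ : P) * U * (⟨y, hy⟩ : P)⁻¹ := Subtype.ext hyc
    have h2 : α (e' U) = e' ⟨y, hy⟩ * e' U * (e' ⟨y, hy⟩)⁻¹ := by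
      rw [hα, h1, map_mul, map_mul, map_inv]
    have hU3 : U * U * U = 1 := by
      apply Subtype.ext
      change ρ (u 1) * ρ (u 1) * ρ (u 1) = 1
      have h30 : (1 : K) + 1 + 1 = 0 := by
        have : ((3 : ℕ) : K) = 0 := CharP.cast_eq_zero K 3
        rw [← this]
        norm_num
      rw [← map_mul, ← map_mul, ← u_add, ← u_add, h30, u_zero, map_one]
    have hU1 : U ≠ 1 := by
      intro h
      have h3 := (center_entries (hker _ (congrArg Subtype.val h))).2
      exact one_ne_zero h3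
    have hX3 : e' U * e' U * e' U = 1 := by rw [← map_mul, ← map_mul, hU3, map_one]
    have hX1 : e' U ≠ 1 := fun h => hU1 (e'.injective (by rw [h, map_one]))
    have hmv : mv ((α (e' U) : A6) : Equiv.Perm (Fin 6)) = mv ((e' U : A6) : Equiv.Perm (Fin 6)) := by
      rw [h2]
      exact mv_conj' _ _
    have hNS : NS α := by
      by_cases h3 : mv ((e' U : A6) : Equiv.Perm (Fin 6)) = 3
      · exact ns_of_mv_three h3 (by rw [hmv, h3])
      · exact ns_of_mv_six hX3 hX1 h3 (by rw [hmv]; exact h3)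
    obtain ⟨σ, hσ⟩ := hNS
    refine ⟨σ, fun x y hxy => ?_⟩
    have h4 : y = φ x := Subtype.ext hxy
    rw [h4, ← hα]
    exact hσ _

end Cfsg.Agent.H937.T2
end

-- part: H937/O10A6
section
/-!
# `A₆` is not maximal in `Ω₁₀(q)` (helper937, with helper908's `lam_false`)

`o10_a6 : Cx p Q H P → Soc P ≃* A₆ → False`.
-/

set_option autoImplicit false
set_option linter.unusedSectionVars false

namespace Cfsg.Agent.H937.T2

open Matrix Module Cfsg Cfsg.Geo Cfsg.Agent.H915.LD
open Cfsg.Agent.H933.O10 (Cx)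
open Cfsg.Agent.H908.Lam (q5 v6 v6_castSucc sys6 gr6 R6 mem_R6 lam_false)
open Cfsg.Agent.LieClassical.OrthFinite (glEquiv glEquiv_apply)
open Cfsg.Agent.H882.Del (Sys SG mem_stabR_of SG_map_rts)

universe u'

theorem tr_dec : ∀ σ : Equiv.Perm (Fin 6),
    (∑ i : Fin 5, (if ((σ i.castSucc : Fin 6) : ℕ) = 5 then (-1 : ℤ) else
      if ((σ i.castSucc : Fin 6) : ℕ) = i then 1 else 0)) = fx σ - 1 := by
  delta fx
  simp only [↓Cfsg.Agent.PermCode.M, Cfsg.Agent.PermCode.P6.R, Cfsg.Agent.PermCode.B]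
  decide +kernel

/-- the heart of the permutation module -/
noncomputable def r6 (F : Type u') [Field F] : Equiv.Perm (Fin 6) →* GL (Fin 5) F :=
  (glEquiv (Fin 5) F).symm.toMonoidHom.comp (sys6 (F := F)).perm

section

variable {F : Type u'} [Field F]

theorem gl_r6 (σ : Equiv.Perm (Fin 6)) : glEquiv (Fin 5) F (r6 F σ) = (sys6 (F := F)).perm σ :=
  (glEquiv (Fin 5) F).apply_symm_apply _

theorem r6_mem (h2 : (2 : F) ≠ 0) (σ : Equiv.Perm (Fin 6)) : r6 F σ ∈ R6 F := by
  rw [mem_R6, gl_r6]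
  have h1 : ∀ σ, (sys6 (F := F)).perm σ ∈ SG F (v6 F) := fun σ => Cfsg.Agent.H882.Del.perm_mem_SG sys6 σ
  refine mem_stabR_of (Cfsg.Agent.H882.Del.perm_mem_O sys6 gr6 h2 σ) (fun x hx => SG_map_rts (h1 σ) hx) fun x hx => ?_
  rw [← map_inv]
  exact SG_map_rts (h1 _) hx

theorem tr_r6 (σ : Equiv.Perm (Fin 6)) : tr (r6 F σ) = ((fx σ - 1 : ℤ) : F) := by
  rw [← tr_dec, Int.cast_sum]
  unfold tr
  rw [Matrix.trace]
  refine Finset.sum_congr rfl fun i _ => ?_
  have h1 : ((r6 F σ : GL (Fin 5) F) : Matrix (Fin 5) (Fin 5) F) *ᵥ Pi.single i 1 = v6 F (σ i.castSucc) := by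
    rw [← glEquiv_apply, gl_r6, ← v6_castSucc, Sys.perm_apply]
  rw [Matrix.diag_apply]
  have h2 := congrFun h1 i
  rw [mulVec_single_one] at h2
  change ((r6 F σ : GL (Fin 5) F) : Matrix (Fin 5) (Fin 5) F) i i = _ at h2
  rw [h2, v6]
  split_ifs <;> simp

end

/-- **`A₆` is not maximal in `Ω₁₀(q)`.** -/
theorem o10_a6 {F : Type u'} [Field F] [Finite F] {p : ℕ} {Q : (Fin 10 → F) → F} {H P : Subgroup (GL (Fin 10) F)}
    (hX : Cx p Q H P) (e : Soc P ≃* alternatingGroup (Fin 6)) : False := by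
  have hp : Fact p.Prime := ⟨hX.prime⟩
  have hch := hX.char
  have hfF := Fintype.ofFinite F
  by_cases hp3 : p = 3
  · subst hp3
    obtain ⟨K, _, _, hK, _, ⟨f⟩⟩ := exists_nine e
    exact Cfsg.Agent.H875.PslRows.omega_row (E := K) 3 hX.hQ (Or.inl (by rw [Fintype.card_fin])) hX.hH hX.hc f
  · obtain ⟨hp2, e', h1, h2⟩ := six_data hX hp3 e
    have h2F : (2 : F) ≠ 0 := by exact_mod_cast prime_ne_zero (F := F) p Nat.prime_two hp2
    have h3F : (3 : F) ≠ 0 := by exact_mod_cast prime_ne_zero (F := F) p Nat.prime_three hp3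
    refine lam_false h2F h3F hX.hQ hX.hH hX.hc
      ((r6 F).comp ((alternatingGroup (Fin 6)).subtype.comp e'.toMonoidHom)) ?_ (fun x => r6_mem h2F _) ?_
    · intro x
      rw [h1 x, ← map_mul]
      change _ = tr (r6 F (e' x : Equiv.Perm (Fin 6))) ^ 2 - tr (r6 F ((e' (x * x) : alternatingGroup (Fin 6)) : Equiv.Perm (Fin 6)))
      rw [tr_r6, tr_r6, map_mul]
      push_cast
      rfl
    · intro h hh
      obtain ⟨σ, hσ⟩ := h2 h hh
      refine ⟨r6 F σ, r6_mem h2F σ, fun x y hxy => ?_⟩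
      change r6 F (e' y : Equiv.Perm (Fin 6)) = r6 F σ * r6 F (e' x : Equiv.Perm (Fin 6)) * (r6 F σ)⁻¹
      rw [hσ x y hxy, map_mul, map_mul, map_inv]

end Cfsg.Agent.H937.T2
end

-- part: H869/L34/Perm
section
/-!
# Permutations of the monomial basis (helper869)
-/

set_option autoImplicit false
set_option linter.constructorNameAsVariable false
set_option linter.unusedSectionVars false

namespace Cfsg.Agent.H869.L34

open Cfsg.Agent.Lib.FieldFour
open Cfsg.Agent.H840.L34
open scoped Matrix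

section perm

variable {ι : Type} [Fintype ι] [DecidableEq ι] {F : Type*} [Field F] (B : Module.Basis Om F (ι → F))

/-- permutation matrices -/
noncomputable def pm (σ : Equiv.Perm Om) : Matrix.GeneralLinearGroup ι F := mk (B.equiv B σ)

theorem pm_vec (σ : Equiv.Perm Om) (k : Om) : (pm B σ : Matrix ι ι F) *ᵥ B k = B (σ k) := by
  rw [pm, mk_vec]
  exact Module.Basis.equiv_apply _ _ _ _

theorem ext_B {x y : Matrix.GeneralLinearGroup ι F}
    (h : ∀ k, (x : Matrix ι ι F) *ᵥ B k = (y : Matrix ι ι F) *ᵥ B k) : x = y := by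
  apply ext_vec
  intro v
  have : Matrix.toLin' (x : Matrix ι ι F) = Matrix.toLin' (y : Matrix ι ι F) := B.ext h
  exact LinearMap.congr_fun this v

theorem pm_mul (σ τ : Equiv.Perm Om) : pm B (σ * τ) = pm B σ * pm B τ := by
  apply ext_B B
  intro k
  rw [mul_vec, pm_vec, pm_vec, pm_vec]; rfl

theorem pm_one : pm B 1 = 1 := by
  apply ext_B B
  intro k
  rw [pm_vec, Units.val_one, Matrix.one_mulVec]; rfl

/-- the homomorphism -/
noncomputable def pmHom : Equiv.Perm Om →* Matrix.GeneralLinearGroup ι F where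
  toFun := pm B
  map_one' := pm_one B
  map_mul' := pm_mul B

theorem pm_det (σ : Equiv.Perm Om) : ((pm B σ : Matrix.GeneralLinearGroup ι F) : Matrix ι ι F).det =
    ((Equiv.Perm.sign σ : ℤˣ) : ℤ) := by
  have h1 : ((pm B σ : Matrix.GeneralLinearGroup ι F) : Matrix ι ι F).det =
      LinearMap.det (Matrix.toLin' ((pm B σ : Matrix.GeneralLinearGroup ι F) : Matrix ι ι F)) := by
    rw [LinearMap.det_toLin']
  rw [h1, ← LinearMap.det_toMatrix B, ← Equiv.Perm.sign_inv, ← Matrix.det_permutation]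
  congr 1
  ext i j
  rw [LinearMap.toMatrix_apply]
  have h2 : Matrix.toLin' ((pm B σ : Matrix.GeneralLinearGroup ι F) : Matrix ι ι F) (B j) = B (σ j) := pm_vec B σ j
  rw [h2, Module.Basis.repr_self, Finsupp.single_apply, Equiv.Perm.permMatrix, PEquiv.toMatrix_apply]
  simp only [Equiv.toPEquiv_apply, Option.mem_def, Option.some_inj]
  by_cases h : σ j = i
  · rw [if_pos h, if_pos]
    rw [← h]; exact σ.symm_apply_apply j
  · rw [if_neg h, if_neg]
    rintro rfl
    exact h (σ.apply_symm_apply _)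

theorem sq_polar (Q : QuadraticForm F (ι → F)) : Sq id (QuadraticMap.polar (⇑Q)) where
  add_left x y v := QuadraticMap.polar_add_left Q x y v
  smul_left c x v := by rw [QuadraticMap.polar_smul_left, smul_eq_mul]
  add_right x y v := QuadraticMap.polar_add_right Q v x y
  smul_right c x v := by rw [QuadraticMap.polar_smul_right, smul_eq_mul]; rfl

theorem iso_of_polar (h2 : (2 : F) ≠ 0) (Q : QuadraticForm F (ι → F)) {g : Matrix.GeneralLinearGroup ι F}
    (h : ∀ x y, QuadraticMap.polar (⇑Q) ((g : Matrix ι ι F) *ᵥ x) ((g : Matrix ι ι F) *ᵥ y) = QuadraticMap.polar (⇑Q) x y) :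
    g ∈ Cfsg.isometryGroup F (⇑Q) := by
  rw [H957.mem_isometryGroup]
  intro v
  have h3 := h v v
  rw [QuadraticMap.polar_self, QuadraticMap.polar_self, two_nsmul, two_nsmul, ← two_mul, ← two_mul] at h3
  exact mul_left_cancel₀ h2 h3

variable (h2 : (2 : F) ≠ 0) (Q : QuadraticForm F (ι → F)) {s : F} (hB : ∀ k, Q (B k) = s)
  (hB' : ∀ k l, k ≠ l → QuadraticMap.polar (⇑Q) (B k) (B l) = 0)

include h2 hB hB' in
theorem pm_iso (σ : Equiv.Perm Om) : pm B σ ∈ Cfsg.isometryGroup F (⇑Q) := by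
  apply iso_of_polar h2
  apply (sq_polar Q).of_basis B
  intro k l
  rw [pm_vec, pm_vec]
  by_cases hkl : k = l
  · subst hkl
    rw [QuadraticMap.polar_self, QuadraticMap.polar_self, hB, hB]
  · rw [hB' k l hkl, hB' _ _ (fun h => hkl (σ.injective h))]

include h2 hB hB' in
theorem pm_omega [Finite F] (hnd : (QuadraticMap.polarBilin Q).Nondegenerate) {σ : Equiv.Perm Om}
    (hσ : Equiv.Perm.sign σ = 1) : pm B σ ∈ Cfsg.Geo.omegaGL (⇑Q) := by
  have hF : Nat.card F ≠ 2 ∨ Fintype.card ι ≠ 4 := by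
    left
    intro h
    apply h2
    have h3 : ((Nat.card F : ℕ) : F) = 0 := by
      have := Fintype.ofFinite F
      rw [Nat.card_eq_fintype_card]; exact FiniteField.cast_card_eq_zero F
    rw [h] at h3
    exact_mod_cast h3
  have h3 : (alternatingGroup Om) ≤ (Cfsg.Geo.omegaGL (⇑Q)).comap (pmHom B) := by
    rw [← Equiv.Perm.closure_three_cycles_eq_alternating, Subgroup.closure_le]
    intro τ hτ
    change pm B τ ∈ Cfsg.Geo.omegaGL (⇑Q)
    refine H957.mem_omegaGL_of_odd Q hnd hF (r := 3) (by decide) _ (pm_iso B h2 Q hB hB' τ) ?_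
    have h4 : τ ^ 3 = 1 := by
      rw [← (show Equiv.Perm.IsThreeCycle τ from hτ).orderOf]; exact pow_orderOf_eq_one τ
    have h5 := congrArg (pmHom B) h4
    rw [map_pow, map_one] at h5
    exact h5
  exact h3 hσ

end perm

section count

variable {Γ : Type*} [Group Γ] {P : Subgroup Γ} {C : Cv P} {c : Conf C} {a b : P} {g u : Γ} (O : Ov c a b g u)

/-- the first column of the inverse -/
def colInv (A : S) : Fin 3 → F4 := fun i => (A⁻¹ : S).1 i 0

theorem mem_SB_of_col {A A' : S} (h : colInv A = colInv A') : A * A'⁻¹ ∈ SB := by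
  have h1 : ∀ i, (A * A'⁻¹ : S).1 i 0 = (1 : S).1 i 0 := by
    intro i
    have h2 : ∀ j, (A'⁻¹ : S).1 j 0 = (A⁻¹ : S).1 j 0 := fun j => (congrFun h j).symm
    rw [row, h2, h2, h2, ← row, mul_inv_cancel]
  apply mem_of_col
  · rw [h1]; decide
  · rw [h1]; decide

include O in
theorem card_Q_le [Finite P] : Nat.card O.Q ≤ Nat.card P * 65 := by
  classical
  -- representatives
  have hrep : ∀ v : Fin 3 → F4, ∃ r : P, (∃ (r' : P) (A : S), C.π r' = q A ∧ colInv A = v) →
      ∃ A : S, C.π r = q A ∧ colInv A = v := by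
    intro v
    by_cases h : ∃ (r' : P) (A : S), C.π r' = q A ∧ colInv A = v
    · obtain ⟨r', A, h1, h2⟩ := h
      exact ⟨r', fun _ => ⟨A, h1, h2⟩⟩
    · exact ⟨1, fun h' => absurd h' h⟩
  choose rr hrr using hrep
  have hQ : ∀ p r : P, (p : Γ) * g * r ∈ O.Q := fun p r => O.mem_Q.2 (Or.inr ⟨p, p.2, r, r.2, rfl⟩)
  let f : P × Option (Fin 3 → F4) → O.Q := fun t => match t.2 with
    | none => ⟨t.1, O.P_le t.1.2⟩
    | some v => ⟨(t.1 : Γ) * g * (rr v), hQ _ _⟩
  have hf : Function.Surjective f := by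
    rintro ⟨x, hx⟩
    rcases O.mem_Q.1 hx with hx | ⟨p, hp, r, hr, rfl⟩
    · exact ⟨(⟨x, hx⟩, none), rfl⟩
    · obtain ⟨A, hA⟩ := QuotientGroup.mk'_surjective (Subgroup.center S) (C.π ⟨r, hr⟩)
      obtain ⟨A', hA', hv⟩ := hrr (colInv A) ⟨⟨r, hr⟩, A, hA.symm, rfl⟩
      have h1 : A * A'⁻¹ ∈ SB := mem_SB_of_col hv.symm
      have h2 : g * (((⟨r, hr⟩ : P) * (rr (colInv A))⁻¹ : P) : Γ) * g ∈ P := by
        apply O.conj_mem h1
        rw [map_mul, map_inv, ← hA, hA', map_mul, map_inv]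
      refine ⟨(⟨p, hp⟩ * ⟨_, h2⟩, some (colInv A)), ?_⟩
      apply Subtype.ext
      change (p * (g * (r * ((rr (colInv A) : P) : Γ)⁻¹) * g)) * g * (rr (colInv A) : Γ) = p * g * r
      have h3 : g * g = 1 := O.gg
      calc (p * (g * (r * ((rr (colInv A) : P) : Γ)⁻¹) * g)) * g * (rr (colInv A) : Γ)
          = p * g * r * ((rr (colInv A) : P) : Γ)⁻¹ * (g * g) * (rr (colInv A) : Γ) := by group
        _ = _ := by rw [h3]; group
  have h4 := Nat.card_le_card_of_surjective f hf
  rw [Nat.card_prod] at h4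
  refine h4.trans (Nat.mul_le_mul_left _ ?_)
  rw [Nat.card_eq_fintype_card, Fintype.card_option, Fintype.card_fun, F4.card, Fintype.card_fin]
  norm_num

theorem card_P (C : Cv P) : Nat.card P = 40320 := by
  have h1 : Nat.card P = Nat.card L * Nat.card C.π.ker := by
    rw [← Nat.card_congr (QuotientGroup.quotientKerEquivOfSurjective C.π C.surj).toEquiv]
    exact Subgroup.card_eq_card_quotient_mul_card_subgroup _
  have h2 : Nat.card C.π.ker = 2 := by
    have h3 : (C.π.ker : Set P) = {1, C.z} := by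
      ext x
      change C.π x = 1 ↔ x = 1 ∨ x = C.z
      exact C.ker x
    have h4 : Nat.card C.π.ker = Set.ncard (C.π.ker : Set P) := rfl
    rw [h4, h3, Set.ncard_pair (fun h => C.z1 h.symm)]
  rw [h1, h2, card_L]

theorem sign_σg : Equiv.Perm.sign σg = 1 := by decide
theorem sign_σu : Equiv.Perm.sign σu = -1 := by decide

end count

end Cfsg.Agent.H869.L34
end

-- part: H869/L34/Nrm7
section
/-!
# The normaliser of `2.L3(4)` without a condition on elements of order seven (helper869)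

`norm_thm7`: up to `P` and the field automorphism `u`, an element normalising `P` centralises `P` or induces the graph
automorphism.
-/

set_option autoImplicit false
set_option linter.constructorNameAsVariable false

namespace Cfsg.Agent.H869.L34

open Cfsg.Agent.Lib.FieldFour
open Cfsg.Agent.ClassicalGeometry.AutPSL.Auto
open Cfsg.Agent.H840.L34

section kappa

variable {G : Type*} [Group G] {C : Cv G} (c : Conf C)

theorem caseII7 {F : Type*} (e1 : c.e 1 = 1) (ew : c.e F4.w = C.z) {a b : G} (ha : C.π a = q wa) (hb : C.π b = q wb)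
    (ac : ∃ γ, a = γ * c.X23 1 * γ⁻¹) (bc : ∃ γ, b = γ * c.X23 1 * γ⁻¹)
    {χ : G → F} (cl : ∀ x y, χ (x * y * x⁻¹) = χ y) (nz : χ (c.X23 1) ≠ χ (C.z * c.X23 1))
    {κ : G ≃* G} (hχ : ∀ y, χ (κ y) = χ y) (hz : κ C.z = C.z) {m : F4} (hm : m ≠ 0)
    (k12 : ∀ t, C.π (κ (c.X12 t)) = q (x23 (m * t))) (k23 : ∀ t, C.π (κ (c.X23 t)) = q (x12 t))
    (k13 : ∀ t, C.π (κ (c.X13 t)) = q (x13 (m * t))) (khh : C.π (κ c.h) = q hh)
    (ka : m = 1 → C.π (κ a) = q wb) (kb : m = 1 → C.π (κ b) = q wa) :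
    (∀ t, κ (c.X12 t) = c.X23 t) ∧ (∀ t, κ (c.X23 t) = c.X12 t) ∧ (∀ t, κ (c.X13 t) = c.X13 t) ∧ κ c.h = c.h ∧
      κ a = b ∧ κ b = a := by
  have hk := kh c khh
  have f12 : ∀ t, κ (c.X12 (m⁻¹ * t)) = c.X23 t := fun t =>
    congrFun (c.f23.unique (Or.inr rfl) (kfam c hk (n := m⁻¹) c.f12 (fun t => by
      rw [k12, ← mul_assoc, mul_inv_cancel₀ hm, one_mul]))) t
  have f23 : ∀ t, κ (c.X23 (1 * t)) = c.X12 t := fun t =>
    congrFun (c.f12.unique (Or.inr rfl) (kfam c hk (n := 1) c.f23 (fun t => by rw [k23, one_mul]))) t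
  have f13 : ∀ t, κ (c.X13 (m⁻¹ * t)) = c.X13 t := fun t =>
    congrFun (c.f13.unique (Or.inl rfl) (kfam c hk (n := m⁻¹) c.f13 (fun t => by
      rw [k13, ← mul_assoc, mul_inv_cancel₀ hm, one_mul]))) t
  have hsymm : ∀ s t, c.X23 s * c.X12 t * c.X23 s * c.X12 t * c.X13 (t * s) = c.eps t s := by
    intro s t
    have h1 : c.X23 s * c.X12 t * c.X23 s * c.X12 t = (c.X12 t * c.X23 s * c.X12 t * c.X23 s)⁻¹ := by
      simp only [mul_inv_rev, c.f12.inv, c.f23.inv, mul_assoc]
    have h2 : c.X12 t * c.X23 s * c.X12 t * c.X23 s = c.eps t s * c.X13 (t * s) := by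
      unfold Conf.eps
      rw [mul_assoc (c.X12 t * c.X23 s * c.X12 t * c.X23 s), c.f13.sq, mul_one]
    have h3 : (c.eps t s)⁻¹ = c.eps t s := by
      rcases c.eps_or t s with h | h
      · rw [h, inv_one]
      · rw [h, C.zinv]
    rw [h1, h2, mul_inv_rev, c.f13.inv, h3, ← c.eps_comm, mul_assoc, c.f13.sq, mul_one]
  have hm1 : m = 1 := by
    have h1 := eps_fix c hz (m⁻¹ * 1) 1
    unfold Conf.eps at h1
    have f1 := f23 1
    rw [one_mul] at f1
    rw [map_mul, map_mul, map_mul, map_mul, f12, f1, mul_assoc m⁻¹ 1 1, f13] at h1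
    have h2 : c.eps 1 1 = c.eps (m⁻¹ * 1) 1 := by
      rw [← hsymm]
      unfold Conf.eps
      rw [mul_assoc m⁻¹ 1 1]; exact h1
    rw [c.eps_eq, c.eps_eq, mul_one, mul_one, mul_one, mul_one, e1] at h2
    have h3 := e_inj c e1 ew (mul_ne_zero (inv_ne_zero hm) (inv_ne_zero hm)) h2.symm
    revert h3 hm
    clear * -
    revert m; decide
  subst hm1
  have g12 : ∀ t, κ (c.X12 t) = c.X23 t := fun t => by have := f12 t; rwa [inv_one, one_mul] at this
  have g23 : ∀ t, κ (c.X23 t) = c.X12 t := fun t => by have := f23 t; rwa [one_mul] at this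
  have g13 : ∀ t, κ (c.X13 t) = c.X13 t := fun t => by have := f13 t; rwa [inv_one, one_mul] at this
  have hχk : ∀ y, (∃ γ, y = γ * c.X23 1 * γ⁻¹) → χ (κ y) = χ (c.X23 1) := by
    rintro y ⟨γ, rfl⟩
    rw [hχ, cl]
  have hχz : ∀ y, (∃ γ, y = γ * c.X23 1 * γ⁻¹) → χ (C.z * y) = χ (C.z * c.X23 1) := by
    rintro y ⟨γ, rfl⟩
    rw [← C.zconj, cl]
  have e3 : κ a = b := by
    rcases C.eq_or ((ka rfl).trans hb.symm) with h | h
    · exact h
    · exfalso
      have h5 := hχk a ac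
      rw [h, hχz b bc] at h5
      exact nz h5.symm
  have e4 : κ b = a := by
    rcases C.eq_or ((kb rfl).trans ha.symm) with h | h
    · exact h
    · exfalso
      have h5 := hχk b bc
      rw [h, hχz a ac] at h5
      exact nz h5.symm
  exact ⟨g12, g23, g13, hk, e3, e4⟩

end kappa

variable {Γ : Type*} [Group Γ] {P : Subgroup Γ} {C : Cv P}

/-- the data used to control outer automorphisms -/
structure Ex7 {F : Type*} (c : Conf C) (a b : P) (χ : Γ → F) : Prop where
  e1 : c.e 1 = 1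
  ew : c.e F4.w = C.z
  ac : ∃ γ : P, a = γ * c.X23 1 * γ⁻¹
  bc : ∃ γ : P, b = γ * c.X23 1 * γ⁻¹
  cl : ∀ x y, χ (x * y * x⁻¹) = χ y
  nz : χ (c.X23 1) ≠ χ ((C.z * c.X23 1 : P) : Γ)

/-- the element `x` induces the graph automorphism -/
structure Sw (c : Conf C) (a b : P) (x : Γ) : Prop where
  k12 : ∀ t, x * (c.X12 t : Γ) = c.X23 t * x
  k23 : ∀ t, x * (c.X23 t : Γ) = c.X12 t * x
  k13 : ∀ t, x * (c.X13 t : Γ) = c.X13 t * x
  kh : x * (c.h : Γ) = c.h * x
  ka : x * (a : Γ) = b * x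
  kb : x * (b : Γ) = a * x

/-- **The normaliser of `P`.** -/
theorem norm_thm7 {F : Type*} {c : Conf C} {a b : P} {g u : Γ} (O : Ov c a b g u) {χ : Γ → F} (E : Ex7 c a b χ)
    {x : Γ} (hx : Nm P x) : ∃ p ∈ P, ∃ k, (k = 1 ∨ k = u) ∧
      ((∀ y ∈ P, (p * x * k) * y = y * (p * x * k)) ∨ Sw c a b (p * x * k)) := by
  have hzκ : ∀ {x : Γ} (h : Nm P x), kap P x h.h1 h.h2 C.z = C.z := by
    intro x h
    apply Subtype.ext
    rw [kap_apply, ← O.zc, mul_assoc, mul_inv_cancel, mul_one]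
  obtain ⟨α, hα⟩ := exists_alpha C (hzκ hx)
  obtain ⟨A, m, σ, γ, hm, hγ, hform⟩ := aut_form α
  have fin : ∀ {w : Γ} (h : Nm P w), (∀ y, kap P w h.h1 h.h2 y = y) → ∀ y ∈ P, w * y = y * w := by
    intro w h hw y hy
    have := congrArg Subtype.val (hw ⟨y, hy⟩)
    rw [kap_apply] at this
    exact mul_inv_eq_iff_eq_mul.1 this
  have fin2 : ∀ {w : Γ} (h : Nm P w) {y y' : P}, kap P w h.h1 h.h2 y = y' → w * (y : Γ) = y' * w := by
    intro w h y y' hy
    have := congrArg Subtype.val hy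
    rw [kap_apply] at this
    exact mul_inv_eq_iff_eq_mul.1 this
  rcases hγ with rfl | rfl
  · obtain ⟨p0, hp0⟩ := C.exists_lift A⁻¹
    have n1 : Nm P (p0 * x) := (Nm.of_mem p0.2).mul hx
    have k1 : ∀ (y : P) (s : S), C.π y = q s → C.π (kap P (p0 * x) n1.h1 n1.h2 y) = q (cj (DD m) (fld σ s)) := by
      intro y s hy
      have e1 : kap P (p0 * x) n1.h1 n1.h2 y = p0 * kap P x hx.h1 hx.h2 y * p0⁻¹ := by
        apply Subtype.ext
        rw [kap_apply, Subgroup.coe_mul, Subgroup.coe_mul, kap_apply, Subgroup.coe_inv]; group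
      rw [e1, map_mul, map_mul, map_inv, ← hα, hy, hform, hp0, map_inv]
      simp only [MulAut.one_apply]
      group
    rcases ringEquiv_cases σ with hσ | hσ
    · refine ⟨p0, p0.2, 1, Or.inl rfl, Or.inl ?_⟩
      rw [mul_one]
      apply fin n1
      apply caseI c E.e1 E.ew O.aπ O.bπ E.ac E.bc (hzκ n1) hm
      · intro t; rw [k1 _ _ (c.f12.lift t), fld_x12, hσ, dj_x12 m t hm]
      · intro t; rw [k1 _ _ (c.f23.lift t), fld_x23, hσ, dj_x23 m t hm]
      · intro t; rw [k1 _ _ (c.f13.lift t), fld_x13, hσ, dj_x13 m t hm]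
      · rw [k1 _ _ c.hπ, fld_hh1 σ hσ, dj_hh m hm]
      · rintro rfl; rw [k1 _ _ O.aπ, fld_wa, dj_wa]
      · rintro rfl; rw [k1 _ _ O.bπ, fld_wb, dj_wb 1 one_ne_zero]
    · have n2 : Nm P (p0 * x * u) := n1.mul O.nm_u
      refine ⟨p0, p0.2, u, Or.inr rfl, Or.inl ?_⟩
      apply fin n2
      have k2 : ∀ (y : P) (y' : P) (s : S), u * (y : Γ) = y' * u → C.π y' = q s →
          C.π (kap P (p0 * x * u) n2.h1 n2.h2 y) = q (cj (DD m) (fld σ s)) := by
        intro y y' s hyy hy
        rw [← k1 y' s hy]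
        congr 1
        apply Subtype.ext
        rw [kap_apply, kap_apply, mul_assoc (_ * _) u, hyy]
        group
      have hσ2 : ∀ t, σ (t * t) = t := by
        intro t; rw [hσ]; revert t; decide
      apply caseI c E.e1 E.ew O.aπ O.bπ E.ac E.bc (hzκ n2) hm
      · intro t; rw [k2 _ _ _ (O.u12 t) (c.f12.lift _), fld_x12, hσ2, dj_x12 m t hm]
      · intro t; rw [k2 _ _ _ (O.u23 t) (c.f23.lift _), fld_x23, hσ2, dj_x23 m t hm]
      · intro t; rw [k2 _ _ _ (O.u13 t) (c.f13.lift _), fld_x13, hσ2, dj_x13 m t hm]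
      · have huh : u * (c.h : Γ) = ((c.h⁻¹ : P) : Γ) * u := by
          rw [Subgroup.coe_inv, eq_inv_mul_iff_mul_eq, ← mul_assoc]; exact O.uh
        rw [k2 _ _ hi huh (by rw [map_inv, c.hπ, ← map_inv, ← hi_eq]), fld_hi2 σ hσ, dj_hh m hm]
      · rintro rfl; rw [k2 _ _ _ O.ua O.aπ, fld_wa, dj_wa]
      · rintro rfl; rw [k2 _ _ _ O.ub O.bπ, fld_wb, dj_wb 1 one_ne_zero]
  · obtain ⟨p0, hp0⟩ := C.exists_lift (w13 * A⁻¹)
    have n1 : Nm P (p0 * x) := (Nm.of_mem p0.2).mul hx
    have k1 : ∀ (y : P) (s s' s'' : S), C.π y = q s → cj (DD m) (fld σ (itr s)) = s' → w13 * s' = s'' * w13 →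
        C.π (kap P (p0 * x) n1.h1 n1.h2 y) = q s'' := by
      intro y s s' s'' hy hs hw
      have e1 : kap P (p0 * x) n1.h1 n1.h2 y = p0 * kap P x hx.h1 hx.h2 y * p0⁻¹ := by
        apply Subtype.ext
        rw [kap_apply, Subgroup.coe_mul, Subgroup.coe_mul, kap_apply, Subgroup.coe_inv]; group
      rw [e1, map_mul, map_mul, map_inv, ← hα, hy, hform, hp0, hs, map_mul, map_inv]
      have e2 : q w13 * q s' = q s'' * q w13 := by rw [← map_mul, hw, map_mul]
      calc q w13 * (q A)⁻¹ * (q A * q s' * (q A)⁻¹) * (q w13 * (q A)⁻¹)⁻¹ = (q w13 * q s') * (q w13)⁻¹ := by group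
        _ = q s'' := by rw [e2]; group
    rcases ringEquiv_cases σ with hσ | hσ
    · refine ⟨p0, p0.2, 1, Or.inl rfl, Or.inr ?_⟩
      rw [mul_one]
      obtain ⟨r12, r23, r13, rh, ra, rb⟩ := caseII7 (F := F) (χ := fun y : P => χ y) c E.e1 E.ew O.aπ O.bπ E.ac E.bc
        (fun x y => E.cl x y) E.nz (κ := kap P (p0 * x) n1.h1 n1.h2) (by intro y; exact E.cl _ _) (hzκ n1) hm
        (by
          intro t
          exact k1 _ _ _ _ (c.f12.lift t) (by rw [itr_x12, fld_x21, hσ, dj_x21 m t hm]) (w13_x21 _))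
        (by
          intro t
          exact k1 _ _ _ _ (c.f23.lift t) (by rw [itr_x23, fld_x32, hσ, dj_x32 m t hm]) (w13_x32 _))
        (by
          intro t
          exact k1 _ _ _ _ (c.f13.lift t) (by rw [itr_x13, fld_x31, hσ, dj_x31 m t hm]) (w13_x31 _))
        (by
          have h3 := k1 _ _ _ _ c.hπ (by rw [itr_hh, fld_hi1 σ hσ, dj_hi m hm]) w13_hi
          rw [h3, map_mul, map_mul, q_sc, one_mul, one_mul])
        (by
          rintro rfl
          exact k1 _ _ _ _ O.aπ (by rw [itr_wa, fld_wa, dj_wa]) w13_wa)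
        (by
          rintro rfl
          exact k1 _ _ _ _ O.bπ (by rw [itr_wb, fld_wb, dj_wb 1 one_ne_zero]) w13_wb)
      exact ⟨fun t => fin2 n1 (r12 t), fun t => fin2 n1 (r23 t), fun t => fin2 n1 (r13 t), fin2 n1 rh, fin2 n1 ra,
        fin2 n1 rb⟩
    · have n2 : Nm P (p0 * x * u) := n1.mul O.nm_u
      have k2 : ∀ (y : P) (y' : P) (s s' s'' : S), u * (y : Γ) = y' * u → C.π y' = q s →
          cj (DD m) (fld σ (itr s)) = s' → w13 * s' = s'' * w13 →
          C.π (kap P (p0 * x * u) n2.h1 n2.h2 y) = q s'' := by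
        intro y y' s s' s'' hyy hy hs hw
        rw [← k1 y' s s' s'' hy hs hw]
        congr 1
        apply Subtype.ext
        rw [kap_apply, kap_apply, mul_assoc (_ * _) u, hyy]
        group
      have hσ2 : ∀ t, σ (t * t) = t := by
        intro t; rw [hσ]; revert t; decide
      refine ⟨p0, p0.2, u, Or.inr rfl, Or.inr ?_⟩
      obtain ⟨r12, r23, r13, rh, ra, rb⟩ := caseII7 (F := F) (χ := fun y : P => χ y) c E.e1 E.ew O.aπ O.bπ E.ac E.bc
        (fun x y => E.cl x y) E.nz (κ := kap P (p0 * x * u) n2.h1 n2.h2) (by intro y; exact E.cl _ _) (hzκ n2) hm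
        (by
          intro t
          exact k2 _ _ _ _ _ (O.u12 t) (c.f12.lift _) (by rw [itr_x12, fld_x21, hσ2, dj_x21 m t hm]) (w13_x21 _))
        (by
          intro t
          exact k2 _ _ _ _ _ (O.u23 t) (c.f23.lift _) (by rw [itr_x23, fld_x32, hσ2, dj_x32 m t hm]) (w13_x32 _))
        (by
          intro t
          exact k2 _ _ _ _ _ (O.u13 t) (c.f13.lift _) (by rw [itr_x13, fld_x31, hσ2, dj_x31 m t hm]) (w13_x31 _))
        (by
          have huh : u * (c.h : Γ) = ((c.h⁻¹ : P) : Γ) * u := by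
            rw [Subgroup.coe_inv, eq_inv_mul_iff_mul_eq, ← mul_assoc]; exact O.uh
          have hih : itr hi = hh := by
            rw [hi_eq, map_inv, itr_hh, hi_eq, inv_inv]
          have h3 := k2 _ _ hi _ _ huh (by rw [map_inv, c.hπ, ← map_inv, ← hi_eq])
            (by rw [hih, fld_hh2 σ hσ, dj_hi m hm]) w13_hi
          rw [h3, map_mul, map_mul, q_sc, one_mul, one_mul])
        (by
          rintro rfl
          exact k2 _ _ _ _ _ O.ua O.aπ (by rw [itr_wa, fld_wa, dj_wa]) w13_wa)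
        (by
          rintro rfl
          exact k2 _ _ _ _ _ O.ub O.bπ (by rw [itr_wb, fld_wb, dj_wb 1 one_ne_zero]) w13_wb)
      exact ⟨fun t => fin2 n2 (r12 t), fun t => fin2 n2 (r23 t), fun t => fin2 n2 (r13 t), fin2 n2 rh, fin2 n2 ra,
        fin2 n2 rb⟩

end Cfsg.Agent.H869.L34
end

-- part: H869/L34/Swap
section
/-!
# The graph automorphism of `2.L3(4)` on the module of dimension ten (helper869)
-/

set_option autoImplicit false
set_option linter.constructorNameAsVariable false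

namespace Cfsg.Agent.H869.L34

open Cfsg.Agent.Lib.FieldFour
open Cfsg.Agent.H840.L34 Cfsg.Agent.H840.L34.Dt

section ortho

variable {F : Type*} [Field F] {V : Type*} [AddCommGroup V] [Module F V]

theorem exists_ch_ne (h2 : (2 : F) ≠ 0) {i j : F4 × F4} (hij : i ≠ j) : ∃ x, ch F i x * ch F j x ≠ 1 := by
  by_contra h
  push Not at h
  have h3 := sum_ch (F := F) (i + j)
  rw [if_neg (fun h' => hij ((add_eq_zero_iff' i j).1 h'))] at h3
  have h4 : ∀ x, ch F (i + j) x = 1 := fun x => by rw [ch_add_left]; exact h x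
  simp only [h4] at h3
  rw [Finset.sum_const, Finset.card_univ, Fintype.card_prod, F4.card, nsmul_eq_mul, mul_one] at h3
  apply sixteen_ne h2
  rw [← h3]; norm_num

theorem polar_zero (h2 : (2 : F) ≠ 0) (Q : QuadraticForm F V) {T : F4 × F4 → V →ₗ[F] V}
    (hT : ∀ x v, Q (T x v) = Q v) {i j : F4 × F4} (hij : i ≠ j) {u v : V} (hu : u ∈ W T i) (hv : v ∈ W T j) :
    QuadraticMap.polar Q u v = 0 := by
  obtain ⟨x, hx⟩ := exists_ch_ne (F := F) h2 hij
  have h3 : QuadraticMap.polar Q (T x u) (T x v) = QuadraticMap.polar Q u v := by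
    rw [QuadraticMap.polar, ← map_add, hT, hT, hT]; rfl
  rw [hu x, hv x, QuadraticMap.polar_smul_left, QuadraticMap.polar_smul_right, smul_eq_mul, smul_eq_mul,
    ← mul_assoc] at h3
  have h4 : (ch F i x * ch F j x - 1) * QuadraticMap.polar Q u v = 0 := by rw [sub_mul, h3, one_mul, sub_self]
  exact (mul_eq_zero.1 h4).resolve_left (sub_ne_zero.2 hx)

end ortho

variable {G : Type*} [Group G] {C : Cv G}
variable {F : Type*} [Field F] {V : Type*} [AddCommGroup V] [Module F V]

/-- a linear map inducing the graph automorphism -/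
structure SwV (ρ : G →* Module.End F V) (c : Conf C) (a b : G) (w : V →ₗ[F] V) : Prop where
  k12 : ∀ t v, w (ρ (c.X12 t) v) = ρ (c.X23 t) (w v)
  k23 : ∀ t v, w (ρ (c.X23 t) v) = ρ (c.X12 t) (w v)
  k13 : ∀ t v, w (ρ (c.X13 t) v) = ρ (c.X13 t) (w v)
  kh : ∀ v, w (ρ c.h v) = ρ c.h (w v)
  ka : ∀ v, w (ρ a v) = ρ b (w v)

section

variable {ρ : G →* Module.End F V} {c : Conf C} {a b : G} {w : V →ₗ[F] V}

theorem SwV.map_a (S : SwV ρ c a b w) {i j : F4} {v : V} (hv : v ∈ W (RH.Ta ρ c) (i, j)) :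
    w v ∈ W (RH.Tb ρ c) (i, j) := by
  rw [RH.mem_a] at hv
  rw [RH.mem_b]
  exact ⟨fun t => by rw [← S.k13, hv.1, map_smul], fun t => by rw [← S.k23, hv.2, map_smul]⟩

theorem SwV.map_b (S : SwV ρ c a b w) {i j : F4} {v : V} (hv : v ∈ W (RH.Tb ρ c) (i, j)) :
    w v ∈ W (RH.Ta ρ c) (i, j) := by
  rw [RH.mem_b] at hv
  rw [RH.mem_a]
  exact ⟨fun t => by rw [← S.k13, hv.1, map_smul], fun t => by rw [← S.k12, hv.2, map_smul]⟩

variable (D : Dt C c ρ) (ha : RH.IsA ρ C a) (hb : RH.IsB ρ C b)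
variable {v0 : V} (hv : v0 ∈ W (RH.Ta ρ c) (0, 0)) (h0 : v0 ≠ 0)

theorem co_vv (k : Om) {i j : F4} (hg : Gd i j) :
    (D.B ha hv h0).coord k (vv ρ c a v0 i j) = if (i, j) = k.1 then 1 else 0 := by
  have h1 : vv ρ c a v0 i j = D.B ha hv h0 ⟨(i, j), hg⟩ := (D.B_apply ha hv h0 ⟨(i, j), hg⟩).symm
  rw [h1, Module.Basis.coord_apply, Module.Basis.repr_self, Finsupp.single_apply]
  simp only [Subtype.ext_iff]

include D ha hv h0 in
/-- the shape of a linear map inducing the graph automorphism -/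
theorem SwV.form (S : SwV ρ c a b w) {r : F}
    (e2 : ∀ j, j ≠ 0 → ρ b (ff ρ c a v0 0 j) = r⁻¹ • ff ρ c a v0 j 0) :
    ∃ k : F, (∀ j, w (vv ρ c a v0 0 j) = k • ff ρ c a v0 0 j) ∧
      (∀ j, j ≠ 0 → w (vv ρ c a v0 j 0) = (k * r⁻¹) • ff ρ c a v0 j 0) ∧
      (∀ j, j ≠ 0 → w (vv ρ c a v0 j j⁻¹) = (k * r⁻¹) • ff ρ c a v0 j j⁻¹) := by
  have h2 := D.R.two
  have hc : ∀ {i j : F4}, Gd i j → ∃ k : F, w (vv ρ c a v0 i j) = k • ff ρ c a v0 i j := by
    intro i j hg
    exact eq_smul (D.fr_b ha hv h0 ⟨(i, j), hg⟩) (D.mem_ff ha hv hg) (D.ff_ne_zero ha hv h0)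
      (S.map_a (D.mem_vv ha hv hg))
  have hd : ∀ {i j : F4}, Gd i j → ∃ k : F, w (ff ρ c a v0 i j) = k • vv ρ c a v0 i j := by
    intro i j hg
    exact eq_smul (D.R.m_one c D.e1 hg) (D.mem_vv ha hv hg) (ne_vv h0 _ _) (S.map_b (D.mem_ff ha hv hg))
  obtain ⟨c00, h00⟩ := hc (i := 0) (j := 0) (by decide)
  obtain ⟨c01, h01⟩ := hc (i := 0) (j := 1) (by decide)
  obtain ⟨c0w, h0w⟩ := hc (i := 0) (j := F4.w) (by decide)
  obtain ⟨c0v, h0v⟩ := hc (i := 0) (j := F4.v) (by decide)
  obtain ⟨d0, hd0⟩ := hd (i := 0) (j := 0) (by decide)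
  rw [ff00, map_add, map_add, map_add, h00, h01, h0w, h0v, ff00, ff01, ff0w, ff0v] at hd0
  have q1 := congrArg ((D.B ha hv h0).coord ⟨(0, 1), by decide⟩) hd0
  have q2 := congrArg ((D.B ha hv h0).coord ⟨(0, F4.w), by decide⟩) hd0
  have q3 := congrArg ((D.B ha hv h0).coord ⟨(0, F4.v), by decide⟩) hd0
  simp only [map_add, map_sub, map_smul, co_vv D ha hv h0 _ (i := 0) (j := 0) (by decide),
    co_vv D ha hv h0 _ (i := 0) (j := 1) (by decide), co_vv D ha hv h0 _ (i := 0) (j := F4.w) (by decide),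
    co_vv D ha hv h0 _ (i := 0) (j := F4.v) (by decide), smul_eq_mul] at q1 q2 q3
  simp only [show ¬ ((0 : F4) = 1) by decide, show ¬ ((0 : F4) = F4.w) by decide, show ¬ ((0 : F4) = F4.v) by decide,
    show ¬ ((1 : F4) = F4.w) by decide, show ¬ ((1 : F4) = F4.v) by decide,
    show ¬ (F4.w = (1 : F4)) by decide, show ¬ (F4.v = (1 : F4)) by decide, _root_.Prod.mk.injEq, _root_.and_false, ↓ _root_.reduceIte, _root_.zero_add, _root_.add_zero, _root_.mul_one, _root_.sub_zero, _root_.zero_sub, _root_.mul_neg, _root_.MulZeroClass.mul_zero, _root_.reduceCtorEq, _root_.sub_self] at q1 q2 q3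
  have r1 : c01 = c00 := by
    apply mul_left_cancel₀ h2; linear_combination -q2 - q3
  have r2 : c0w = c00 := by
    apply mul_left_cancel₀ h2; linear_combination -q1 - q3
  have r3 : c0v = c00 := by
    apply mul_left_cancel₀ h2; linear_combination -q1 - q2
  subst r1 r2 r3
  clear q1 q2 q3 hd0
  have A0 : ∀ j, w (vv ρ c a v0 0 j) = c0v • ff ρ c a v0 0 j := by
    intro j
    cases j
    · exact h00
    · exact h01
    · exact h0w
    · exact h0v
  have e2' : ρ b (ff ρ c a v0 0 1) = r⁻¹ • ff ρ c a v0 1 0 := e2 1 (by decide)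
  -- the constants on the other weights
  obtain ⟨k, hk⟩ := hc (i := 1) (j := 0) (by decide)
  have a01 : ρ a (vv ρ c a v0 0 1) = vv ρ c a v0 1 0 := D.a_vv ha hv (by decide)
  have kr : k = c0v * r⁻¹ := by
    have h3 := S.ka (vv ρ c a v0 0 1)
    rw [a01, hk, A0, map_smul, e2', smul_smul] at h3
    have h4 : (k - c0v * r⁻¹) • ff ρ c a v0 1 0 = 0 := by rw [sub_smul, h3, sub_self]
    exact sub_eq_zero.1 ((smul_eq_zero.1 h4).resolve_right (D.ff_ne_zero ha hv h0))
  have t1 : ρ c.h (vv ρ c a v0 1 0) = vv ρ c a v0 F4.v 0 := by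
    have := D.h_vv ha hv (i := 1) (j := 0) (by decide)
    exact this
  have t2 : ρ c.h (vv ρ c a v0 F4.v 0) = vv ρ c a v0 F4.w 0 := by
    have := D.h_vv ha hv (i := F4.v) (j := 0) (by decide)
    exact this
  have k1 : ρ c.h (ff ρ c a v0 1 0) = ff ρ c a v0 F4.v 0 := by
    have := D.h_ff ha hv (i := 1) (j := 0) (by decide)
    exact this
  have k2 : ρ c.h (ff ρ c a v0 F4.v 0) = ff ρ c a v0 F4.w 0 := by
    have := D.h_ff ha hv (i := F4.v) (j := 0) (by decide)
    exact this
  have hkv : w (vv ρ c a v0 F4.v 0) = k • ff ρ c a v0 F4.v 0 := by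
    rw [← t1, S.kh, hk, map_smul, k1]
  have hkw : w (vv ρ c a v0 F4.w 0) = k • ff ρ c a v0 F4.w 0 := by
    rw [← t2, S.kh, hkv, map_smul, k2]
  have A1 : ∀ j, j ≠ 0 → w (vv ρ c a v0 j 0) = k • ff ρ c a v0 j 0 := by
    intro j hj
    cases j
    · exact absurd rfl hj
    · exact hk
    · exact hkw
    · exact hkv
  have A2 : ∀ j, j ≠ 0 → w (vv ρ c a v0 j j⁻¹) = k • ff ρ c a v0 j j⁻¹ := by
    intro j hj
    obtain ⟨m, hm⟩ := hc (i := j) (j := j⁻¹) (g6 j)
    obtain ⟨d, hd⟩ := hd (i := j) (j := 0) (Or.inl (mul_zero j))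
    have hm' := hm
    rw [ffj0 a v0 hj, map_add, A1 j hj, hm, ffj0 a v0 hj, ffji a v0 hj] at hd
    have q4 := congrArg ((D.B ha hv h0).coord ⟨(j, j⁻¹), g6 j⟩) hd
    simp only [map_add, map_sub, map_smul, co_vv D ha hv h0 _ (i := j) (j := 0) (Or.inl (mul_zero j)),
      co_vv D ha hv h0 _ (i := j) (j := j⁻¹) (g6 j), smul_eq_mul] at q4
    rw [if_neg (fun h => (inv_ne_zero hj) (Prod.ext_iff.1 h).2.symm)] at q4
    simp only [if_true] at q4
    have : m = k := by linear_combination -q4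
    rw [hm', this]
  exact ⟨c0v, A0, fun j hj => by rw [A1 j hj, kr], fun j hj => by rw [A2 j hj, kr]⟩

/-- vectors in the first block -/
def V4 (ρ : G →* Module.End F V) (c : Conf C) (a : G) (v0 : V) (x y z t : F) : V :=
  x • vv ρ c a v0 0 0 + y • vv ρ c a v0 0 1 + z • vv ρ c a v0 0 F4.w + t • vv ρ c a v0 0 F4.v

/-- vectors in the other blocks -/
def V2 (ρ : G →* Module.End F V) (c : Conf C) (a : G) (v0 : V) (j : F4) (x y : F) : V :=
  x • vv ρ c a v0 j 0 + y • vv ρ c a v0 j j⁻¹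

theorem map_V4 {k : F} (hw : ∀ j, w (vv ρ c a v0 0 j) = k • ff ρ c a v0 0 j) (x y z t : F) :
    w (V4 ρ c a v0 x y z t) = V4 ρ c a v0 (k * (x + y + z + t)) (k * (x + y - z - t)) (k * (x - y + z - t))
      (k * (x - y - z + t)) := by
  unfold V4
  rw [map_add, map_add, map_add, map_smul, map_smul, map_smul, map_smul, hw, hw, hw, hw, ff00, ff01, ff0w, ff0v]
  module

theorem map_V2 {k : F} (hw : ∀ j, j ≠ 0 → w (vv ρ c a v0 j 0) = k • ff ρ c a v0 j 0)
    (hw' : ∀ j, j ≠ 0 → w (vv ρ c a v0 j j⁻¹) = k • ff ρ c a v0 j j⁻¹) {j : F4} (hj : j ≠ 0) (x y : F) :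
    w (V2 ρ c a v0 j x y) = V2 ρ c a v0 j (k * (x + y)) (k * (x - y)) := by
  unfold V2
  rw [map_add, map_smul, map_smul, hw j hj, hw' j hj, ffj0 a v0 hj, ffji a v0 hj]
  module

section form

variable (Q : QuadraticForm F V) (hQ : ∀ g v, Q (ρ g v) = Q v)

include hQ in
theorem Q_vv (i j : F4) : Q (vv ρ c a v0 i j) = Q v0 := by
  unfold vv
  by_cases hi : i = 0
  · rw [if_pos hi, hQ]
  · rw [if_neg hi, hQ]
    unfold uu
    rw [hQ, hQ]

include D ha hv hQ in
theorem polar_vv {i j i' j' : F4} (hg : Gd i j) (hg' : Gd i' j') (hne : (i, j) ≠ (i', j')) :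
    QuadraticMap.polar Q (vv ρ c a v0 i j) (vv ρ c a v0 i' j') = 0 :=
  polar_zero D.R.two Q (T := RH.Ta ρ c) (fun _ v => hQ _ v) hne (D.mem_vv ha hv hg) (D.mem_vv ha hv hg')

include hQ in
theorem polar_self (i j : F4) : QuadraticMap.polar Q (vv ρ c a v0 i j) (vv ρ c a v0 i j) = 2 * Q v0 := by
  rw [QuadraticMap.polar_self, Q_vv Q hQ, two_nsmul, two_mul]

include D ha hv hQ in
theorem polar_V4 (x y z t x' y' z' t' : F) :
    QuadraticMap.polar Q (V4 ρ c a v0 x y z t) (V4 ρ c a v0 x' y' z' t') =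
      2 * (x * x' + y * y' + z * z' + t * t') * Q v0 := by
  have p := fun {i j i' j' : F4} => polar_vv D ha hv Q hQ (i := i) (j := j) (i' := i') (j' := j')
  have s := fun i j => polar_self (c := c) (a := a) (v0 := v0) Q hQ i j
  unfold V4
  simp only [QuadraticMap.polar_add_left, QuadraticMap.polar_add_right, QuadraticMap.polar_smul_left,
    QuadraticMap.polar_smul_right, smul_eq_mul, s]
  rw [p (i := 0) (j := 0) (i' := 0) (j' := 1) (by decide) (by decide) (by decide),
    p (i := 0) (j := 0) (i' := 0) (j' := F4.w) (by decide) (by decide) (by decide),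
    p (i := 0) (j := 0) (i' := 0) (j' := F4.v) (by decide) (by decide) (by decide),
    p (i := 0) (j := 1) (i' := 0) (j' := 0) (by decide) (by decide) (by decide),
    p (i := 0) (j := 1) (i' := 0) (j' := F4.w) (by decide) (by decide) (by decide),
    p (i := 0) (j := 1) (i' := 0) (j' := F4.v) (by decide) (by decide) (by decide),
    p (i := 0) (j := F4.w) (i' := 0) (j' := 0) (by decide) (by decide) (by decide),
    p (i := 0) (j := F4.w) (i' := 0) (j' := 1) (by decide) (by decide) (by decide),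
    p (i := 0) (j := F4.w) (i' := 0) (j' := F4.v) (by decide) (by decide) (by decide),
    p (i := 0) (j := F4.v) (i' := 0) (j' := 0) (by decide) (by decide) (by decide),
    p (i := 0) (j := F4.v) (i' := 0) (j' := 1) (by decide) (by decide) (by decide),
    p (i := 0) (j := F4.v) (i' := 0) (j' := F4.w) (by decide) (by decide) (by decide)]
  ring

include D ha hv hQ in
theorem polar_V2 {j : F4} (hj : j ≠ 0) (x y x' y' : F) :
    QuadraticMap.polar Q (V2 ρ c a v0 j x y) (V2 ρ c a v0 j x' y') = 2 * (x * x' + y * y') * Q v0 := by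
  have p := fun {i j i' j' : F4} => polar_vv D ha hv Q hQ (i := i) (j := j) (i' := i') (j' := j')
  have s := fun i j => polar_self (c := c) (a := a) (v0 := v0) Q hQ i j
  unfold V2
  simp only [QuadraticMap.polar_add_left, QuadraticMap.polar_add_right, QuadraticMap.polar_smul_left,
    QuadraticMap.polar_smul_right, smul_eq_mul, s]
  rw [p (i := j) (j := 0) (i' := j) (j' := j⁻¹) (Or.inl (mul_zero j)) (g6 j)
      (fun h => (inv_ne_zero hj) (Prod.ext_iff.1 h).2.symm),
    p (i := j) (j := j⁻¹) (i' := j) (j' := 0) (g6 j) (Or.inl (mul_zero j))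
      (fun h => (inv_ne_zero hj) (Prod.ext_iff.1 h).2)]
  ring

include D ha hv hQ in
theorem polar_V42 {j : F4} (hj : j ≠ 0) (x y z t x' y' : F) :
    QuadraticMap.polar Q (V4 ρ c a v0 x y z t) (V2 ρ c a v0 j x' y') = 0 := by
  have p : ∀ {k l : F4}, Gd j l → QuadraticMap.polar Q (vv ρ c a v0 0 k) (vv ρ c a v0 j l) = 0 := fun {k l} hg =>
    polar_vv D ha hv Q hQ (Or.inl (zero_mul k)) hg (fun h => hj (Prod.ext_iff.1 h).1.symm)
  unfold V2 V4
  simp only [QuadraticMap.polar_add_left, QuadraticMap.polar_add_right, QuadraticMap.polar_smul_left,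
    QuadraticMap.polar_smul_right, smul_eq_mul]
  rw [p (k := 0) (g6 j), p (k := 1) (g6 j), p (k := F4.w) (g6 j), p (k := F4.v) (g6 j),
    p (k := 0) (Or.inl (mul_zero j)), p (k := 1) (Or.inl (mul_zero j)), p (k := F4.w) (Or.inl (mul_zero j)),
    p (k := F4.v) (Or.inl (mul_zero j))]
  ring

include D ha hv hQ in
theorem polar_V22 {i j : F4} (hij : i ≠ j) (x y x' y' : F) :
    QuadraticMap.polar Q (V2 ρ c a v0 i x y) (V2 ρ c a v0 j x' y') = 0 := by
  have p : ∀ {k l : F4}, Gd i k → Gd j l → QuadraticMap.polar Q (vv ρ c a v0 i k) (vv ρ c a v0 j l) = 0 :=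
    fun {k l} hg hg' => polar_vv D ha hv Q hQ hg hg' (fun h => hij (Prod.ext_iff.1 h).1)
  unfold V2
  simp only [QuadraticMap.polar_add_left, QuadraticMap.polar_add_right, QuadraticMap.polar_smul_left,
    QuadraticMap.polar_smul_right, smul_eq_mul]
  rw [p (Or.inl (mul_zero i)) (Or.inl (mul_zero j)), p (Or.inl (mul_zero i)) (g6 j),
    p (g6 i) (Or.inl (mul_zero j)), p (g6 i) (g6 j)]
  ring

end form

end

end Cfsg.Agent.H869.L34
end

-- part: H869/L34/Swap2
section
/-!
# The graph automorphism of `2.L3(4)` is not induced by `Ω₁₀(7)` (helper869)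
-/

set_option autoImplicit false
set_option linter.constructorNameAsVariable false
set_option linter.unusedSectionVars false

namespace Cfsg.Agent.H869.L34

open Cfsg.Agent.Lib.FieldFour
open Cfsg.Agent.H840.L34 Cfsg.Agent.H840.L34.Dt Cfsg.Agent.H932.Spinor

variable {G : Type*} [Group G] {C : Cv G}
variable {ι : Type} [Fintype ι] [DecidableEq ι] {F : Type*} [Field F]

section vectors

variable {V : Type*} [AddCommGroup V] [Module F V]

/-- eigenvectors -/
def nvec (ρ : G →* Module.End F V) (c : Conf C) (a : G) (v0 : V) : Fin 4 → V :=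
  ![V4 ρ c a v0 1 (-1) (-1) (-1), V2 ρ c a v0 1 1 3, V2 ρ c a v0 F4.w 1 3, V2 ρ c a v0 F4.v 1 3]

/-- eigenvectors -/
def pvec (ρ : G →* Module.End F V) (c : Conf C) (a : G) (v0 : V) : Fin 6 → V :=
  ![V4 ρ c a v0 1 1 0 0, V4 ρ c a v0 1 (-1) 2 0, V4 ρ c a v0 1 (-1) (-1) 3, V2 ρ c a v0 1 1 2,
    V2 ρ c a v0 F4.w 1 2, V2 ρ c a v0 F4.v 1 2]

variable {ρ : G →* Module.End F V} {c : Conf C} {a : G} {v0 : V} {w : V →ₗ[F] V}

theorem map_nvec (h7 : (7 : F) = 0) {s : F}
    (hw4 : ∀ x y z t, w (V4 ρ c a v0 x y z t) = V4 ρ c a v0 (4 * s * (x + y + z + t)) (4 * s * (x + y - z - t))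
      (4 * s * (x - y + z - t)) (4 * s * (x - y - z + t)))
    (hw2 : ∀ j, j ≠ 0 → ∀ x y, w (V2 ρ c a v0 j x y) = V2 ρ c a v0 j (5 * s * (x + y)) (5 * s * (x - y)))
    (i : Fin 4) : w (nvec ρ c a v0 i) = (-s) • nvec ρ c a v0 i := by
  have e4 : w (V4 ρ c a v0 1 (-1) (-1) (-1)) = (-s) • V4 ρ c a v0 1 (-1) (-1) (-1) := by
    rw [hw4]
    unfold V4
    have : (4 * s * (1 + -1 + -1 + -1)) = -s := by linear_combination -s * h7
    rw [this]
    have : (4 * s * (1 + -1 - -1 - -1)) = s := by linear_combination s * h7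
    rw [this]
    have : (4 * s * (1 - -1 + -1 - -1)) = s := by linear_combination s * h7
    rw [this]
    have : (4 * s * (1 - -1 - -1 + -1)) = s := by linear_combination s * h7
    rw [this]
    module
  have e2 : ∀ j : F4, j ≠ 0 → w (V2 ρ c a v0 j 1 3) = (-s) • V2 ρ c a v0 j 1 3 := by
    intro j hj
    rw [hw2 j hj]
    unfold V2
    have : (5 * s * (1 + 3)) = -s := by linear_combination 3 * s * h7
    rw [this]
    have : (5 * s * (1 - 3)) = -(s * 3) := by linear_combination -s * h7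
    rw [this]
    module
  fin_cases i
  · exact e4
  · exact e2 1 (by decide)
  · exact e2 F4.w (by decide)
  · exact e2 F4.v (by decide)

theorem map_pvec (h7 : (7 : F) = 0) {s : F}
    (hw4 : ∀ x y z t, w (V4 ρ c a v0 x y z t) = V4 ρ c a v0 (4 * s * (x + y + z + t)) (4 * s * (x + y - z - t))
      (4 * s * (x - y + z - t)) (4 * s * (x - y - z + t)))
    (hw2 : ∀ j, j ≠ 0 → ∀ x y, w (V2 ρ c a v0 j x y) = V2 ρ c a v0 j (5 * s * (x + y)) (5 * s * (x - y)))
    (i : Fin 6) : w (pvec ρ c a v0 i) = s • pvec ρ c a v0 i := by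
  have e2 : ∀ j : F4, j ≠ 0 → w (V2 ρ c a v0 j 1 2) = s • V2 ρ c a v0 j 1 2 := by
    intro j hj
    rw [hw2 j hj]
    unfold V2
    have : (5 * s * (1 + 2)) = s := by linear_combination 2 * s * h7
    rw [this]
    have : (5 * s * (1 - 2)) = s * 2 := by linear_combination -s * h7
    rw [this]
    module
  fin_cases i
  · change w (V4 ρ c a v0 1 1 0 0) = s • V4 ρ c a v0 1 1 0 0
    rw [hw4]
    unfold V4
    have : (4 * s * (1 + 1 + 0 + 0)) = s := by linear_combination s * h7
    rw [this]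
    have : (4 * s * (1 + 1 - 0 - 0)) = s := by linear_combination s * h7
    rw [this]
    module
  · change w (V4 ρ c a v0 1 (-1) 2 0) = s • V4 ρ c a v0 1 (-1) 2 0
    rw [hw4]
    unfold V4
    have : (4 * s * (1 + -1 + 2 + 0)) = s := by linear_combination s * h7
    rw [this]
    have : (4 * s * (1 + -1 - 2 - 0)) = -s := by linear_combination -s * h7
    rw [this]
    have : (4 * s * (1 - -1 + 2 - 0)) = s * 2 := by linear_combination 2 * s * h7
    rw [this]
    module
  · change w (V4 ρ c a v0 1 (-1) (-1) 3) = s • V4 ρ c a v0 1 (-1) (-1) 3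
    rw [hw4]
    unfold V4
    have : (4 * s * (1 + -1 + -1 + 3)) = s := by linear_combination s * h7
    rw [this]
    have : (4 * s * (1 + -1 - -1 - 3)) = -s := by linear_combination -s * h7
    rw [this]
    have : (4 * s * (1 - -1 + -1 - 3)) = -s := by linear_combination -s * h7
    rw [this]
    have : (4 * s * (1 - -1 - -1 + 3)) = s * 3 := by linear_combination 3 * s * h7
    rw [this]
    module
  · exact e2 1 (by decide)
  · exact e2 F4.w (by decide)
  · exact e2 F4.v (by decide)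

end vectors

section gram

variable {ρ : G →* Module.End F (ι → F)} {c : Conf C} {a : G} {v0 : ι → F}
variable (D : Dt C c ρ) (ha : RH.IsA ρ C a) (hv : v0 ∈ W (RH.Ta ρ c) (0, 0))
  (Q : QuadraticForm F (ι → F)) (hQ : ∀ g v, Q (ρ g v) = Q v)

include D ha hv hQ in
theorem gram_nvec : gram (⇑Q) (nvec ρ c a v0) = Matrix.diagonal ![8 * Q v0, 20 * Q v0, 20 * Q v0, 20 * Q v0] := by
  have p4 := fun x y z t x' y' z' t' => polar_V4 D ha hv Q hQ x y z t x' y' z' t'
  have p2 := fun {j : F4} (hj : j ≠ 0) x y x' y' => polar_V2 D ha hv Q hQ hj x y x' y'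
  have p42 := fun {j : F4} (hj : j ≠ 0) x y z t x' y' => polar_V42 D ha hv Q hQ hj x y z t x' y'
  have p24 : ∀ {j : F4} (hj : j ≠ 0) x y z t x' y', QuadraticMap.polar (⇑Q) (V2 ρ c a v0 j x' y') (V4 ρ c a v0 x y z t) = 0 :=
    fun hj x y z t x' y' => by rw [QuadraticMap.polar_comm]; exact p42 hj _ _ _ _ _ _
  have p22 := fun {i j : F4} (hij : i ≠ j) x y x' y' => polar_V22 D ha hv Q hQ hij x y x' y'
  have n1 : (1 : F4) ≠ 0 := by decide
  have nw : F4.w ≠ 0 := by decide
  have nv : F4.v ≠ 0 := by decide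
  have n1w : (1 : F4) ≠ F4.w := by decide
  have n1v : (1 : F4) ≠ F4.v := by decide
  have nwv : F4.w ≠ F4.v := by decide
  ext i j
  change QuadraticMap.polar (⇑Q) (nvec ρ c a v0 i) (nvec ρ c a v0 j) = _
  (revert i j; simp only [nvec, p4, p2 n1, p2 nw, p2 nv, p42 n1, p42 nw, p42 nv, p24 n1, p24 nw, p24 nv, p22 n1w, p22 n1w.symm, p22 n1v, p22 n1v.symm, p22 nwv, p22 nwv.symm, _root_.Fin.forall_fin_succ, _root_.Nat.succ_eq_add_one, Nat.reduceAdd, Fin.isValue, _root_.Matrix.cons_val_zero, _root_.Matrix.cons_val_succ, _root_.Fin.succ_zero_eq_one, _root_.Fin.succ_one_eq_two, _root_.Matrix.cons_val_fin_one, Fin.reduceSucc, _root_.IsEmpty.forall_iff, _root_.and_true, _root_.mul_one, _root_.mul_neg, _root_.neg_neg, _root_.Matrix.diagonal_apply_eq, _root_.mul_eq_mul_right_iff, _root_.ne_eq, _root_.zero_ne_one, _root_.not_false_eq_true, _root_.Matrix.diagonal_apply_ne, Fin.reduceEq, _root_.and_self, _root_.Fin.succ_ne_zero, _root_.Matrix.cons_val_one, _root_.true_and,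 _root_.Matrix.cons_val]) <;> (repeat' with_reducible apply And.intro) <;> norm_num

include D ha hv hQ in
theorem gram_pvec : gram (⇑Q) (pvec ρ c a v0) = Matrix.diagonal ![4 * Q v0, 12 * Q v0, 24 * Q v0, 10 * Q v0,
    10 * Q v0, 10 * Q v0] := by
  have p4 := fun x y z t x' y' z' t' => polar_V4 D ha hv Q hQ x y z t x' y' z' t'
  have p2 := fun {j : F4} (hj : j ≠ 0) x y x' y' => polar_V2 D ha hv Q hQ hj x y x' y'
  have p42 := fun {j : F4} (hj : j ≠ 0) x y z t x' y' => polar_V42 D ha hv Q hQ hj x y z t x' y'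
  have p24 : ∀ {j : F4} (hj : j ≠ 0) x y z t x' y', QuadraticMap.polar (⇑Q) (V2 ρ c a v0 j x' y') (V4 ρ c a v0 x y z t) = 0 :=
    fun hj x y z t x' y' => by rw [QuadraticMap.polar_comm]; exact p42 hj _ _ _ _ _ _
  have p22 := fun {i j : F4} (hij : i ≠ j) x y x' y' => polar_V22 D ha hv Q hQ hij x y x' y'
  have n1 : (1 : F4) ≠ 0 := by decide
  have nw : F4.w ≠ 0 := by decide
  have nv : F4.v ≠ 0 := by decide
  have n1w : (1 : F4) ≠ F4.w := by decide
  have n1v : (1 : F4) ≠ F4.v := by decide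
  have nwv : F4.w ≠ F4.v := by decide
  ext i j
  change QuadraticMap.polar (⇑Q) (pvec ρ c a v0 i) (pvec ρ c a v0 j) = _
  (revert i j; simp only [pvec, p4, p2 n1, p2 nw, p2 nv, p42 n1, p42 nw, p42 nv, p24 n1, p24 nw, p24 nv, p22 n1w, p22 n1w.symm, p22 n1v, p22 n1v.symm, p22 nwv, p22 nwv.symm, _root_.Fin.forall_fin_succ, _root_.Nat.succ_eq_add_one, Nat.reduceAdd, Fin.isValue, _root_.Matrix.cons_val_zero, _root_.Matrix.cons_val_succ, _root_.Fin.succ_zero_eq_one, _root_.Fin.succ_one_eq_two, Fin.reduceSucc, _root_.Matrix.cons_val_fin_one, _root_.IsEmpty.forall_iff, _root_.and_true, _root_.mul_one, _root_.MulZeroClass.mul_zero, _root_.add_zero, _root_.Matrix.diagonal_apply_eq, _root_.mul_eq_mul_right_iff, _root_.mul_neg, _root_.add_neg_cancel, _root_.MulZeroClass.zero_mul, _root_.ne_eq, _root_.zero_ne_one, _root_.not_false_eq_true, _root_.Matrix.diagonal_apply_ne, _root_.neg_zero, Fin.reduceEq, _root_.and_self, _root_.Fin.succ_ne_zero, _root_.neg_neg, _root_.Matrix.cons_val_one,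 _root_.mul_eq_zero, _root_.true_and, _root_.neg_mul, _root_.one_mul, _root_.Matrix.cons_val]) <;> (repeat' with_reducible apply And.intro) <;> norm_num

end gram

theorem eq_one_of_ac {Q : (ι → F) → F} {g : Cfsg.isometryGroup F Q} (h : ∀ v, ac g v = v) : g = 1 := by
  apply Subtype.ext
  apply Units.ext
  apply Matrix.toLin'.injective
  apply LinearMap.ext
  intro v
  rw [Matrix.toLin'_apply]
  change ac g v = Matrix.toLin' (1 : Matrix ι ι F) v
  rw [h, Matrix.toLin'_one]; rfl

/-- **The graph automorphism of `2.L3(4)` is not induced by an element of `Ω₁₀(7)`**; an isometry inducing it has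
determinant one. -/
theorem swap_thm [Fintype F] [DecidableEq F] (hF : Fintype.card F = 7) {ρ : G →* Module.End F (ι → F)} {c : Conf C}
    {a b : G} {v0 : ι → F} (D : Dt C c ρ) (ha : RH.IsA ρ C a) (hb : RH.IsB ρ C b) (hv : v0 ∈ W (RH.Ta ρ c) (0, 0))
    (h0 : v0 ≠ 0) (Q : QuadraticForm F (ι → F)) (hnd : (QuadraticMap.polarBilin Q).Nondegenerate)
    (hQ : ∀ g v, Q (ρ g v) = Q v) (hQ0 : Q v0 ≠ 0) (g : Cfsg.isometryGroup F (⇑Q)) {w : (ι → F) →ₗ[F] (ι → F)}
    (hg : ∀ v, ac g v = w v) (S : SwV ρ c a b w) :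
    ((g : Matrix.GeneralLinearGroup ι F) : Matrix ι ι F).det = 1 ∧
      (g : Matrix.GeneralLinearGroup ι F) ∉ Cfsg.Geo.omegaGL (⇑Q) := by
  have h2 := D.R.two
  have h7 : (7 : F) = 0 := by
    have := FiniteField.cast_card_eq_zero F
    rw [hF] at this; exact_mod_cast this
  have hcard : Fintype.card ι = 10 := by
    have := D.R.dim
    rwa [Module.finrank_fintype_fun_eq_card] at this
  -- the constant `r`
  obtain ⟨r, hr0, e0, e1, e2, e3⟩ := D.b_ff ha hv hb h0
  have hr := D.eq_r ha hb hv h0 hr0 e0 e1 e2 e3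
  have hr2 : r = -2 := by
    have h3 : (r + 2) * (r + 2) = 0 := by
      apply mul_left_cancel₀ h2
      linear_combination hr + (r + 1) * h7
    have h4 : r + 2 = 0 := mul_self_eq_zero.1 h3
    linear_combination h4
  have hri : r⁻¹ = 3 := by
    rw [inv_eq_iff_eq_inv, eq_comm, inv_eq_of_mul_eq_one_left]
    rw [hr2]; linear_combination -h7
  -- the shape of `w`
  obtain ⟨k, w0, w1, w2⟩ := S.form D ha hv h0 e2
  rw [hri] at w1 w2
  have m4 := map_V4 (w := w) w0
  have m2 := fun {j : F4} (hj : j ≠ 0) x y => map_V2 (w := w) w1 w2 hj x y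
  have hQw : ∀ v, Q (w v) = Q v := by
    intro v
    rw [← hg]
    exact g.2 v v
  have hk : k * k = 2 := by
    have h3 : V4 ρ c a v0 1 0 0 0 = vv ρ c a v0 0 0 := by
      unfold V4; module
    have h4 := m4 1 0 0 0
    have h5 := hQw (V4 ρ c a v0 1 0 0 0)
    have h6 : QuadraticMap.polar (⇑Q) (w (V4 ρ c a v0 1 0 0 0)) (w (V4 ρ c a v0 1 0 0 0)) =
        QuadraticMap.polar (⇑Q) (V4 ρ c a v0 1 0 0 0) (V4 ρ c a v0 1 0 0 0) := by
      rw [QuadraticMap.polar_self, QuadraticMap.polar_self, h5]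
    rw [h4, polar_V4 D ha hv Q hQ, polar_V4 D ha hv Q hQ] at h6
    have h8 : 2 * Q v0 ≠ 0 := mul_ne_zero h2 hQ0
    apply mul_left_cancel₀ h8
    linear_combination 2 * h6 - (2 * Q v0 * k * k + 2 * Q v0 * (1 - 1)) * h7 
  obtain ⟨s, hs, hks⟩ : ∃ s : F, (s = 1 ∨ s = -1) ∧ k = 4 * s := by
    have h3 : (k - 4) * (k + 4) = 0 := by linear_combination hk - 2 * h7
    rcases mul_eq_zero.1 h3 with h4 | h4
    · exact ⟨1, Or.inl rfl, by linear_combination h4⟩
    · exact ⟨-1, Or.inr rfl, by linear_combination h4⟩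
  have hss : s * s = 1 := by
    rcases hs with rfl | rfl
    · exact one_mul 1
    · norm_num
  have hw4 : ∀ x y z t, w (V4 ρ c a v0 x y z t) = V4 ρ c a v0 (4 * s * (x + y + z + t)) (4 * s * (x + y - z - t))
      (4 * s * (x - y + z - t)) (4 * s * (x - y - z + t)) := by
    intro x y z t
    rw [m4, hks]
  have hw2 : ∀ j, j ≠ 0 → ∀ x y, w (V2 ρ c a v0 j x y) = V2 ρ c a v0 j (5 * s * (x + y)) (5 * s * (x - y)) := by
    intro j hj x y
    rw [m2 hj, hks, show 4 * s * 3 = 5 * s by linear_combination s * h7]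
  have hn : ∀ i, ac g (nvec ρ c a v0 i) = (-s) • nvec ρ c a v0 i := fun i => by
    rw [hg]; exact map_nvec h7 hw4 hw2 i
  have hp : ∀ i, ac g (pvec ρ c a v0 i) = s • pvec ρ c a v0 i := fun i => by
    rw [hg]; exact map_pvec h7 hw4 hw2 i
  -- `w² = 1`
  have ww4 : ∀ x y z t, w (w (V4 ρ c a v0 x y z t)) = V4 ρ c a v0 x y z t := by
    intro x y z t
    rw [hw4, hw4]
    congr 1
    · linear_combination 64 * x * hss + 9 * x * h7
    · linear_combination 64 * y * hss + 9 * y * h7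
    · linear_combination 64 * z * hss + 9 * z * h7
    · linear_combination 64 * t * hss + 9 * t * h7
  have ww2 : ∀ j, j ≠ 0 → ∀ x y, w (w (V2 ρ c a v0 j x y)) = V2 ρ c a v0 j x y := by
    intro j hj x y
    rw [hw2 j hj, hw2 j hj]
    congr 1
    · linear_combination 50 * x * hss + 7 * x * h7
    · linear_combination 50 * y * hss + 7 * y * h7
  have hww : w ∘ₗ w = LinearMap.id := by
    apply D.ext_v ha hv h0
    intro i j hgd
    change w (w (vv ρ c a v0 i j)) = vv ρ c a v0 i j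
    by_cases hi : i = 0
    · subst hi
      have u0 : vv ρ c a v0 0 0 = V4 ρ c a v0 1 0 0 0 := by unfold V4; module
      have u1 : vv ρ c a v0 0 1 = V4 ρ c a v0 0 1 0 0 := by unfold V4; module
      have uw : vv ρ c a v0 0 F4.w = V4 ρ c a v0 0 0 1 0 := by unfold V4; module
      have uv : vv ρ c a v0 0 F4.v = V4 ρ c a v0 0 0 0 1 := by unfold V4; module
      cases j
      · change w (w (vv ρ c a v0 0 0)) = vv ρ c a v0 0 0
        rw [u0]; exact ww4 _ _ _ _
      · change w (w (vv ρ c a v0 0 1)) = vv ρ c a v0 0 1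
        rw [u1]; exact ww4 _ _ _ _
      · rw [uw]; exact ww4 _ _ _ _
      · rw [uv]; exact ww4 _ _ _ _
    · by_cases hj : j = 0
      · subst hj
        have u0 : vv ρ c a v0 i 0 = V2 ρ c a v0 i 1 0 := by unfold V2; module
        rw [u0]; exact ww2 i hi _ _
      · rw [g4 i j hi hgd hj]
        have u0 : vv ρ c a v0 i i⁻¹ = V2 ρ c a v0 i 0 1 := by unfold V2; module
        rw [u0]; exact ww2 i hi _ _
  have hgg : g * g = 1 := by
    apply eq_one_of_ac
    intro v
    rw [ac_mul, hg, hg]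
    exact LinearMap.congr_fun hww v
  -- Gram determinants
  have gn := gram_nvec D ha hv Q hQ
  have gp := gram_pvec D ha hv Q hQ
  have dn : (gram (⇑Q) (nvec ρ c a v0)).det = 64000 * Q v0 ^ 4 := by
    rw [gn, Matrix.det_diagonal]
    simp only [Fin.prod_univ_succ, _root_.Nat.succ_eq_add_one, _root_.Nat.reduceAdd, _root_.Fin.isValue, _root_.Matrix.cons_val_zero, _root_.Matrix.cons_val_succ, _root_.Finset.univ_unique, _root_.Fin.default_eq_zero, _root_.Matrix.cons_val_fin_one, _root_.Finset.prod_const, _root_.Finset.card_singleton, _root_.pow_one]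
    ring
  have dp : (gram (⇑Q) (pvec ρ c a v0)).det = 1152000 * Q v0 ^ 6 := by
    rw [gp, Matrix.det_diagonal]
    simp only [Fin.prod_univ_succ, _root_.Nat.succ_eq_add_one, _root_.Nat.reduceAdd, _root_.Fin.isValue, _root_.Matrix.cons_val_zero, _root_.Matrix.cons_val_succ, _root_.Finset.univ_unique, _root_.Fin.default_eq_zero, _root_.Matrix.cons_val_fin_one, _root_.Finset.prod_const, _root_.Finset.card_singleton, _root_.pow_one]
    ring
  have hone : (1 : F) ≠ 0 := one_ne_zero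
  have hthree : (3 : F) ≠ 0 := by
    intro h
    apply hone
    linear_combination h7 - 2 * h
  have dn0 : (gram (⇑Q) (nvec ρ c a v0)).det ≠ 0 := by
    rw [dn, show (64000 : F) = -1 by linear_combination 9143 * h7]
    exact mul_ne_zero (neg_ne_zero.2 hone) (pow_ne_zero _ hQ0)
  have dp0 : (gram (⇑Q) (pvec ρ c a v0)).det ≠ 0 := by
    rw [dp, show (1152000 : F) = 3 by linear_combination 164571 * h7]
    exact mul_ne_zero hthree (pow_ne_zero _ hQ0)
  have hns : ¬ IsSquare (-1 : F) := by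
    rw [FiniteField.isSquare_neg_one_iff, hF]
    norm_num
  have snn : ¬ IsSquare (gram (⇑Q) (nvec ρ c a v0)).det := by
    rintro ⟨y, hy⟩
    apply hns
    refine ⟨y / Q v0 ^ 2, ?_⟩
    rw [dn, show (64000 : F) = -1 by linear_combination 9143 * h7] at hy
    field_simp
    linear_combination hy
  have snp : ¬ IsSquare (gram (⇑Q) (pvec ρ c a v0)).det := by
    rintro ⟨y, hy⟩
    apply hns
    refine ⟨3 * y / Q v0 ^ 3, ?_⟩
    rw [dp, show (1152000 : F) = 3 by linear_combination 164571 * h7] at hy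
    field_simp
    linear_combination 9 * hy - 4 * Q v0 ^ 6 * h7
  rcases hs with rfl | rfl
  · have hn' : ∀ i, ac g (nvec ρ c a v0 i) = - nvec ρ c a v0 i := fun i => by rw [hn, neg_one_smul]
    have hp' : ∀ i, ac g (pvec ρ c a v0 i) = pvec ρ c a v0 i := fun i => by rw [hp, one_smul]
    constructor
    · have := (spinor_gram' h2 Q g hgg _ hn' dn0 _ hp' dp0 (by rw [hcard])).2
      rw [this]; norm_num
    · intro hmem
      exact snn (isSquare_of_mem h2 Q hnd (by rw [hcard]; norm_num) g hmem hgg _ hn' dn0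
        (finrank_em_le h2 Q g _ hp' dp0 (by rw [hcard]))).2
  · have hn' : ∀ i, ac g (nvec ρ c a v0 i) = nvec ρ c a v0 i := fun i => by rw [hn, neg_neg, one_smul]
    have hp' : ∀ i, ac g (pvec ρ c a v0 i) = - pvec ρ c a v0 i := fun i => by rw [hp, neg_one_smul]
    constructor
    · have := (spinor_gram' h2 Q g hgg _ hp' dp0 _ hn' dn0 (by rw [hcard])).2
      rw [this]; norm_num
    · intro hmem
      exact snp (isSquare_of_mem h2 Q hnd (by rw [hcard]; norm_num) g hmem hgg _ hp' dp0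
        (finrank_em_le h2 Q g _ hn' dn0 (by rw [hcard]))).2

end Cfsg.Agent.H869.L34
end

-- part: H869/L34/Kill7
section
/-!
# `PSL_3(4)` is not maximal in `Ω₁₀(q)`, `q` odd (helper869)
-/

set_option autoImplicit false
set_option linter.constructorNameAsVariable false
set_option linter.unusedSectionVars false

namespace Cfsg.Agent.H869.L34

open Cfsg.Agent.Lib.FieldFour Cfsg Cfsg.Geo H915.LD H906.T14
open Cfsg.Agent.H840.L34 Cfsg.Agent.H840.L34.Dt Cfsg.Agent.H932.Spinor
open scoped Matrix MatrixGroups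

universe u v

theorem det_omega {ι : Type} [Fintype ι] [DecidableEq ι] {F : Type u} [Field F] {Q : (ι → F) → F} {g : GL ι F}
    (hg : g ∈ omegaGL Q) : (g : Matrix ι ι F).det = 1 := by
  obtain ⟨y, hy, rfl⟩ := hg
  have h1 := Abelianization.commutator_subset_ker
    ((Matrix.GeneralLinearGroup.det : GL ι F →* Fˣ).comp (Cfsg.isometryGroup F Q).subtype) hy
  have h2 := congrArg Units.val (MonoidHom.mem_ker.1 h1)
  exact h2

section

variable {F : Type u} [Field F] {P : Subgroup (GL (Fin 10) F)} {C : Cv P} {c : Conf C} {a b : P}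

/-- group relations give relations of linear maps -/
theorem Sw.swv {x : GL (Fin 10) F} (S : Sw c a b x) :
    SwV (rp P) c a b (Matrix.toLin' (x : Matrix (Fin 10) (Fin 10) F)) where
  k12 t v := by
    rw [Matrix.toLin'_apply, Matrix.toLin'_apply, rp_apply, rp_apply, ← mul_vec, ← mul_vec, S.k12]
  k23 t v := by
    rw [Matrix.toLin'_apply, Matrix.toLin'_apply, rp_apply, rp_apply, ← mul_vec, ← mul_vec, S.k23]
  k13 t v := by
    rw [Matrix.toLin'_apply, Matrix.toLin'_apply, rp_apply, rp_apply, ← mul_vec, ← mul_vec, S.k13]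
  kh v := by
    rw [Matrix.toLin'_apply, Matrix.toLin'_apply, rp_apply, rp_apply, ← mul_vec, ← mul_vec, S.kh]
  ka v := by
    rw [Matrix.toLin'_apply, Matrix.toLin'_apply, rp_apply, rp_apply, ← mul_vec, ← mul_vec, S.ka]

theorem det_of_scalar {x : GL (Fin 10) F} {s : F} (h : (x : Matrix (Fin 10) (Fin 10) F) = s • (1 : Matrix (Fin 10) (Fin 10) F)) :
    (x : Matrix (Fin 10) (Fin 10) F).det = s ^ 10 := by
  rw [h, Matrix.det_smul, Matrix.det_one, mul_one, Fintype.card_fin]

theorem sq_of_scalar {Q : (Fin 10 → F) → F} (hQ : IsNondegenerateQuadraticForm Q) {x : GL (Fin 10) F}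
    (hx : ∀ v, Q ((x : Matrix (Fin 10) (Fin 10) F) *ᵥ v) = Q v) {s : F}
    (hs : (x : Matrix (Fin 10) (Fin 10) F) = s • (1 : Matrix (Fin 10) (Fin 10) F)) : s ^ 2 = 1 := by
  obtain ⟨v, hv⟩ := H879.TL.exists_ne_of_nondeg hQ
  have h2 := hx v
  rw [hs, Matrix.smul_mulVec, Matrix.one_mulVec, hQ.smul] at h2
  have h4 : (s ^ 2 - 1) * Q v = 0 := by rw [sub_mul, h2, one_mul, sub_self]
  exact sub_eq_zero.1 ((mul_eq_zero.1 h4).resolve_right hv)

end

section final

variable {F : Type u} [Field F] [Fintype F] {P H : Subgroup (GL (Fin 10) F)} {C : Cv P} {c : Conf C} {a b : P}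
  {v0 : Fin 10 → F}

/-- the form on the monomial basis -/
theorem Q_B (D : Dt C c (rp P)) (ha : RH.IsA (rp P) C a) (hv : v0 ∈ W (RH.Ta (rp P) c) (0, 0)) (h0 : v0 ≠ 0)
    (Q : QuadraticForm F (Fin 10 → F)) (hQρ : ∀ (g : P) (v : Fin 10 → F), Q (rp P g v) = Q v) (k : Om) :
    Q (D.B ha hv h0 k) = Q v0 := by
  rw [D.B_apply]
  exact Q_vv Q hQρ k.1.1 k.1.2

theorem polar_B (D : Dt C c (rp P)) (ha : RH.IsA (rp P) C a) (hv : v0 ∈ W (RH.Ta (rp P) c) (0, 0)) (h0 : v0 ≠ 0)
    (Q : QuadraticForm F (Fin 10 → F)) (hQρ : ∀ (g : P) (v : Fin 10 → F), Q (rp P g v) = Q v) (k l : Om) (hkl : k ≠ l) :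
    QuadraticMap.polar (⇑Q) (D.B ha hv h0 k) (D.B ha hv h0 l) = 0 := by
  rw [D.B_apply, D.B_apply]
  exact polar_vv D ha hv Q hQρ k.2 l.2 (fun h => hkl (Subtype.ext h))

theorem Q_v0_ne (D : Dt C c (rp P)) (ha : RH.IsA (rp P) C a) (hv : v0 ∈ W (RH.Ta (rp P) c) (0, 0)) (h0 : v0 ≠ 0)
    (Q : QuadraticForm F (Fin 10 → F)) (hQ : IsNondegenerateQuadraticForm (⇑Q))
    (hQρ : ∀ (g : P) (v : Fin 10 → F), Q (rp P g v) = Q v) : Q v0 ≠ 0 := by
  intro h
  obtain ⟨v, hv'⟩ := H879.TL.exists_ne_of_nondeg hQ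
  apply hv'
  have h1 : ∀ x y, QuadraticMap.polar (⇑Q) x y = 0 := by
    intro x y
    have h2 : QuadraticMap.polarBilin Q = 0 := by
      apply (D.B ha hv h0).ext
      intro k
      apply (D.B ha hv h0).ext
      intro l
      change QuadraticMap.polar (⇑Q) (D.B ha hv h0 k) (D.B ha hv h0 l) = 0
      by_cases hkl : k = l
      · subst hkl
        rw [QuadraticMap.polar_self, Q_B D ha hv h0 Q hQρ, h, smul_zero]
      · exact polar_B D ha hv h0 Q hQρ k l hkl
    exact LinearMap.congr_fun (LinearMap.congr_fun h2 x) y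
  have h3 := h1 v v
  rw [QuadraticMap.polar_self, two_nsmul, ← two_mul] at h3
  exact (mul_eq_zero.1 h3).resolve_left D.R.two

/-- the group `O.Q` is too small to contain the even permutation matrices -/
theorem not_pm_le {g u : GL (Fin 10) F} (O : Ov c a b g u) (h2 : (2 : F) ≠ 0)
    (hz : ((C.z : GL (Fin 10) F) : Matrix (Fin 10) (Fin 10) F) = -1) (B : Module.Basis Om F (Fin 10 → F))
    (h : ∀ σ : Equiv.Perm Om, Equiv.Perm.sign σ = 1 → pm B σ ∈ O.Q) : False := by
  classical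
  have hzQ : (C.z : GL (Fin 10) F) ∈ O.Q := O.P_le C.z.2
  have hzz : (C.z : GL (Fin 10) F) * C.z = 1 := congrArg Subtype.val C.zz
  let f : ℤˣ × alternatingGroup Om → O.Q := fun t =>
    ⟨(if t.1 = 1 then 1 else (C.z : GL (Fin 10) F)) * pm B t.2, O.Q.mul_mem (by
      split_ifs
      · exact O.Q.one_mem
      · exact hzQ) (h _ t.2.2)⟩
  have hvec : ∀ (t : ℤˣ × alternatingGroup Om) (k : Om), ((f t : GL (Fin 10) F) : Matrix (Fin 10) (Fin 10) F) *ᵥ B k =
      ((t.1 : ℤ) : F) • B ((t.2 : Equiv.Perm Om) k) := by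
    intro t k
    change ((((if t.1 = 1 then 1 else (C.z : GL (Fin 10) F)) * pm B t.2 : GL (Fin 10) F)) :
      Matrix (Fin 10) (Fin 10) F) *ᵥ B k = _
    rw [mul_vec, pm_vec]
    rcases Int.units_eq_one_or t.1 with h1 | h1
    · rw [h1, if_pos rfl, Units.val_one, Matrix.one_mulVec, Units.val_one, Int.cast_one, one_smul]
    · rw [h1, if_neg (by decide), hz, Matrix.neg_mulVec, Matrix.one_mulVec, Units.val_neg, Units.val_one,
        Int.cast_neg, Int.cast_one, neg_one_smul]
  have hf : Function.Injective f := by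
    intro t t' htt
    have h3 : ∀ k, ((t.1 : ℤ) : F) • B ((t.2 : Equiv.Perm Om) k) = ((t'.1 : ℤ) : F) • B ((t'.2 : Equiv.Perm Om) k) := by
      intro k
      rw [← hvec, ← hvec, htt]
    have h4 : ∀ k, (t.2 : Equiv.Perm Om) k = (t'.2 : Equiv.Perm Om) k := by
      intro k
      by_contra hne
      have h5 := congrArg (fun v => B.repr v ((t.2 : Equiv.Perm Om) k)) (h3 k)
      simp only [map_smul, Module.Basis.repr_self, Finsupp.smul_apply, Finsupp.single_eq_same, smul_eq_mul, mul_one] at h5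
      rw [Finsupp.single_apply, if_neg (fun h => hne h.symm), mul_zero] at h5
      exact unit_ne_zero _ h5
    have h5 : t.1 = t'.1 := by
      have h6 := h3 ⟨(0, 0), by decide⟩
      rw [h4] at h6
      have h7 := congrArg (fun v => B.repr v ((t'.2 : Equiv.Perm Om) ⟨(0, 0), by decide⟩)) h6
      simp only [map_smul, Module.Basis.repr_self, Finsupp.smul_apply, Finsupp.single_eq_same, smul_eq_mul, mul_one] at h7
      exact unit_ne h2 h7
    exact Prod.ext h5 (Subtype.ext (Equiv.ext h4))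
  have h1 := Nat.card_le_card_of_injective f hf
  rw [Nat.card_prod] at h1
  have h3 : 2 * Nat.card (alternatingGroup Om) = 3628800 := by
    have : Nontrivial Om := ⟨⟨⟨(0, 0), by decide⟩, ⟨(0, 1), by decide⟩, by decide⟩⟩
    have h4 := nat_card_alternatingGroup (α := Om)
    have h5 : Nat.card Om = 10 := by rw [Nat.card_eq_fintype_card]; rfl
    rw [h4, h5]
    norm_num [Nat.factorial]
  have h4 : Nat.card ℤˣ = 2 := by rw [Nat.card_eq_fintype_card, Fintype.card_units_int]
  have h5 := card_Q_le O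
  rw [card_P C] at h5
  rw [h4, h3] at h1
  omega

/-- **The case of seven elements.** -/
theorem kill7 (D : Dt C c (rp P)) (ha : RH.IsA (rp P) C a) (hb : RH.IsB (rp P) C b)
    (hac : ∃ γ : P, a = γ * c.X23 1 * γ⁻¹) (hbc : ∃ γ : P, b = γ * c.X23 1 * γ⁻¹)
    (hv : v0 ∈ W (RH.Ta (rp P) c) (0, 0)) (h0 : v0 ≠ 0)
    (hz : ((C.z : GL (Fin 10) F) : Matrix (Fin 10) (Fin 10) F) = -1)
    (Q : QuadraticForm F (Fin 10 → F)) (hQ : IsNondegenerateQuadraticForm (⇑Q))
    (hnd : (QuadraticMap.polarBilin Q).Nondegenerate)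
    (hH : IsMaximalIn (omegaGL (⇑Q)) H) (hR : IsResidualCore H P) (hF : Fintype.card F = 7) : False := by
  classical
  have h2 := D.R.two
  have h1 := D.e1
  have hC := core_of_residual hR
  have hPΩ : P ≤ omegaGL (⇑Q) := hR.le.trans hH.1.le
  have hQρ : ∀ (g : P) (v : Fin 10 → F), Q (rp P g v) = Q v := fun g v =>
    H933.O10.fix_of_mem_omegaGL (hPΩ g.2) v
  have hQ0 := Q_v0_ne D ha hv h0 Q hQ hQρ
  -- the overgroup
  have O : Ov c a b (pm (D.B ha hv h0) σg) (pm (D.B ha hv h0) σu) := ov D ha hb hv h0 hz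
  have hpm : ∀ σ : Equiv.Perm Om, Equiv.Perm.sign σ = 1 → pm (D.B ha hv h0) σ ∈ omegaGL (⇑Q) := fun σ hσ =>
    pm_omega (D.B ha hv h0) h2 Q (Q_B D ha hv h0 Q hQρ) (polar_B D ha hv h0 Q hQρ) hnd hσ
  have hgΩ := hpm _ sign_σg
  have hu_iso : ∀ v, Q ((pm (D.B ha hv h0) σu : Matrix (Fin 10) (Fin 10) F) *ᵥ v) = Q v :=
    H957.mem_isometryGroup.1 (pm_iso (D.B ha hv h0) h2 Q (Q_B D ha hv h0 Q hQρ) (polar_B D ha hv h0 Q hQρ) σu)
  have hu_det : (pm (D.B ha hv h0) σu : Matrix (Fin 10) (Fin 10) F).det = -1 := by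
    rw [pm_det, sign_σu, Units.val_neg, Units.val_one, Int.cast_neg, Int.cast_one]
  have E : Ex7 c a b (tr : GL (Fin 10) F → F) := by
    refine ⟨h1, D.R.not_triv c h1, hac, hbc, fun x y => tr_conj x y, ?_⟩
    have t1 : tr ((c.X23 1 : P) : GL (Fin 10) F) = 2 := by
      rw [← tr_rp]; exact D.R.trace_23 c h1 one_ne_zero
    have t2 : tr ((C.z * c.X23 1 : P) : GL (Fin 10) F) = -2 := by
      have e : rp P (C.z * c.X23 1) = -rp P (c.X23 1) := by
        rw [map_mul, D.R.z]
        exact LinearMap.ext fun v => rfl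
      rw [← tr_rp, e, map_neg, D.R.trace_23 c h1 one_ne_zero]
    rw [t1, t2]
    intro h
    have h3 : (2 : F) * 2 = 0 := by linear_combination h
    rcases mul_eq_zero.1 h3 with h4 | h4 <;> exact h2 h4
  generalize hug : pm (D.B ha hv h0) σu = u at O hu_iso hu_det
  generalize hgg : pm (D.B ha hv h0) σg = g at O hgΩ
  have hdet1 : ∀ {x : GL (Fin 10) F}, x ∈ omegaGL (⇑Q) → (x : Matrix (Fin 10) (Fin 10) F).det = 1 := by
    intro x hx
    exact det_omega hx
  have hm1 : (-1 : F) ≠ 1 := by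
    intro h
    apply h2
    linear_combination -h
  -- `H ≤ P`
  have hHP : H ≤ P := by
    intro h hh
    have hnm : Nm P h := ⟨fun y hy => hR.normal h hh y hy, fun y hy => by
      have := hR.normal h⁻¹ (H.inv_mem hh) y hy
      rwa [inv_inv] at this⟩
    obtain ⟨p, hp, k, hk, hcase⟩ := norm_thm7 O E hnm
    have hpΩ := hPΩ hp
    have hhΩ := hH.1.le hh
    have hphΩ : p * h ∈ omegaGL (⇑Q) := Subgroup.mul_mem _ hpΩ hhΩ
    have hiso : ∀ v, Q (((p * h * k : GL (Fin 10) F) : Matrix (Fin 10) (Fin 10) F) *ᵥ v) = Q v := by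
      intro v
      rw [mul_vec, H933.O10.fix_of_mem_omegaGL hphΩ]
      rcases hk with rfl | rfl
      · rw [Units.val_one, Matrix.one_mulVec]
      · exact hu_iso v
    have hdet : ((p * h * k : GL (Fin 10) F) : Matrix (Fin 10) (Fin 10) F).det = (k : Matrix (Fin 10) (Fin 10) F).det := by
      rw [Units.val_mul, Matrix.det_mul, hdet1 hphΩ, one_mul]
    rcases hcase with hcomm | hS
    · have h3 := H920.mem_scalars_of_comm' hC.absIrred hcomm
      rw [mem_scalars_iff] at h3
      obtain ⟨s, hs⟩ := h3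
      have hs2 := sq_of_scalar hQ hiso hs
      rcases hk with rfl | rfl
      · have h4 : (s : F) = 1 ∨ (s : F) = -1 := by
          have h5 : ((s : F) - 1) * (s + 1) = 0 := by linear_combination hs2
          rcases mul_eq_zero.1 h5 with h6 | h6
          · exact Or.inl (sub_eq_zero.1 h6)
          · exact Or.inr (eq_neg_of_add_eq_zero_left h6)
        have h5 : p * h * 1 ∈ P := by
          rcases h4 with h4 | h4
          · have : p * h * 1 = 1 := by
              apply Units.ext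
              rw [hs, h4, one_smul]; rfl
            rw [this]; exact P.one_mem
          · have : p * h * 1 = C.z := by
              apply Units.ext
              rw [hs, h4, hz, neg_one_smul]
            rw [this]; exact C.z.2
        rw [mul_one] at h5
        have h6 := P.mul_mem (P.inv_mem hp) h5
        rwa [inv_mul_cancel_left] at h6
      · exfalso
        rw [det_of_scalar hs, hu_det] at hdet
        apply hm1
        rw [← hdet, show (s : F) ^ 10 = ((s : F) ^ 2) ^ 5 by ring, hs2, one_pow]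
    · exfalso
      have hmem : (p * h * k : GL (Fin 10) F) ∈ Cfsg.isometryGroup F (⇑Q) := H957.mem_isometryGroup.2 hiso
      obtain ⟨d1, d2⟩ := swap_thm hF D ha hb hv h0 Q hnd hQρ hQ0 ⟨_, hmem⟩ (w := Matrix.toLin' _)
        (fun v => by rw [Matrix.toLin'_apply]) hS.swv
      rcases hk with rfl | rfl
      · apply d2
        have h5 : p * h * 1 ∈ omegaGL (⇑Q) := by rw [mul_one]; exact hphΩ
        exact h5
      · change ((p * h * _ : GL (Fin 10) F) : Matrix (Fin 10) (Fin 10) F).det = 1 at d1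
        rw [hdet, hu_det] at d1
        exact hm1 d1
  -- the group `O.Q`
  have hQΩ : O.Q ≤ omegaGL (⇑Q) := by
    intro x hx
    rcases O.mem_Q.1 hx with hx | ⟨p, hp, r, hr, rfl⟩
    · exact hPΩ hx
    · exact Subgroup.mul_mem _ (Subgroup.mul_mem _ (hPΩ hp) hgΩ) (hPΩ hr)
  rcases hH.2 O.Q (fun x hx => O.P_le (hHP hx)) hQΩ with h3 | h3
  · have h4 : g ∈ H := by
      rw [← h3]
      exact O.g_mem
    apply O.not_nm
    exact ⟨fun y hy => hR.normal g h4 y hy, fun y hy => by
      have := hR.normal g⁻¹ (H.inv_mem h4) y hy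
      rwa [inv_inv] at this⟩
  · exact not_pm_le O h2 hz (D.B ha hv h0) (fun σ hσ => by rw [h3]; exact hpm σ hσ)

end final

variable {F : Type u} [Field F] [Fintype F] {K : Type v} [Field K] [Fintype K]

/-- **`Ω₁₀(q)`, `q` odd : cores with socle `PSL_3(4)` are not maximal.** -/
theorem kill_omega {Q : (Fin 10 → F) → F} (hQ : IsNondegenerateQuadraticForm Q) {H P : Subgroup (GL (Fin 10) F)}
    (hH : IsMaximalIn (omegaGL Q) H) (hR : IsResidualCore H P) (hK : Fintype.card K = 4)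
    (e : Soc P ≃* Matrix.ProjectiveSpecialLinearGroup (Fin 3) K) (h2 : (2 : F) ≠ 0) : False := by
  classical
  obtain ⟨Q, rfl, hnd'⟩ := H883.Bridge.exists_quadraticForm hQ
  have hnd := H932.nondegenerate_polarBilin hnd'
  have hC := core_of_residual hR
  have hn : Fintype.card (Fin 10) = 10 := Fintype.card_fin 10
  have hPΩ : P ≤ omegaGL (⇑Q) := hR.le.trans hH.1.le
  obtain ⟨z, hz⟩ := neg_one_mem hK hC hn h2 e
  obtain ⟨α, c, h1⟩ := exists_good (cv1 hK e hC hn h2 hz)
  have hzC : ((((cv1 hK e hC hn h2 hz).comp α).z : GL (Fin 10) F) : Matrix (Fin 10) (Fin 10) F) = -1 := hz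
  have D : Dt ((cv1 hK e hC hn h2 hz).comp α) c (rp P) := ⟨rh _ hzC h2 hn, h1⟩
  obtain ⟨γ, hγ⟩ := c.exists_conj wa_g
  obtain ⟨δ, hδ⟩ := c.exists_conj wb_g
  have ha : RH.IsA (rp P) ((cv1 hK e hC hn h2 hz).comp α) (γ * c.X23 1 * γ⁻¹) :=
    ⟨hγ, by rw [RH.trace_conj]; exact D.R.trace_23 c h1 one_ne_zero⟩
  have hb : RH.IsB (rp P) ((cv1 hK e hC hn h2 hz).comp α) (δ * c.X23 1 * δ⁻¹) :=
    ⟨hδ, by rw [RH.trace_conj]; exact D.R.trace_23 c h1 one_ne_zero⟩
  have hac : ∃ γ' : P, γ * c.X23 1 * γ⁻¹ = γ' * c.X23 1 * γ'⁻¹ := ⟨γ, rfl⟩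
  have hbc : ∃ γ' : P, δ * c.X23 1 * δ⁻¹ = γ' * c.X23 1 * γ'⁻¹ := ⟨δ, rfl⟩
  generalize γ * c.X23 1 * γ⁻¹ = a at ha hac
  generalize δ * c.X23 1 * δ⁻¹ = b at hb hbc
  generalize hCC : (cv1 hK e hC hn h2 hz).comp α = CC at *
  obtain ⟨v0, hv, h0⟩ : ∃ v, v ∈ W (RH.Ta (rp P) c) (0, 0) ∧ v ≠ 0 := by
    obtain ⟨u, hu, h0⟩ := D.R.exists_u c h1
    exact ⟨_, hu ⟨(0, 0), by decide⟩, h0 _⟩
  have hQρ : ∀ (g : P) (v : Fin 10 → F), Q (rp P g v) = Q v := fun g v =>
    H933.O10.fix_of_mem_omegaGL (hPΩ g.2) v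
  -- elements of order seven
  have h7 : (7 : F) = 0 := by
    by_contra h7
    apply D.trace_ne ha hb hv h0 h7
    rw [tr_rp, tr_rp]
    have hsd := H933.O10.sd_of_le hQ hPΩ
    have e1 : tr ((b * a * c.X12 1 : P) : GL (Fin 10) F) = tr ((b * a * c.X23 1 : P) : GL (Fin 10) F) := by
      have h3 : c.X12 1 = (b * a) * c.X23 1 * (b * a)⁻¹ := by
        have h4 := c.conj_a_23 ha.π 1
        have h5 := c.conj_b_13 hb.π 1
        rw [← h5, ← h4]; group
      have h6 : (b * a * c.X12 1 : P) = (b * a) * (b * a * c.X23 1) * (b * a)⁻¹ := by rw [h3]; group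
      rw [h6]
      exact tr_conj _ _
    have e2 : tr ((b * a * c.X23 1 : P) : GL (Fin 10) F) = tr ((c.X23 1 * (b * a) : P) : GL (Fin 10) F) :=
      tr_mul_comm ((b * a : P) : GL (Fin 10) F) ((c.X23 1 : P) : GL (Fin 10) F)
    have e3 : (c.X23 1 * (b * a) : P) = (a * b * c.X23 1)⁻¹ := by
      rw [mul_inv_rev, mul_inv_rev, c.f23.inv, inv_eq_of_mul_eq_one_right (Conf.sq_a ha.π),
        inv_eq_of_mul_eq_one_right (Conf.sq_b hb.π)]
    rw [e1, e2, e3]
    exact (hsd _ (a * b * c.X23 1).2).symm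
  have h7c : CharP F 7 := by
    obtain ⟨p, hp⟩ := CharP.exists F
    have h3 : p ∣ 7 := (CharP.cast_eq_zero_iff F p 7).1 (by exact_mod_cast h7)
    rcases (Nat.dvd_prime (by norm_num)).1 h3 with h4 | h4
    · subst h4
      exact absurd (CharP.cast_eq_zero_iff F 1 1 |>.2 (dvd_refl 1)) (by norm_num)
    · rwa [← h4]
  have : Fact (Nat.Prime 7) := ⟨by norm_num⟩
  have hF : Fintype.card F = 7 := hC.card_eq 7 ((l34_ten 7 hC (by norm_num) hK hn e).2.2 rfl).2
  subst hCC
  exact kill7 D ha hb hac hbc hv h0 hzC Q hQ hnd hH hR hF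

/-- **The row `PSL_3(4)` of `S5848` and `S5851`.** -/
theorem o10_l34 {p : ℕ} {Q : (Fin 10 → F) → F} {H P : Subgroup (GL (Fin 10) F)} (h : H933.O10.Cx p Q H P)
    (h2 : (2 : F) ≠ 0) (hK : Fintype.card K = 4) (e : Soc P ≃* Matrix.ProjectiveSpecialLinearGroup (Fin 3) K) : False :=
  kill_omega h.hQ h.hH h.hc hK e h2

end Cfsg.Agent.H869.L34
end

-- part: H964/AltMod/TenRow
section
/-!
# Alternating groups in `Ω₁₀^±(q)` (helper964)

`o10_alt` : `H` maximal in `omegaGL Q`, `dim = 10`, with residual core `P ≃ A_m`, `m ≥ 8`: then `m = 11`,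
`p ≠ 2, 3, 11`, `|F| = p`, or `m = 12`, `p = 2, 3`, `|F| = p`.
-/

set_option autoImplicit false
set_option linter.unusedSectionVars false

namespace Cfsg.Agent.H964.AltMod

open Equiv Equiv.Perm Cfsg Cfsg.Geo Matrix
open Cfsg.Agent.H614.AMod Cfsg.Agent.H882.Del Cfsg.Agent.H915.LD Cfsg.Agent.H933.O10

universe u

variable {F : Type u} [Field F] {p : ℕ} {Q : (Fin 10 → F) → F} {H P : Subgroup (GL (Fin 10) F)} {m : ℕ}

section

variable [Finite F]

/-- **The kill of `A₁₁` in characteristic 2 and 3.** -/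
theorem eleven_char (h : Cx p Q H P) (φ : P ≃* alternatingGroup (Fin 11)) {w : Fin 11 → Fin 11 → (Fin 10 → F)}
    (N : NatM (rep φ) w) (hm : (11 : F) ≠ 0) : (2 : F) ≠ 0 ∧ (3 : F) ≠ 0 := by
  have h8 : 8 ≤ Fintype.card (Fin 11) := by rw [Fintype.card_fin]; norm_num
  have S : Sys F (NatM.vec w) := N.sys_of_ne h8 (by rw [Fintype.card_fin]; exact_mod_cast hm)
  have hact : ∀ (g : P) (i : Fin 11), ((g : GL (Fin 10) F) : Matrix (Fin 10) (Fin 10) F) *ᵥ NatM.vec w i =
      NatM.vec w (((φ g : alternatingGroup (Fin 11)) : Perm (Fin 11)) i) := by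
    intro g i
    rw [← rep_apply' φ g, N.act_vec]
  have htrans : ∀ i j : Fin 11, ∃ g : alternatingGroup (Fin 11), (g : Perm (Fin 11)) i = j := by
    intro i j
    obtain ⟨k, hk⟩ := exists_notMem (α := Fin 11) (l := [i]) (by simp)
    obtain ⟨l, hl⟩ := exists_notMem (α := Fin 11) (l := [j]) (by simp)
    simp only [List.mem_cons, List.not_mem_nil, or_false] at hk hl
    obtain ⟨g, hg, -⟩ := exists_g h8 (Ne.symm hk) (Ne.symm hl)
    exact ⟨g, hg⟩
  -- the point stabiliser
  let K : Subgroup P := (MulAction.stabilizer (alternatingGroup (Fin 11)) (0 : Fin 11)).comap φ.toMonoidHom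
  have hKmem : ∀ g : P, g ∈ K ↔ ((φ g : alternatingGroup (Fin 11)) : Perm (Fin 11)) 0 = 0 := fun g => Iff.rfl
  have hK : K.index = 11 := by
    rw [Subgroup.index_comap_of_surjective _ φ.surjective]
    have hp : MulAction.IsPretransitive (alternatingGroup (Fin 11)) (Fin 11) := ⟨fun x y => htrans x y⟩
    rw [MulAction.index_stabilizer_of_transitive, Nat.card_eq_fintype_card, Fintype.card_fin]
  have hdc : ∀ g ∉ K, ∀ g' ∉ K, ∃ k ∈ K, ∃ k' ∈ K, g' = k * g * k' := by
    intro g hg g' hg'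
    rw [hKmem] at hg hg'
    obtain ⟨a, ha0, ha⟩ := exists_g h8 (Ne.symm hg) (Ne.symm hg')
    obtain ⟨k, rfl⟩ := φ.surjective a
    refine ⟨k, (hKmem k).2 ha0, (k * g)⁻¹ * g', ?_, by group⟩
    rw [hKmem, map_mul, map_inv, map_mul]
    change ((φ k : Perm (Fin 11)) * (φ g : Perm (Fin 11)))⁻¹ ((φ g' : Perm (Fin 11)) 0) = 0
    rw [Perm.inv_eq_iff_eq, Perm.mul_apply, ha]
  have hl : ∀ x ∈ H, ∃ g ∈ P, ∃ c : F, (x : Matrix (Fin 10) (Fin 10) F) *ᵥ NatM.vec w 0 =
      c • ((g : Matrix (Fin 10) (Fin 10) F) *ᵥ NatM.vec w 0) := by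
    intro x hx
    have hN' : Cfsg.Agent.H114.AltNat.NatM (Cfsg.Agent.H114.AltNat.rep (Cfsg.Agent.H114.AltNat.th φ.symm)) w :=
      ⟨N.anti, N.tri, fun g i j => N.act g i j, N.span, N.ne⟩
    have hspan : Submodule.span F (Set.range fun g => (Cfsg.Agent.H114.AltNat.th φ.symm g : Matrix (Fin 10) (Fin 10) F)) = ⊤ :=
      span_of_core h.core (ρ := Cfsg.Agent.H114.AltNat.th φ.symm) (by
        unfold Cfsg.Agent.H114.AltNat.th
        rw [MonoidHom.range_comp, MulEquiv.toMonoidHom_eq_coe, MonoidHom.range_eq_top.2 φ.symm.surjective,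
          ← MonoidHom.range_eq_map, Subgroup.range_subtype])
    obtain ⟨σ, c, hσ⟩ := Cfsg.Agent.H114.AltNat.lines (m := 11) (by norm_num) (by norm_num) φ.symm hspan hN' S
      (h := x) (fun y hy => h.hc.normal x hx y hy)
    obtain ⟨a, ha⟩ := htrans 0 (σ 0)
    obtain ⟨g, rfl⟩ := φ.surjective a
    refine ⟨g, g.2, c, ?_⟩
    rw [hact, ha]
    exact hσ 0
  obtain ⟨-, -, h2, h3⟩ := h.eleven hK (v0 := NatM.vec w 0) (S.ne_zero 0) (fun k hk => by
    rw [hact, (hKmem k).1 hk]) hdc hl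
  exact ⟨h2, h3⟩

variable [Fintype F]

/-- **Alternating groups, the natural modules.** -/
theorem o10_nat (h : Cx p Q H P) (h8 : 8 ≤ m) (φ : P ≃* alternatingGroup (Fin m)) (hD : Indep (rep φ)) :
    (m = 11 ∧ p ≠ 2 ∧ p ≠ 3 ∧ p ≠ 11 ∧ Fintype.card F = p) ∨ (m = 12 ∧ (p = 2 ∨ p = 3) ∧ Fintype.card F = p) := by
  have hch := h.char
  have hp : Fact p.Prime := ⟨h.prime⟩
  have h8' : 8 ≤ Fintype.card (Fin m) := by rwa [Fintype.card_fin]
  obtain ⟨w, N⟩ := exists_natM φ h.core h8' hD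
  have hF : Fintype.card F = p := card_eq h.core h8' N p
  have hnat : ∀ k : ℕ, k ≠ 0 → (k : F) ≠ 0 → p ≠ k := by
    intro k _ hk e
    apply hk
    rw [← e]
    exact CharP.cast_eq_zero F p
  rcases dim_cases h.core h8' N with ⟨h0, h1⟩ | ⟨h0, h1⟩
  · rw [Fintype.card_fin, Fintype.card_fin] at h1
    rw [Fintype.card_fin] at h0
    subst h1
    obtain ⟨h2, h3⟩ := eleven_char h φ N (by exact_mod_cast h0)
    exact Or.inl ⟨rfl, hnat 2 (by norm_num) (by exact_mod_cast h2), hnat 3 (by norm_num) (by exact_mod_cast h3),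
      hnat 11 (by norm_num) h0, hF⟩
  · rw [Fintype.card_fin, Fintype.card_fin] at h1
    rw [Fintype.card_fin] at h0
    subst h1
    refine Or.inr ⟨rfl, ?_, hF⟩
    have h2 : p ∣ 12 := (CharP.cast_eq_zero_iff F p 12).1 h0
    have h3 : p ∣ 2 * (2 * 3) := h2
    rcases (h.prime.dvd_mul).1 h3 with h4 | h4
    · exact Or.inl ((Nat.prime_dvd_prime_iff_eq h.prime Nat.prime_two).1 h4)
    · rcases (h.prime.dvd_mul).1 h4 with h5 | h5
      · exact Or.inl ((Nat.prime_dvd_prime_iff_eq h.prime Nat.prime_two).1 h5)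
      · exact Or.inr ((Nat.prime_dvd_prime_iff_eq h.prime Nat.prime_three).1 h5)

theorem indep_rep (h8 : 8 ≤ m) (φ : P ≃* alternatingGroup (Fin m)) (h : (2 : F) ≠ 0 ∨ 10 ≤ m) : Indep (rep φ) := by
  rcases h with h | h
  · exact indep_odd (by rwa [Fintype.card_fin]) h (by rw [Module.finrank_fintype_fun_eq_card, Fintype.card_fin]; norm_num)
  · by_cases h2 : (2 : F) = 0
    · refine indep_ten (by rwa [Fintype.card_fin]) ?_ (by rw [Module.finrank_fintype_fun_eq_card, Fintype.card_fin]; norm_num)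
      have : (5 : F) = 2 * 2 + 1 := by norm_num
      rw [this, h2, zero_mul, zero_add]
      exact one_ne_zero
    · exact indep_odd (by rwa [Fintype.card_fin]) h2 (by rw [Module.finrank_fintype_fun_eq_card, Fintype.card_fin]; norm_num)

/-- **Alternating groups of degree at least 8 in `Ω₁₀^±(q)`.** -/
theorem o10_alt (h : Cx p Q H P) (h8 : 8 ≤ m) (h82 : ¬ (p = 2 ∧ m = 8)) (e : Soc P ≃* alternatingGroup (Fin m)) :
    (m = 11 ∧ p ≠ 2 ∧ p ≠ 3 ∧ p ≠ 11 ∧ Fintype.card F = p) ∨ (m = 12 ∧ (p = 2 ∨ p = 3) ∧ Fintype.card F = p) := by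
  have hch := h.char
  have hp : Fact p.Prime := ⟨h.prime⟩
  have hZ : (scalars (Fin 10) F).subgroupOf P = ⊥ :=
    Cfsg.Agent.H825.Spin.scalars_eq_bot h.core p e h8 (by rw [Fintype.card_fin]; norm_num)
      (by rw [Fintype.card_fin]; norm_num)
  obtain ⟨φ⟩ := equivOfSoc hZ e
  by_cases h2 : (2 : F) ≠ 0 ∨ 10 ≤ m
  · exact o10_nat h h8 φ (indep_rep h8 φ h2)
  · push Not at h2
    obtain ⟨h2, h10⟩ := h2
    have hp2 : p = 2 := by
      have h3 : p ∣ 2 := (CharP.cast_eq_zero_iff F p 2).1 (by exact_mod_cast h2)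
      exact (Nat.prime_dvd_prime_iff_eq h.prime Nat.prime_two).1 h3
    have hm : 9 ≤ m := by
      by_contra hc
      exact h82 ⟨hp2, by omega⟩
    have h3 : ((3 : ℕ) : F) ≠ 0 := by
      have : ((3 : ℕ) : F) = 2 + 1 := by norm_num
      rw [this, h2, zero_add]
      exact one_ne_zero
    obtain ⟨a, v, hv⟩ := exists_move_rep φ h.core
    rcases nine (by rwa [Fintype.card_fin]) h3
      (by rw [Module.finrank_fintype_fun_eq_card, Fintype.card_fin]; norm_num) (irr_rep φ h.core) hv with h4 | ⟨h4, -⟩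
    · exact o10_nat h h8 φ h4
    · rw [Module.finrank_fintype_fun_eq_card, Fintype.card_fin] at h4
      omega

end

end Cfsg.Agent.H964.AltMod
end

-- part: H870/MEleven/Omega
section
/-!
# The Mathieu group of degree 11 is not maximal in `Ω₁₀(2^k)` (helper870, task 1700)

`V = F^10`, `|F| = 2`, `P` the group of degree 11: eleven vectors `v i` permuted by `P`; `v i + v j` is non-singular, the
products of two reflections in such vectors are in `Ω` and permute the `v i`: the stabiliser of the set of the `v i` in `Ω`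
is larger than `P`; it is not `Ω`.
-/

set_option autoImplicit false
set_option linter.unusedSectionVars false

namespace Cfsg.Agent.H870.MEleven

open Cfsg Cfsg.Geo Matrix Cfsg.Agent.SporadicB.AtlasPres.M11Rec
open QuadraticMap hiding proj
open Cfsg.Agent.LieClassical.OrthCore Cfsg.Agent.LieClassical.OrthTrans Cfsg.Agent.LieClassical.OrthFinite
open Cfsg.Agent.H915.LD
open Cfsg.Agent.SporadicA.SharpFour

universe u

variable {F : Type u} [Field F] [Fintype F] {ι : Type} [Fintype ι] [DecidableEq ι]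

/-- eleven vectors permuted by `K0`, fixed by no other vectors -/
structure Vecs (φ : K0 →* GL ι F) (v : Fin 11 → ι → F) : Prop where
  ne : ∀ i, v i ≠ 0
  map : ∀ g i, mat φ g *ᵥ v i = v (g • i)

theorem exists_vecs (hF : Fintype.card F = 2) (hι : Fintype.card ι = 10) (φ : K0 →* GL ι F) (h : φ gX ≠ 1) :
    ∃ v : Fin 11 → ι → F, Vecs φ v := by
  obtain ⟨v0, hv0, hk⟩ := exists_fix_point hF hι φ h 0
  have hx : ∀ b : Fin 11, (gX ^ ((11 - (b : ℕ)) : ℕ) : K0) • (0 : Fin 11) = b := by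
    have key : ∀ b : Fin 11, (pX ^ (11 - (b : ℕ))) 0 = b := by decide +kernel
    exact key
  refine ⟨fun i => mat φ (gX ^ ((11 - (i : ℕ)) : ℕ)) *ᵥ v0, fun i => ?_, fun g i => ?_⟩
  · intro h0
    apply hv0
    have h1 : mat φ (gX ^ ((11 - (i : ℕ)) : ℕ))⁻¹ *ᵥ (mat φ (gX ^ ((11 - (i : ℕ)) : ℕ)) *ᵥ v0) = v0 := by
      rw [mulVec_mulVec, ← map_mul, inv_mul_cancel, map_one, one_mulVec]
    rw [← h1, h0, mulVec_zero]
  · set a := (gX ^ ((11 - (i : ℕ)) : ℕ) : K0) with ha
    set b := (gX ^ ((11 - ((g • i : Fin 11) : ℕ)) : ℕ) : K0) with hb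
    have h1 : mat φ (b⁻¹ * g * a) *ᵥ v0 = v0 := by
      apply hk
      rw [MulAction.mem_stabilizer_iff, mul_smul, mul_smul, hx, inv_smul_eq_iff, hx]
    have h3 : g * a = b * (b⁻¹ * g * a) := by group
    rw [mulVec_mulVec, ← map_mul, h3, map_mul, ← mulVec_mulVec, h1]

section geo

variable {Q : QuadraticForm F (ι → F)} {φ : K0 →* GL ι F} {v : Fin 11 → ι → F}

/-- the Gram matrix -/
theorem Vecs.gram (hF : Fintype.card F = 2) (hι : Fintype.card ι = 10) (hφ : φ gX ≠ 1) (hv : Vecs φ v) (hQ : Nondeg Q)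
    (hi : ∀ g x, Q (mat φ g *ᵥ x) = Q x) : (∀ i j, i ≠ j → polar Q (v i) (v j) = 1) ∧ (∀ i, polar Q (v i) (v i) = 0) ∧
      ∀ i j, Q (v i) = Q (v j) := by
  have hpol : ∀ g x y, polar Q (mat φ g *ᵥ x) (mat φ g *ᵥ y) = polar Q x y := by
    intro g x y
    simp only [polar, ← mulVec_add, hi]
  have h0 : ∀ i, polar Q (v i) (v i) = 0 := by
    intro i
    rw [polar_self', two_eq_zero hF, zero_mul]
  have hoth : ∀ s : Finset (Fin 11), s.card ≤ 3 → ∃ c, c ∉ s := by
    intro s hs
    by_contra hcon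
    push Not at hcon
    have h5 := Finset.card_le_card (fun y _ => hcon y : (Finset.univ : Finset (Fin 11)) ⊆ s)
    rw [Finset.card_univ, Fintype.card_fin] at h5
    omega
  have hmap : ∀ i j i' j' : Fin 11, i ≠ j → i' ≠ j' → ∃ g : K0, g • i = i' ∧ g • j = j' := by
    intro i j i' j' hij hij'
    obtain ⟨c, hc⟩ := hoth {i, j} (Finset.card_le_two.trans (by norm_num))
    obtain ⟨d, hd⟩ := hoth {i, j, c} Finset.card_le_three
    obtain ⟨c', hc'⟩ := hoth {i', j'} (Finset.card_le_two.trans (by norm_num))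
    obtain ⟨d', hd'⟩ := hoth {i', j', c'} Finset.card_le_three
    simp only [Finset.mem_insert, Finset.mem_singleton, not_or] at hc hd hc' hd'
    obtain ⟨g, h1, h2, -⟩ := sharp4.exists_map i j c d i' j' c' d'
      (nodup4_iff.2 ⟨hij, Ne.symm hc.1, Ne.symm hd.1, Ne.symm hc.2, Ne.symm hd.2.1, Ne.symm hd.2.2⟩)
      (nodup4_iff.2 ⟨hij', Ne.symm hc'.1, Ne.symm hd'.1, Ne.symm hc'.2, Ne.symm hd'.2.1, Ne.symm hd'.2.2⟩)
    exact ⟨g, h1, h2⟩
  refine ⟨?_, h0, ?_⟩
  · have hconst : ∀ i j, i ≠ j → polar Q (v i) (v j) = polar Q (v 0) (v 1) := by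
      intro i j hij
      obtain ⟨g, h1, h2⟩ := hmap 0 1 i j (by decide) hij
      rw [← h1, ← h2, ← hv.map, ← hv.map, hpol]
    have hne : polar Q (v 0) (v 1) ≠ 0 := by
      intro hz
      apply hv.ne 0
      apply hQ
      intro y
      have hspan : Submodule.span F (Set.range v) = ⊤ := by
        rcases inv_cases hF hι (mat_pow hF hι φ hφ) (mat_ne φ hφ) (U := Submodule.span F (Set.range v)) (by
          intro u hu
          induction hu using Submodule.span_induction with
          | mem x hx =>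
            obtain ⟨i, rfl⟩ := hx
            rw [hv.map]
            exact Submodule.subset_span ⟨_, rfl⟩
          | zero => rw [mulVec_zero]; exact Submodule.zero_mem _
          | add x y _ _ hx hy => rw [mulVec_add]; exact Submodule.add_mem _ hx hy
          | smul c x _ hx => rw [mulVec_smul]; exact Submodule.smul_mem _ _ hx) with h | h
        · exfalso
          apply hv.ne 0
          have h1 : v 0 ∈ Submodule.span F (Set.range v) := Submodule.subset_span ⟨0, rfl⟩
          rwa [h, Submodule.mem_bot] at h1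
        · exact h
      have hy : y ∈ Submodule.span F (Set.range v) := by rw [hspan]; trivial
      induction hy using Submodule.span_induction with
      | mem x hx =>
        obtain ⟨i, rfl⟩ := hx
        by_cases h : 0 = i
        · rw [← h]; exact h0 0
        · rw [hconst 0 i h, hz]
      | zero => exact QuadraticMap.polar_zero_right Q _
      | add x y _ _ hx hy => rw [QuadraticMap.polar_add_right, hx, hy, add_zero]
      | smul c x _ hx => rw [QuadraticMap.polar_smul_right, hx, smul_zero]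
    intro i j hij
    rw [hconst i j hij]
    exact (zero_or_one hF _).resolve_left hne
  · intro i j
    by_cases h : i = j
    · rw [h]
    · obtain ⟨g, h1, -⟩ := hmap i j j i h (Ne.symm h)
      rw [← h1, ← hv.map, hi]

end geo

theorem not_maximal (hF : Fintype.card F = 2) (hι : Fintype.card ι = 10) {φ : K0 →* GL ι F} (hφ : φ gX ≠ 1)
    {Q : QuadraticForm F (ι → F)} (hQ : Nondeg Q) : ¬ IsMaximalIn (omegaGL (Q : (ι → F) → F)) φ.range := by
  intro hmax
  have hG : Good Q := Cfsg.Agent.H883.Bridge.good_of_card hQ (by rw [hι]; norm_num)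
  obtain ⟨v, hv⟩ := exists_vecs hF hι φ hφ
  have hle : φ.range ≤ omegaGL (Q : (ι → F) → F) := hmax.1.le
  have hi : ∀ g x, Q (mat φ g *ᵥ x) = Q x := fun g x => H933.O10.fix_of_mem_omegaGL (hle ⟨g, rfl⟩) x
  obtain ⟨hp1, hp0, hq⟩ := hv.gram hF hι hφ hQ hi
  have hinj : ∀ i j, v i = v j → i = j := by
    intro i j h
    by_contra hij
    have h1 := hp1 i j hij
    rw [h, hp0] at h1
    exact zero_ne_one h1
  have h2 := two_eq_zero hF
  -- the stabiliser of the set
  let L : Subgroup (GL ι F) :=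
    { carrier := {g | g ∈ omegaGL (Q : (ι → F) → F) ∧ ∀ x, x ∈ Set.range v ↔ (g : Matrix ι ι F) *ᵥ x ∈ Set.range v}
      one_mem' := ⟨one_mem _, fun x => by rw [Units.val_one, one_mulVec]⟩
      mul_mem' := by
        rintro a b ⟨ha, ha'⟩ ⟨hb, hb'⟩
        refine ⟨mul_mem ha hb, fun x => ?_⟩
        rw [hb', ha', mulVec_mulVec, Units.val_mul]
      inv_mem' := by
        rintro a ⟨ha, ha'⟩
        refine ⟨inv_mem ha, fun x => ?_⟩
        rw [ha' (((a⁻¹ : GL ι F) : Matrix ι ι F) *ᵥ x), mulVec_mulVec, ← Units.val_mul, mul_inv_cancel, Units.val_one,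
          one_mulVec] }
  have hPL : φ.range ≤ L := by
    rintro _ ⟨g, rfl⟩
    refine ⟨hle ⟨g, rfl⟩, fun x => ?_⟩
    constructor
    · rintro ⟨i, rfl⟩
      exact ⟨g • i, (hv.map g i).symm⟩
    · rintro ⟨i, hx⟩
      refine ⟨g⁻¹ • i, ?_⟩
      rw [← hv.map, hx, ← mat_apply, mulVec_mulVec, ← map_mul, inv_mul_cancel, map_one, one_mulVec]
  have hLO : L ≤ omegaGL (Q : (ι → F) → F) := fun g hg => hg.1
  -- the reflections
  have hQr : ∀ i j, i ≠ j → Q (v i + v j) = 1 := by
    intro i j hij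
    rw [Q_add, hp1 i j hij, hq i j]
    linear_combination (Q (v j)) * h2
  have hQr0 : ∀ i j, i ≠ j → Q (v i + v j) ≠ 0 := fun i j hij => by rw [hQr i j hij]; exact one_ne_zero
  have hr : ∀ (i j k : Fin 11) (hij : i ≠ j), refl Q (v i + v j) (hQr0 i j hij) (v k) = v (Equiv.swap i j k) := by
    intro i j k hij
    rw [refl_apply, hQr i j hij, inv_one, one_mul, QuadraticMap.polar_add_left]
    have hneg : ∀ x : ι → F, x + x = 0 := fun x => by
      funext t
      exact add_self' hF _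
    by_cases hki : k = i
    · rw [hki, hp0, hp1 j i (Ne.symm hij), Equiv.swap_apply_left, zero_add, one_smul, sub_eq_iff_eq_add]
      rw [add_left_comm, hneg, add_zero]
    · by_cases hkj : k = j
      · rw [hkj, hp0, hp1 i j hij, Equiv.swap_apply_right, add_zero, one_smul, sub_eq_iff_eq_add]
        rw [← add_assoc, hneg, zero_add]
      · rw [hp1 i k (Ne.symm hki), hp1 j k (Ne.symm hkj), Equiv.swap_apply_of_ne_of_ne hki hkj]
        have : (1 : F) + 1 = 0 := by linear_combination h2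
        rw [this, zero_smul, sub_zero]
  let R : (ι → F) ≃ₗ[F] (ι → F) := refl Q (v 1 + v 2) (hQr0 1 2 (by decide)) * refl Q (v 0 + v 1) (hQr0 0 1 (by decide))
  have hRE : R ∈ E Q := hG.refl_mul_refl_mem _ _ (by rw [hQr 0 1 (by decide), hQr 1 2 (by decide)])
  have hRv : ∀ k, R (v k) = v (Equiv.swap 1 2 (Equiv.swap 0 1 k)) := by
    intro k
    change refl Q (v 1 + v 2) (hQr0 1 2 (by decide)) (refl Q (v 0 + v 1) (hQr0 0 1 (by decide)) (v k)) = _
    rw [hr 0 1 k (by decide), hr 1 2 _ (by decide)]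
  obtain ⟨r, hrR⟩ : ∃ r : GL ι F, glEquiv ι F r = R := (glEquiv ι F).surjective R
  have hap : ∀ x, (r : Matrix ι ι F) *ᵥ x = R x := fun x => by rw [← hrR]; exact (glEquiv_apply r x).symm
  have hrL : r ∈ L := by
    refine ⟨(Cfsg.Agent.H883.Bridge.mem_omegaGL_iff hG r).2 (by rw [hrR]; exact hRE), fun x => ?_⟩
    rw [hap]
    constructor
    · rintro ⟨i, rfl⟩
      exact ⟨_, (hRv i).symm⟩
    · rintro ⟨i, hx⟩
      refine ⟨Equiv.swap 0 1 (Equiv.swap 1 2 i), R.injective ?_⟩
      rw [← hx, hRv, Equiv.swap_apply_self, Equiv.swap_apply_self]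
  rcases hmax.2 L hPL hLO with h | h
  · -- `L = P`
    rw [h] at hrL
    obtain ⟨g, hg⟩ := hrL
    have hgi : ∀ k : Fin 11, g • k = Equiv.swap 1 2 (Equiv.swap 0 1 k) := by
      intro k
      apply hinj
      rw [← hv.map, mat_apply, hg, hap, hRv]
    have hg1 : g = 1 := sharp4.eq_one g 3 4 5 6 (by decide) (by rw [hgi]; decide) (by rw [hgi]; decide)
      (by rw [hgi]; decide) (by rw [hgi]; decide)
    have h3 := hgi 0
    rw [hg1, one_smul] at h3
    revert h3
    decide
  · -- `L = Ω`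
    have hw : ∀ j, polar Q (v 0 + v 1 + v 2 + v 3 + v 4) (v j) = if (j : ℕ) < 5 then 0 else 1 := by
      intro j
      simp only [QuadraticMap.polar_add_left]
      have hp : ∀ i, polar Q (v i) (v j) = if i = j then 0 else 1 := by
        intro i
        split_ifs with hij
        · rw [hij, hp0]
        · exact hp1 i j hij
      rw [hp, hp, hp, hp, hp]
      have key : ∀ j : Fin 11, (((if (0 : Fin 11) = j then 0 else 1) + (if (1 : Fin 11) = j then 0 else 1) +
          (if (2 : Fin 11) = j then 0 else 1) + (if (3 : Fin 11) = j then 0 else 1) +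
          (if (4 : Fin 11) = j then 0 else 1) : ℕ)) = (if (j : ℕ) < 5 then 4 else 5) := by decide
      have h5 := congrArg (fun n : ℕ => (n : F)) (key j)
      push_cast at h5
      rw [h5]
      split_ifs
      · linear_combination 2 * h2
      · linear_combination 2 * h2
    have hQw : Q (v 0 + v 1 + v 2 + v 3 + v 4) = Q (v 0) := by
      simp only [Q_add, QuadraticMap.polar_add_left]
      rw [hp1 0 1 (by decide), hp1 0 2 (by decide), hp1 1 2 (by decide), hp1 0 3 (by decide), hp1 1 3 (by decide),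
        hp1 2 3 (by decide), hp1 0 4 (by decide), hp1 1 4 (by decide), hp1 2 4 (by decide), hp1 3 4 (by decide),
        hq 1 0, hq 2 0, hq 3 0, hq 4 0]
      linear_combination (2 * Q (v 0) + 5) * h2
    have hw0 : v 0 + v 1 + v 2 + v 3 + v 4 ≠ 0 := by
      intro h0
      have h5 := hw 5
      rw [h0, QuadraticMap.polar_zero_left] at h5
      simp at h5
    obtain ⟨g, hgE, hg⟩ := hG.trans_norm (hv.ne 0) hw0 hQw.symm
    obtain ⟨r', hr'⟩ : ∃ r : GL ι F, glEquiv ι F r = g := (glEquiv ι F).surjective g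
    have hr'L : r' ∈ L := by
      rw [h]
      exact (Cfsg.Agent.H883.Bridge.mem_omegaGL_iff hG r').2 (by rw [hr']; exact hgE)
    obtain ⟨k, hk⟩ := (hr'L.2 (v 0)).1 ⟨0, rfl⟩
    have hk' : v k = v 0 + v 1 + v 2 + v 3 + v 4 := by
      rw [hk, ← hg, ← hr']
      exact (glEquiv_apply r' _).symm
    have h0 := hw 0
    have h1 := hw 1
    rw [← hk'] at h0 h1
    have e0 : k = 0 := by
      by_contra hne
      rw [hp1 k 0 hne] at h0
      simp at h0
    have e1 : k = 1 := by
      by_contra hne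
      rw [hp1 k 1 hne] at h1
      simp at h1
    rw [e0] at e1
    exact absurd e1 (by decide)

/-- **Task 1700**: the Mathieu group of degree 11 is not maximal in `Ω₁₀(2^k)`. -/
theorem o10_m11_two {Q : (Fin 10 → F) → F} {H P : Subgroup (GL (Fin 10) F)} (h : H933.O10.Cx 2 Q H P)
    (e : Spor.IsoM11 (Soc P)) : False := by
  have hchar : CharP F 2 := h.char
  have hC := h.core
  obtain ⟨e1, -⟩ := H6.M11.exists_letters hC e
  have hP : Spor.IsoM11 P := ⟨e1⟩
  have hF : Fintype.card F = 2 := card_field hC h.sd hP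
  have hι : Fintype.card (Fin 10) = 10 := Fintype.card_fin 10
  obtain ⟨e2⟩ := exists_equiv hP
  let φ : K0 →* GL (Fin 10) F := P.subtype.comp e2.symm.toMonoidHom
  have hφr : φ.range = P := by
    ext x
    constructor
    · rintro ⟨g, rfl⟩
      exact (e2.symm g).2
    · intro hx
      exact ⟨e2 ⟨x, hx⟩, congrArg Subtype.val (e2.symm_apply_apply ⟨x, hx⟩)⟩
  have hφ1 : φ gX ≠ 1 := by
    intro h0
    apply X_ne
    have h1 : e2.symm gX = 1 := Subtype.ext h0
    exact e2.symm.injective (h1.trans (map_one _).symm)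
  have hM11 := Cfsg.Agent.UGT.End.MEleven.isM11 hP
  have : Finite P := Nat.finite_of_card_ne_zero (by rw [hM11.2]; norm_num)
  -- `H = P`
  have hHP : H ≤ P := by
    intro x hx
    let α : P ≃* P :=
      { toFun := fun y => ⟨x * y * x⁻¹, h.hc.normal x hx y y.2⟩
        invFun := fun y => ⟨x⁻¹ * y * x, by
          have := h.hc.normal x⁻¹ (inv_mem hx) y y.2
          rwa [inv_inv] at this⟩
        left_inv := fun y => Subtype.ext (by
          show x⁻¹ * (x * y * x⁻¹) * x = y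
          group)
        right_inv := fun y => Subtype.ext (by
          show x * (x⁻¹ * y * x) * x⁻¹ = y
          group)
        map_mul' := fun y z => Subtype.ext (by
          show x * (y * z) * x⁻¹ = (x * y * x⁻¹) * (x * z * x⁻¹)
          group) }
    obtain ⟨k, hk⟩ := Cfsg.Agent.SectRankFour.AutM11.exists_conj hM11 α
    have hcomm : ∀ y : P, ((k : GL (Fin 10) F)⁻¹ * x) * y = y * ((k : GL (Fin 10) F)⁻¹ * x) := by
      intro y
      have h1 := congrArg (fun β : P ≃* P => ((β y : P) : GL (Fin 10) F)) hk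
      have h2 : x * y * x⁻¹ = k * y * (k : GL (Fin 10) F)⁻¹ := h1
      calc ((k : GL (Fin 10) F)⁻¹ * x) * y = (k : GL (Fin 10) F)⁻¹ * (x * y * x⁻¹) * x := by group
        _ = (k : GL (Fin 10) F)⁻¹ * (k * y * (k : GL (Fin 10) F)⁻¹) * x := by rw [h2]
        _ = y * ((k : GL (Fin 10) F)⁻¹ * x) := by group
    obtain ⟨c, hc⟩ := hC.absIrred.2 (((k : GL (Fin 10) F)⁻¹ * x : GL (Fin 10) F) : Matrix (Fin 10) (Fin 10) F) (by
      rintro _ ⟨y, hy, rfl⟩
      have h1 := hcomm ⟨y, hy⟩
      have h2 := congrArg (fun z : GL (Fin 10) F => (z : Matrix (Fin 10) (Fin 10) F)) h1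
      simpa only [_root_.Units.val_mul, _root_.Matrix.coe_units_inv] using h2)
    rcases zero_or_one hF c with h0 | h0
    · exfalso
      rw [h0, zero_smul] at hc
      exact ((k : GL (Fin 10) F)⁻¹ * x).ne_zero hc
    · rw [h0, one_smul] at hc
      have h1 : (k : GL (Fin 10) F)⁻¹ * x = 1 := Units.ext hc
      have h2 : x = k := (inv_mul_eq_one.1 h1).symm
      rw [h2]
      exact k.2
  have hHP' : H = P := le_antisymm hHP h.hc.le
  obtain ⟨R, hR, hRn⟩ := Cfsg.Agent.H883.Bridge.exists_quadraticForm h.hQ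
  have hmax : IsMaximalIn (omegaGL (R : (Fin 10 → F) → F)) φ.range := by
    rw [hR, hφr, ← hHP']
    exact h.hH
  exact not_maximal hF hι hφ1 hRn hmax

end Cfsg.Agent.H870.MEleven
end

-- part: H933/O10/Cross
section
/-!
# S5848 and S5851: cross characteristic (helper933)
-/

set_option autoImplicit false
set_option linter.unusedSectionVars false

namespace Cfsg.Agent.H933.O10

open Cfsg Cfsg.Geo Matrix Cfsg.Agent.H915.LD Cfsg.Agent.H912.Bd Cfsg.Agent.H912.Five
open Cfsg.Agent.H936.List12 (AltC LieC MultC ExcC Cand MultD SporC SporP CandD)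

universe u v

variable {F : Type u} [Field F] [Fintype F] {p : ℕ} {Q : (Fin 10 → F) → F} {H P : Subgroup (GL (Fin 10) F)}

theorem row_u33' (h : Cx p Q H P) (hp3 : p ≠ 3) (hT : IsU 3 3 (Soc P)) : False := by
  refine row_u33 h hT fun hp2 => ?_
  obtain ⟨K, i1, i2, hK, ⟨e⟩⟩ := hT
  have := Fact.mk h.prime
  have := h.char
  have h1 := (H659.U3.u33_stage h.core p hp2 hp3 (by rw [Fintype.card_fin]; norm_num) (k := K) (by rw [hK]; norm_num) e).2
  rw [Fintype.card_fin] at h1
  omega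

theorem row_u42 (h : Cx p Q H P) (hp2 : p ≠ 2) (hp3 : p ≠ 3) (hT : IsU 4 2 (Soc P)) : False := by
  obtain ⟨K, i1, i2, hK, ⟨e⟩⟩ := hT
  have := Fact.mk h.prime
  have := h.char
  have h1 := H659.Sp4.sd_six' h.core p hp2 hp3 (by rw [Fintype.card_fin]; norm_num) (k := K) (by rw [hK]; norm_num) e h.sd
  rw [Fintype.card_fin] at h1
  omega

theorem row_u52 (h : Cx p Q H P) (hp2 : p ≠ 2) (hT : IsU 5 2 (Soc P)) : False := by
  obtain ⟨K, i1, i2, hK, ⟨e⟩⟩ := hT
  have := Fact.mk h.prime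
  have := h.char
  exact H925.U52.not_fixQ h.core p hp2 (by norm_num) (F₄ := K) (by rw [hK]; norm_num) e h.fixQ

theorem row_l33 (h : Cx p Q H P) (hp3 : p ≠ 3) (hT : IsL 3 3 (Soc P)) : False := by
  obtain ⟨K, i1, i2, hK, ⟨e⟩⟩ := hT
  have := Fact.mk h.prime
  have := h.char
  have h1 := (H175.L33.l33 h.core p hp3 hK e (by rw [Fintype.card_fin]; norm_num)).2.2.2
  rw [Fintype.card_fin] at h1
  omega

theorem row_l34 (h : Cx p Q H P) (hp2 : p ≠ 2) (hT : IsL 3 4 (Soc P)) : False := by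
  obtain ⟨K, i1, i2, hK, ⟨e⟩⟩ := hT
  exact H869.L34.o10_l34 h (h.two_ne hp2) hK e

theorem row_sz (h : Cx p Q H P) (hp2 : p ≠ 2) (hT : IsSz8 (Soc P)) : False := by
  have h1 := (H814.Sz8.core_sz8 h.core (h.two_ne hp2) (by rw [Fintype.card_fin]; norm_num) hT).1
  rw [Fintype.card_fin] at h1
  omega

theorem row_alt (h : Cx p Q H P) (m : ℕ) (h8 : 8 ≤ m) (h82 : ¬ (m = 8 ∧ p = 2))
    (e : Nonempty (Soc P ≃* alternatingGroup (Fin m))) :
    (m = 11 ∧ p ≠ 2 ∧ p ≠ 3 ∧ p ≠ 11 ∧ Fintype.card F = p) ∨ (m = 12 ∧ (p = 2 ∨ p = 3) ∧ Fintype.card F = p) := by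
  obtain ⟨e⟩ := e
  exact H964.AltMod.o10_alt h h8 (fun h => h82 ⟨h.2, h.1⟩) e

/-- **Cross characteristic.** -/
theorem cross1 (h : Cx p Q H P) (hc : CandD p 10 (Soc P)) (hL : ¬ IsLieTypeChar p (Soc P))
    (rm11 : p ≠ 2 → Spor.IsoM11 (Soc P) → False) (rm12 : Spor.IsoM12 (Soc P) → False)
    (rm22 : Spor.IsoM22 (Soc P) → p = 7 ∧ Fintype.card F = 7)
    (rj2 : Spor.IsoJ2 (Soc P) → False) (rsuz : Spor.IsoSuz (Soc P) → False)
    (rg24 : p ≠ 2 → H912.Bd.IsG2 4 (Soc P) → False)
    (rl : Nonempty (Soc P ≃* ProjectiveSpecialLinearGroup (Fin 2) (ZMod 11)) →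
      Fintype.card F ≠ 2 ∧ Fintype.card F ≠ 3 ∧ Fintype.card F ≠ 7) : Concl Q P := by
  have hpf := Fact.mk h.prime
  have hch := h.char
  have h12 : Fintype.card (Fin 10) ≤ 12 := by rw [Fintype.card_fin]; norm_num
  have key : Cand p 10 (Soc P) → Concl Q P := fun hc' =>
    cross h hc' hL (row_a5 h) (fun he => he.elim fun e => H937.T2.o10_a6 h e)
      (fun he => he.elim fun e => H908.Ten.o10_a7 h e) (fun m h8 _ h82 e => row_alt h m h8 h82 e) rl
      (row_l33 h) (row_u33' h) (row_u42 h) (row_u52 h) (row_s62 h) (row_o82 h) (row_l34 h) (row_u62 h) rg24 (row_g23 h)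
      (row_sz h)
  rcases hc with hc | hc | hc | ⟨hp2, -, hT⟩ | hc
  · exact key (Or.inl hc)
  · exact key (Or.inr (Or.inl hc))
  · refine key (Or.inr (Or.inr (Or.inl ?_)))
    rcases hc with ⟨h1, h2, h3 | h3 | h3 | h3 | h3 | h3⟩ | ⟨-, h2, -⟩
    · exact Or.inl ⟨h1, h2, Or.inl h3⟩
    · exact Or.inl ⟨h1, h2, Or.inr (Or.inl h3)⟩
    · exact Or.inl ⟨h1, h2, Or.inr (Or.inr (Or.inl h3))⟩
    · exact Or.inl ⟨h1, h2, Or.inr (Or.inr (Or.inr (Or.inr (Or.inl h3))))⟩
    · exact Or.inl ⟨h1, h2, Or.inr (Or.inr (Or.inr (Or.inr (Or.inr (Or.inl h3)))))⟩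
    · exact Or.inl ⟨h1, h2, Or.inr (Or.inr (Or.inr (Or.inr (Or.inr (Or.inr h3)))))⟩
    · omega
  · exact (row_sz h hp2 hT).elim
  · rcases hc with hT | hT | hT | hT | hT | hT | hT | hT | hT
    · by_cases hp2 : p = 2
      · subst hp2
        exact (H870.MEleven.o10_m11_two h hT).elim
      · exact (rm11 hp2 hT).elim
    · exact (rm12 hT).elim
    · obtain ⟨rfl, hF⟩ := rm22 hT
      exact concl_m22 h hF hT
    · obtain ⟨e⟩ := hT
      have h1 := (H4.LDM.Stage.m23_low h.core e p h12).2.1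
      rw [Fintype.card_fin] at h1
      omega
    · obtain ⟨e⟩ := hT
      have h1 := (H4.LDM.Stage.m24_low h.core e p h12).2.1
      rw [Fintype.card_fin] at h1
      omega
    · exact (JOneTen.j1_false' h.core hT (by rw [Fintype.card_fin]; norm_num) (by rw [Fintype.card_fin]; norm_num)).elim
    · exact (rj2 hT).elim
    · have h1 := (H95.JT.j3 p h.core hT h12).2.1
      rw [Fintype.card_fin] at h1
      omega
    · exact (rsuz hT).elim

end Cfsg.Agent.H933.O10
end

private theorem dce_acdc0ee2c3b8 : _root_.True := by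
  try have : _root_.True := by simp only [_root_.Cfsg.Agent.H937.T2.pw.eq_1]
  try have : _root_.True := by simp only [_root_.Cfsg.Agent.H869.L34.nvec.eq_1]
  try have : _root_.True := by simp only [_root_.Cfsg.Agent.H869.L34.pm.eq_1]
  try have : _root_.True := by simp only [_root_.Cfsg.Agent.H869.L34.pvec.eq_1]
  try have : _root_.True := by simp only [_root_.Cfsg.Agent.H911.OddForm.gram.congr_simp]
  exact _root_.True.intro
end

-- part: H933/O10/Final
section
prune_inst 0x800000000200000000000080210000500800000000000800000002000200004000000000000021020000000000040040000000800000000000000000000001000000000000000000800010000000000000000000000000000000000000000000000000000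
set_option linter.all false
open scoped Cfsg.Agent.FastGrp

-- part: H926/MElGrp
section
/-!
# Sharply 4-transitive groups of degree 11: local structure (helper926)

`K a b`, `Q a b c` : pointwise stabilisers of two, three points; orders 72, 8.
`exists_E` : the elements of `K a b` that fix no further point form, with `1`, an elementary abelian group `E` of order 9,
regular on the nine other points.
-/

set_option autoImplicit false

namespace Cfsg.Agent.H926.MEl

open Cfsg.Agent.SporadicA.SharpFour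

variable {G X : Type*} [Group G] [MulAction G X]

/-- the pointwise stabiliser of two points -/
def K (G : Type*) {X : Type*} [Group G] [MulAction G X] (a b : X) : Subgroup G :=
  MulAction.stabilizer G a ⊓ MulAction.stabilizer G b

/-- the pointwise stabiliser of three points -/
def Q (G : Type*) {X : Type*} [Group G] [MulAction G X] (a b c : X) : Subgroup G :=
  K G a b ⊓ MulAction.stabilizer G c

theorem mem_K {a b : X} {g : G} : g ∈ K G a b ↔ g • a = a ∧ g • b = b := by
  rw [K, Subgroup.mem_inf, MulAction.mem_stabilizer_iff, MulAction.mem_stabilizer_iff]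

theorem mem_Q {a b c : X} {g : G} : g ∈ Q G a b c ↔ g • a = a ∧ g • b = b ∧ g • c = c := by
  rw [Q, Subgroup.mem_inf, mem_K, MulAction.mem_stabilizer_iff, and_assoc]

variable [Fintype X] [DecidableEq X]

/-- the points different from `a`, `b` -/
def Y (a b : X) : Finset X := Finset.univ \ {a, b}

theorem mem_Y {a b y : X} : y ∈ Y a b ↔ y ≠ a ∧ y ≠ b := by
  simp only [Y, _root_.Cfsg.Agent.H926.MEl.Y, _root_.Finset.mem_sdiff, _root_.Finset.mem_univ, _root_.Finset.mem_insert, _root_.Finset.mem_singleton, _root_.not_or, _root_.true_and, _root_.ne_eq]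

theorem card_Y (h11 : Fintype.card X = 11) {a b : X} (hab : a ≠ b) : (Y a b).card = 9 := by
  rw [Y, Finset.card_sdiff_of_subset (Finset.subset_univ _), Finset.card_univ, h11, Finset.card_pair hab]

theorem exists_other (h11 : Fintype.card X = 11) (s : Finset X) (hs : s.card < 11) : ∃ x, x ∉ s := by
  by_contra h
  push Not at h
  have h1 : s = Finset.univ := Finset.eq_univ_iff_forall.2 h
  rw [h1, Finset.card_univ] at hs
  omega

variable (h4 : Sharp4 G X) (h11 : Fintype.card X = 11)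

include h4 h11

theorem card_Q {a b c : X} (hab : a ≠ b) (hac : a ≠ c) (hbc : b ≠ c) : Nat.card (Q G a b c) = 8 := by
  obtain ⟨d, hd⟩ := exists_other h11 {a, b, c} (lt_of_le_of_lt Finset.card_le_three (by norm_num))
  simp only [Finset.mem_insert, Finset.mem_singleton, not_or] at hd
  obtain ⟨hda, hdb, hdc⟩ := hd
  have hn : [a, b, c, d].Nodup := nodup4_iff.2 ⟨hab, hac, Ne.symm hda, hbc, Ne.symm hdb, Ne.symm hdc⟩
  have key : Nat.card (Q G a b c) = Nat.card (↥((Finset.univ \ {a, b, c} : Finset X))) := by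
    refine Nat.card_congr (Equiv.ofBijective (fun g => ⟨(g : G) • d, ?_⟩) ⟨?_, ?_⟩)
    · obtain ⟨g, hg⟩ := g
      obtain ⟨ha, hb, hc⟩ := mem_Q.1 hg
      simp only [Finset.mem_sdiff, Finset.mem_univ, Finset.mem_insert, Finset.mem_singleton, true_and, not_or]
      refine ⟨fun h => hda ?_, fun h => hdb ?_, fun h => hdc ?_⟩
      · exact MulAction.injective g (h.trans ha.symm)
      · exact MulAction.injective g (h.trans hb.symm)
      · exact MulAction.injective g (h.trans hc.symm)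
    · intro g g' h
      have h1 : (g : G) • d = (g' : G) • d := congrArg Subtype.val h
      obtain ⟨ha, hb, hc⟩ := mem_Q.1 g.2
      obtain ⟨ha', hb', hc'⟩ := mem_Q.1 g'.2
      exact Subtype.ext (h4.eq_of hn (ha.trans ha'.symm) (hb.trans hb'.symm) (hc.trans hc'.symm) h1)
    · rintro ⟨x, hx⟩
      simp only [Finset.mem_sdiff, Finset.mem_univ, Finset.mem_insert, Finset.mem_singleton, true_and, not_or] at hx
      obtain ⟨hxa, hxb, hxc⟩ := hx
      obtain ⟨g, ha, hb, hc, hd'⟩ := h4.exists_map a b c d a b c x hn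
        (nodup4_iff.2 ⟨hab, hac, Ne.symm hxa, hbc, Ne.symm hxb, Ne.symm hxc⟩)
      exact ⟨⟨g, mem_Q.2 ⟨ha, hb, hc⟩⟩, Subtype.ext hd'⟩
  rw [key, Nat.card_eq_fintype_card, Fintype.card_coe, Finset.card_sdiff_of_subset (Finset.subset_univ _),
    Finset.card_univ, h11, Finset.card_eq_three.2 ⟨a, b, c, hab, hac, hbc, rfl⟩]

theorem card_K {a b : X} (hab : a ≠ b) : Nat.card (K G a b) = 72 := by
  obtain ⟨c, hc⟩ := exists_other h11 {a, b} (lt_of_le_of_lt Finset.card_le_two (by norm_num))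
  simp only [Finset.mem_insert, Finset.mem_singleton, not_or] at hc
  obtain ⟨hca, hcb⟩ := hc
  obtain ⟨d, hd⟩ := exists_other h11 {a, b, c} (lt_of_le_of_lt Finset.card_le_three (by norm_num))
  simp only [Finset.mem_insert, Finset.mem_singleton, not_or] at hd
  obtain ⟨hda, hdb, hdc⟩ := hd
  have hn : [a, b, c, d].Nodup :=
    nodup4_iff.2 ⟨hab, Ne.symm hca, Ne.symm hda, Ne.symm hcb, Ne.symm hdb, Ne.symm hdc⟩
  have hne : ∀ g : G, g ∈ K G a b → ∀ x : X, x ≠ a → x ≠ b → g • x ≠ a ∧ g • x ≠ b := by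
    intro g hg x hxa hxb
    obtain ⟨ha, hb⟩ := mem_K.1 hg
    exact ⟨fun h => hxa (MulAction.injective g (h.trans ha.symm)),
      fun h => hxb (MulAction.injective g (h.trans hb.symm))⟩
  have key : Nat.card (K G a b) = Nat.card (↥((Y a b).offDiag)) := by
    refine Nat.card_congr (Equiv.ofBijective (fun g => ⟨((g : G) • c, (g : G) • d), ?_⟩) ⟨?_, ?_⟩)
    · obtain ⟨g, hg⟩ := g
      rw [Finset.mem_offDiag, mem_Y, mem_Y]
      exact ⟨hne g hg c hca hcb, hne g hg d hda hdb, fun h => hdc (MulAction.injective g h).symm⟩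
    · intro g g' h
      have h1 := congrArg Subtype.val h
      have h2 : (g : G) • c = (g' : G) • c := congrArg Prod.fst h1
      have h3 : (g : G) • d = (g' : G) • d := congrArg Prod.snd h1
      obtain ⟨ha, hb⟩ := mem_K.1 g.2
      obtain ⟨ha', hb'⟩ := mem_K.1 g'.2
      exact Subtype.ext (h4.eq_of hn (ha.trans ha'.symm) (hb.trans hb'.symm) h2 h3)
    · rintro ⟨⟨x, y⟩, hxy⟩
      rw [Finset.mem_offDiag, mem_Y, mem_Y] at hxy
      obtain ⟨⟨hxa, hxb⟩, ⟨hya, hyb⟩, hxy⟩ := hxy
      obtain ⟨g, ha, hb, hc, hd'⟩ := h4.exists_map a b c d a b x y hn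
        (nodup4_iff.2 ⟨hab, Ne.symm hxa, Ne.symm hya, Ne.symm hxb, Ne.symm hyb, hxy⟩)
      exact ⟨⟨g, mem_K.2 ⟨ha, hb⟩⟩, Subtype.ext (Prod.ext hc hd')⟩
  rw [key, Nat.card_eq_fintype_card, Fintype.card_coe, Finset.offDiag_card, card_Y h11 hab]

omit h11 [Fintype X] [DecidableEq X] in
/-- a nontrivial element of `K a b` fixes at most one further point -/
theorem fix_unique {a b : X} (hab : a ≠ b) {g : G} (hg : g ∈ K G a b) {x y : X} (hxa : x ≠ a) (hxb : x ≠ b)
    (hya : y ≠ a) (hyb : y ≠ b) (hx : g • x = x) (hy : g • y = y) (hxy : x ≠ y) : g = 1 := by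
  obtain ⟨ha, hb⟩ := mem_K.1 hg
  exact h4.eq_one g a b x y (nodup4_iff.2 ⟨hab, Ne.symm hxa, Ne.symm hya, Ne.symm hxb, Ne.symm hyb, hxy⟩) ha hb hx hy


/-- an element of order a power of 3 in `K a b` fixes no further point -/
theorem fpf_of_three {a b : X} (hab : a ≠ b) {g : G} (hg : g ∈ K G a b) {k : ℕ} (h3 : g ^ 3 ^ k = 1) (h1 : g ≠ 1)
    {y : X} (hya : y ≠ a) (hyb : y ≠ b) : g • y ≠ y := by
  intro hy
  apply h1
  obtain ⟨ha, hb⟩ := mem_K.1 hg
  set σ : Equiv.Perm X := MulAction.toPermHom G X g with hσ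
  have hσ3 : σ ^ 3 ^ k = 1 := by rw [hσ, ← map_pow, h3, map_one]
  have : Fact (Nat.Prime 3) := ⟨by norm_num⟩
  have hmod := Equiv.Perm.card_compl_support_modEq hσ3
  rw [h11] at hmod
  have hmem : ∀ x, x ∈ σ.supportᶜ ↔ g • x = x := by
    intro x
    rw [Finset.mem_compl, Equiv.Perm.mem_support, not_not]
    rfl
  have hsub : ({a, b, y} : Finset X) ⊆ σ.supportᶜ := by
    intro x hx
    simp only [Finset.mem_insert, Finset.mem_singleton] at hx
    rcases hx with rfl | rfl | rfl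
    · exact (hmem _).2 ha
    · exact (hmem _).2 hb
    · exact (hmem _).2 hy
  have hc3 : ({a, b, y} : Finset X).card = 3 :=
    Finset.card_eq_three.2 ⟨a, b, y, hab, Ne.symm hya, Ne.symm hyb, rfl⟩
  have hlt : 3 < σ.supportᶜ.card := by
    have h5 := Finset.card_le_card hsub
    rw [hc3] at h5
    unfold Nat.ModEq at hmod
    omega
  obtain ⟨x, hx, hx'⟩ := Finset.exists_mem_notMem_of_card_lt_card (show ({a, b, y} : Finset X).card < σ.supportᶜ.card by
    rw [hc3]; exact hlt)
  simp only [Finset.mem_insert, Finset.mem_singleton, not_or] at hx'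
  exact fix_unique h4 hab hg hya hyb hx'.1 hx'.2.1 hy ((hmem x).1 hx) (Ne.symm hx'.2.2)

/-- the group `E` -/
theorem exists_E [Finite G] {a b : X} (hab : a ≠ b) : ∃ E : Subgroup G, Nat.card E = 9 ∧ E ≤ K G a b ∧
    (∀ g, g ∈ E ↔ g ∈ K G a b ∧ (g = 1 ∨ ∀ y, y ≠ a → y ≠ b → g • y ≠ y)) := by
  classical
  have : Fact (Nat.Prime 3) := ⟨by norm_num⟩
  have := Fintype.ofFinite G
  obtain ⟨P⟩ : Nonempty (Sylow 3 (K G a b)) := inferInstance
  have hP : Nat.card P = 9 := by
    rw [P.card_eq_multiplicity, card_K h4 h11 hab, show Nat.factorization 72 3 = 2 by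
      rw [show (72 : ℕ) = 2 ^ 3 * 3 ^ 2 by norm_num, Nat.factorization_mul (by norm_num) (by norm_num),
        Nat.Prime.factorization_pow Nat.prime_two, Nat.Prime.factorization_pow Nat.prime_three]
      simp]
    norm_num
  set E : Subgroup G := (P : Subgroup (K G a b)).map (K G a b).subtype with hE
  have hEcard : Nat.card E = 9 := by
    rw [hE, Subgroup.card_map_of_injective (K G a b).subtype_injective]
    exact hP
  have hEK : E ≤ K G a b := Subgroup.map_subtype_le _
  have hE3 : ∀ g ∈ E, g ^ 3 ^ 2 = 1 := by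
    intro g hg
    have h1 := pow_card_eq_one' (x := (⟨g, hg⟩ : E))
    rw [hEcard] at h1
    exact congrArg Subtype.val h1
  have hfpf : ∀ g ∈ E, g = 1 ∨ ∀ y, y ≠ a → y ≠ b → g • y ≠ y := by
    intro g hg
    by_cases h1 : g = 1
    · exact Or.inl h1
    · exact Or.inr fun y hya hyb => fpf_of_three h4 h11 hab (hEK hg) (hE3 g hg) h1 hya hyb
  refine ⟨E, hEcard, hEK, fun g => ⟨fun hg => ⟨hEK hg, hfpf g hg⟩, ?_⟩⟩
  rintro ⟨hg, hg'⟩
  rcases hg' with rfl | hg'
  · exact one_mem _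
  -- counting
  let S : X → Finset G := fun y => (Finset.univ.filter fun g => g ∈ Q G a b y).erase 1
  have hS : ∀ y ∈ Y a b, (S y).card = 7 := by
    intro y hy
    rw [mem_Y] at hy
    have h1 : (Finset.univ.filter fun g => g ∈ Q G a b y).card = 8 := by
      rw [← card_Q h4 h11 hab (Ne.symm hy.1) (Ne.symm hy.2), Nat.card_eq_fintype_card, Fintype.card_subtype]
    rw [Finset.card_erase_of_mem, h1]
    simp [one_mem]
  have hdisj : ∀ x ∈ Y a b, ∀ y ∈ Y a b, x ≠ y → Disjoint (S x) (S y) := by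
    intro x hx y hy hxy
    rw [mem_Y] at hx hy
    rw [Finset.disjoint_left]
    intro g h1 h2
    rw [Finset.mem_erase, Finset.mem_filter, mem_Q] at h1 h2
    exact h1.1 (fix_unique h4 hab (mem_K.2 ⟨h1.2.2.1, h1.2.2.2.1⟩) hx.1 hx.2 hy.1 hy.2 h1.2.2.2.2 h2.2.2.2.2 hxy)
  have hcardU : ((Y a b).biUnion S).card = 63 := by
    rw [Finset.card_biUnion hdisj, Finset.sum_congr rfl hS, Finset.sum_const, card_Y h11 hab]
    rfl
  let EF : Finset G := Finset.univ.filter fun g => g ∈ E
  have hEF : EF.card = 9 := by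
    rw [← hEcard, Nat.card_eq_fintype_card, Fintype.card_subtype]
  let KF : Finset G := Finset.univ.filter fun g => g ∈ K G a b
  have hKF : KF.card = 72 := by
    rw [← card_K h4 h11 hab, Nat.card_eq_fintype_card, Fintype.card_subtype]
  have hd : Disjoint EF ((Y a b).biUnion S) := by
    rw [Finset.disjoint_left]
    intro x hx hx'
    rw [Finset.mem_biUnion] at hx'
    obtain ⟨y, hy, hxy⟩ := hx'
    rw [mem_Y] at hy
    rw [Finset.mem_erase, Finset.mem_filter, mem_Q] at hxy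
    rcases hfpf x (Finset.mem_filter.1 hx).2 with h | h
    · exact hxy.1 h
    · exact h y hy.1 hy.2 hxy.2.2.2.2
  have hsub : EF ∪ (Y a b).biUnion S ⊆ KF := by
    intro x hx
    rw [Finset.mem_union] at hx
    rw [Finset.mem_filter]
    refine ⟨Finset.mem_univ _, ?_⟩
    rcases hx with hx | hx
    · exact hEK (Finset.mem_filter.1 hx).2
    · rw [Finset.mem_biUnion] at hx
      obtain ⟨y, hy, hxy⟩ := hx
      rw [Finset.mem_erase, Finset.mem_filter, mem_Q] at hxy
      exact mem_K.2 ⟨hxy.2.2.1, hxy.2.2.2.1⟩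
  have heq : EF ∪ (Y a b).biUnion S = KF := by
    apply Finset.eq_of_subset_of_card_le hsub
    rw [Finset.card_union_of_disjoint hd, hEF, hcardU, hKF]
  have hgm : g ∈ EF ∪ (Y a b).biUnion S := by
    rw [heq, Finset.mem_filter]
    exact ⟨Finset.mem_univ _, hg⟩
  rw [Finset.mem_union] at hgm
  rcases hgm with h | h
  · exact (Finset.mem_filter.1 h).2
  · exfalso
    rw [Finset.mem_biUnion] at h
    obtain ⟨y, hy, hxy⟩ := h
    rw [mem_Y] at hy
    rw [Finset.mem_erase, Finset.mem_filter, mem_Q] at hxy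
    exact hg' y hy.1 hy.2 hxy.2.2.2.2

end Cfsg.Agent.H926.MEl
end

-- part: H926/MElLoc
section
/-!
# Sharply 4-transitive groups of degree 11: the local data (helper926)

`Loc G a b c E z` : all that is needed for the representation theory; `exists_loc`.
-/

set_option autoImplicit false

namespace Cfsg.Agent.H926.MEl

open Cfsg.Agent.SporadicA.SharpFour

/-- local data -/
structure Loc (G : Type*) {X : Type*} [Group G] [MulAction G X] (a b c : X) (E : Subgroup G) (z : G) : Prop where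
  cardE : Nat.card E = 9
  comm : ∀ e ∈ E, ∀ e' ∈ E, e * e' = e' * e
  EK : E ≤ K G a b
  norm : ∀ g : G, (g • a = a ∧ g • b = b) ∨ (g • a = b ∧ g • b = a) → ∀ e ∈ E, g * e * g⁻¹ ∈ E
  reg : ∀ y : X, y ≠ a → y ≠ b → ∃ e ∈ E, e • c = y
  inj : ∀ e ∈ E, e • c = c → e = 1
  cardQ : Nat.card (Q G a b c) = 8
  semi : ∀ q ∈ Q G a b c, ∀ e ∈ E, q * e = e * q → e ≠ 1 → q = 1
  zQ : z ∈ Q G a b c
  z1 : z ≠ 1
  zz : z * z = 1
  zu : ∀ q ∈ Q G a b c, q * q = 1 → q ≠ 1 → q = z
  four : ∀ q ∈ Q G a b c, q ≠ 1 → q ≠ z → q * q = z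
  conj : ∀ q ∈ Q G a b c, q ≠ 1 → q ≠ z → ∀ q' ∈ Q G a b c, q' ≠ 1 → q' ≠ z →
    ∃ g : G, g * q * g⁻¹ = q' ∨ g * q * g⁻¹ = q' * z
  swap : ∃ g : G, g • a = a ∧ g • b = c ∧ g • c = b ∧ g * g = 1
  tau : ∃ t : G, t • a = b ∧ t • b = a ∧ t * t = 1 ∧ (∀ q ∈ Q G a b c, t * q * t⁻¹ ∈ Q G a b c) ∧
    ∃ q ∈ Q G a b c, t * q ≠ q * t

section

variable {G : Type*} [Group G] [Finite G]

theorem conj_six {Q : Subgroup G} (hQ8 : Nat.card Q = 8) {y z : G} (hy3 : y ^ 3 = 1)
    (hyQ : ∀ q ∈ Q, y * q * y⁻¹ ∈ Q) (hyC : ∀ q ∈ Q, q * y = y * q → q = 1 ∨ q = z) (hzQ : z ∈ Q) (hz1 : z ≠ 1)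
    (hzz : z * z = 1) (hzy : z * y = y * z) (hzc : ∀ q ∈ Q, z * q = q * z) :
    ∀ q ∈ Q, q ≠ 1 → q ≠ z → ∀ q' ∈ Q, q' ≠ 1 → q' ≠ z → ∃ g : G, g * q * g⁻¹ = q' ∨ g * q * g⁻¹ = q' * z := by
  classical
  have := Fintype.ofFinite G
  intro q hq hq1 hqz q' hq' hq'1 hq'z
  obtain ⟨φ, hφ⟩ : ∃ φ : G ≃* G, ∀ x, φ x = y * x * y⁻¹ := ⟨MulAut.conj y, fun x => rfl⟩
  have hφ3 : ∀ x, φ (φ (φ x)) = x := by
    intro x
    rw [hφ, hφ, hφ]
    calc y * (y * (y * x * y⁻¹) * y⁻¹) * y⁻¹ = (y * y * y) * x * (y * y * y)⁻¹ := by group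
      _ = x := by
        rw [show y * y * y = y ^ 3 by rw [pow_succ, pow_two], hy3]; group
  have hφz : φ z = z := by rw [hφ, ← hzy, mul_inv_cancel_right]
  have hφQ : ∀ x ∈ Q, φ x ∈ Q := fun x hx => by rw [hφ]; exact hyQ x hx
  have hφ1 : ∀ x ∈ Q, φ x = x → x = 1 ∨ x = z := by
    intro x hx h
    apply hyC x hx
    rw [hφ] at h
    calc x * y = (y * x * y⁻¹) * y := by rw [h]
      _ = y * x := by group
  have hn : ∀ x ∈ Q, x ≠ 1 → x ≠ z → φ x ≠ x ∧ φ x ≠ x * z ∧ φ (φ x) ≠ x ∧ φ (φ x) ≠ x * z := by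
    intro x hx hx1 hxz
    have h1 : φ x ≠ x := fun h => (hφ1 x hx h).elim hx1 hxz
    refine ⟨h1, ?_, ?_, ?_⟩
    · intro h
      have h2 : φ (φ x) = x := by
        rw [h, map_mul, hφz, h, mul_assoc, hzz, mul_one]
      apply h1
      have h3 := hφ3 x
      rwa [h2] at h3
    · intro h
      apply h1
      have h3 := hφ3 x
      rwa [h] at h3
    · intro h
      apply h1
      have h2 : φ (φ (φ (φ x))) = x := by
        rw [h, map_mul, hφz, map_mul, hφz, h, mul_assoc, hzz, mul_one]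
      rwa [hφ3] at h2
  obtain ⟨n1, n2, n3, n4⟩ := hn q hq hq1 hqz
  have hne : ∀ x, x * z ≠ x := fun x h => hz1 (mul_eq_left.1 h)
  have hsym : ∀ x x', x = x' * z → x' = x * z := by
    intro x x' h
    rw [h, mul_assoc, hzz, mul_one]
  have e1 : φ (φ q) ≠ φ q := fun h => n1 (φ.injective h)
  have e2 : φ (φ q) ≠ φ q * z := by
    intro h
    apply n2
    apply φ.injective
    rw [map_mul, hφz]
    exact h
  have hnd : [q, φ q, φ (φ q), q * z, φ q * z, φ (φ q) * z].Nodup := by
    have a1 : q ≠ φ q := Ne.symm n1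
    have a2 : q ≠ φ (φ q) := Ne.symm n3
    have a3 : q ≠ q * z := Ne.symm (hne q)
    have a4 : q ≠ φ q * z := fun h => n2 (hsym _ _ h)
    have a5 : q ≠ φ (φ q) * z := fun h => n4 (hsym _ _ h)
    have b2 : φ q ≠ φ (φ q) := Ne.symm e1
    have b3 : φ q ≠ q * z := n2
    have b4 : φ q ≠ φ q * z := Ne.symm (hne _)
    have b5 : φ q ≠ φ (φ q) * z := fun h => e2 (hsym _ _ h)
    have c3 : φ (φ q) ≠ q * z := n4
    have c4 : φ (φ q) ≠ φ q * z := e2
    have c5 : φ (φ q) ≠ φ (φ q) * z := Ne.symm (hne _)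
    have d4 : q * z ≠ φ q * z := fun h => a1 (mul_right_cancel h)
    have d5 : q * z ≠ φ (φ q) * z := fun h => a2 (mul_right_cancel h)
    have f5 : φ q * z ≠ φ (φ q) * z := fun h => b2 (mul_right_cancel h)
    simp only [List.nodup_cons, List.mem_cons, List.not_mem_nil, or_false, not_or, not_false_eq_true,
      List.nodup_nil, and_true]
    exact ⟨⟨a1, a2, a3, a4, a5⟩, ⟨b2, b3, b4, b5⟩, ⟨c3, c4, c5⟩, ⟨d4, d5⟩, f5⟩
  let S : Finset G := ((Finset.univ.filter fun g => g ∈ Q).erase 1).erase z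
  have hS : S.card = 6 := by
    have h1 : (Finset.univ.filter fun g => g ∈ Q).card = 8 := by
      rw [← hQ8, Nat.card_eq_fintype_card, Fintype.card_subtype]
    rw [Finset.card_erase_of_mem, Finset.card_erase_of_mem, h1]
    · simp [one_mem]
    · simp [hzQ, hz1]
  have hmemS : ∀ x, x ∈ S ↔ x ≠ z ∧ x ≠ 1 ∧ x ∈ Q := by
    intro x
    rw [Finset.mem_erase, Finset.mem_erase, Finset.mem_filter]
    simp
  have hzS : ∀ x ∈ S, x * z ∈ S := by
    intro x hx
    rw [hmemS] at hx ⊢
    refine ⟨fun h => hx.2.1 (mul_eq_right.1 h), ?_, mul_mem hx.2.2 hzQ⟩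
    intro h
    apply hx.1
    rw [eq_inv_of_mul_eq_one_left h]
    exact inv_eq_of_mul_eq_one_right hzz
  have hφS : ∀ x ∈ S, φ x ∈ S := by
    intro x hx
    rw [hmemS] at hx ⊢
    refine ⟨?_, ?_, hφQ x hx.2.2⟩
    · intro h
      exact hx.1 (φ.injective (h.trans hφz.symm))
    · intro h
      exact hx.2.1 (φ.injective (h.trans (map_one φ).symm))
  have hqS : q ∈ S := (hmemS q).2 ⟨hqz, hq1, hq⟩
  have hT : [q, φ q, φ (φ q), q * z, φ q * z, φ (φ q) * z].toFinset = S := by
    apply Finset.eq_of_subset_of_card_le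
    · intro x hx
      simp only [List.mem_toFinset, List.mem_cons, List.not_mem_nil, or_false] at hx
      rcases hx with rfl | rfl | rfl | rfl | rfl | rfl
      · exact hqS
      · exact hφS _ hqS
      · exact hφS _ (hφS _ hqS)
      · exact hzS _ hqS
      · exact hzS _ (hφS _ hqS)
      · exact hzS _ (hφS _ (hφS _ hqS))
    · rw [hS, List.toFinset_card_of_nodup hnd]
      simp
  have hq'S : q' ∈ S := (hmemS q').2 ⟨hq'z, hq'1, hq'⟩
  rw [← hT] at hq'S
  simp only [List.mem_toFinset, List.mem_cons, List.not_mem_nil, or_false] at hq'S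
  have hφφ : ∀ x, φ (φ x) = (y * y) * x * (y * y)⁻¹ := by
    intro x
    rw [hφ, hφ]; group
  rcases hq'S with rfl | rfl | rfl | rfl | rfl | rfl
  · exact ⟨1, Or.inl (by group)⟩
  · exact ⟨y, Or.inl (hφ q).symm⟩
  · exact ⟨y * y, Or.inl (hφφ q).symm⟩
  · exact ⟨1, Or.inr (by rw [mul_assoc _ z z, hzz]; group)⟩
  · exact ⟨y, Or.inr (by rw [mul_assoc _ z z, hzz, mul_one]; exact (hφ q).symm)⟩
  · exact ⟨y * y, Or.inr (by rw [mul_assoc _ z z, hzz, mul_one]; exact (hφφ q).symm)⟩

end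

variable {G X : Type*} [Group G] [MulAction G X] [Fintype X] [DecidableEq X] [Finite G]

set_option maxHeartbeats 4000000 in
theorem exists_loc (h4 : Sharp4 G X) (h11 : Fintype.card X = 11) {a b c : X} (hab : a ≠ b) (hac : a ≠ c) (hbc : b ≠ c) :
    ∃ (E : Subgroup G) (z : G), Loc G a b c E z := by
  classical
  have f3 : Fact (Nat.Prime 3) := ⟨by norm_num⟩
  have f2 : Fact (Nat.Prime 2) := ⟨by norm_num⟩
  have := Fintype.ofFinite G
  obtain ⟨d, hd⟩ := exists_other h11 {a, b, c} (lt_of_le_of_lt Finset.card_le_three (by norm_num))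
  simp only [Finset.mem_insert, Finset.mem_singleton, not_or] at hd
  obtain ⟨hda, hdb, hdc⟩ := hd
  have hn : [a, b, c, d].Nodup := nodup4_iff.2 ⟨hab, hac, Ne.symm hda, hbc, Ne.symm hdb, Ne.symm hdc⟩
  obtain ⟨E, hE9, hEK, hE⟩ := exists_E h4 h11 hab
  have hQ8 := card_Q h4 h11 hab hac hbc
  have hcomm : ∀ e ∈ E, ∀ e' ∈ E, e * e' = e' * e := by
    intro e he e' he'
    have h1 := IsPGroup.isMulCommutative_of_card_eq_prime_sq (p := 3) (G := E) (by rw [hE9]; norm_num)
    have h2 := h1.is_comm.comm (⟨e, he⟩ : E) ⟨e', he'⟩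
    exact congrArg Subtype.val h2
  have hinj : ∀ e ∈ E, e • c = c → e = 1 := by
    intro e he hec
    rcases ((hE e).1 he).2 with h | h
    · exact h
    · exact absurd hec (h c (Ne.symm hac) (Ne.symm hbc))
  have hnorm : ∀ g : G, (g • a = a ∧ g • b = b) ∨ (g • a = b ∧ g • b = a) → ∀ e ∈ E, g * e * g⁻¹ ∈ E := by
    intro g hg e he
    have hab' : (g⁻¹ • a = a ∧ g⁻¹ • b = b) ∨ (g⁻¹ • a = b ∧ g⁻¹ • b = a) := by
      rcases hg with ⟨h1, h2⟩ | ⟨h1, h2⟩
      · exact Or.inl ⟨by rw [inv_smul_eq_iff, h1], by rw [inv_smul_eq_iff, h2]⟩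
      · exact Or.inr ⟨by rw [inv_smul_eq_iff, h2], by rw [inv_smul_eq_iff, h1]⟩
    obtain ⟨hea, heb⟩ := mem_K.1 (hEK he)
    rw [hE]
    constructor
    · rw [mem_K]
      rcases hg with ⟨h1, h2⟩ | ⟨h1, h2⟩ <;> rcases hab' with ⟨h3, h4'⟩ | ⟨h3, h4'⟩
      · rw [mul_smul, mul_smul, mul_smul, mul_smul, h3, h4', hea, heb]; exact ⟨h1, h2⟩
      · rw [inv_smul_eq_iff, h2] at h3; exact absurd h3 hab
      · rw [inv_smul_eq_iff, h1] at h3; exact absurd h3 hab
      · rw [mul_smul, mul_smul, mul_smul, mul_smul, h3, h4', hea, heb]; exact ⟨h2, h1⟩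
    · by_cases h1 : e = 1
      · left; rw [h1, mul_one, mul_inv_cancel]
      · right
        intro y hya hyb hy
        rcases ((hE e).1 he).2 with h | h
        · exact h1 h
        · refine h (g⁻¹ • y) ?_ ?_ ?_
          · intro h2
            rw [inv_smul_eq_iff] at h2
            rcases hg with ⟨h3, h4'⟩ | ⟨h3, h4'⟩
            · rw [h3] at h2; exact hya h2
            · rw [h3] at h2; exact hyb h2
          · intro h2
            rw [inv_smul_eq_iff] at h2
            rcases hg with ⟨h3, h4'⟩ | ⟨h3, h4'⟩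
            · rw [h4'] at h2; exact hyb h2
            · rw [h4'] at h2; exact hya h2
          · rw [eq_inv_smul_iff, ← mul_smul, ← mul_smul]; exact hy
  have hsemi : ∀ q ∈ Q G a b c, ∀ e ∈ E, q * e = e * q → e ≠ 1 → q = 1 := by
    intro q hq e he h h1
    obtain ⟨hqa, hqb, hqc⟩ := mem_Q.1 hq
    obtain ⟨hea, heb⟩ := mem_K.1 (hEK he)
    have h2 : e • c ≠ c := fun h3 => h1 (hinj e he h3)
    have h3 : e • c ≠ a := fun h3 => hac (MulAction.injective e (h3.trans hea.symm)).symm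
    have h5 : e • c ≠ b := fun h3 => hbc (MulAction.injective e (h3.trans heb.symm)).symm
    refine h4.eq_one q a b c (e • c) (nodup4_iff.2 ⟨hab, hac, Ne.symm h3, hbc, Ne.symm h5, Ne.symm h2⟩) hqa hqb hqc ?_
    rw [← mul_smul, h, mul_smul, hqc]
  -- regular
  have hreg : ∀ y : X, y ≠ a → y ≠ b → ∃ e ∈ E, e • c = y := by
    intro y hya hyb
    have hmap : ∀ e : E, (e : G) • c ∈ Y a b := by
      rintro ⟨e, he⟩
      obtain ⟨hea, heb⟩ := mem_K.1 (hEK he)
      rw [mem_Y]
      exact ⟨fun h3 => hac (MulAction.injective e (h3.trans hea.symm)).symm,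
        fun h3 => hbc (MulAction.injective e (h3.trans heb.symm)).symm⟩
    let φ : E → Y a b := fun e => ⟨(e : G) • c, hmap e⟩
    have hφ : Function.Injective φ := by
      intro e e' h
      have h1 : (e : G) • c = (e' : G) • c := congrArg Subtype.val h
      have h2 : (e' : G)⁻¹ * (e : G) = 1 := by
        apply hinj _ (mul_mem (inv_mem e'.2) e.2)
        rw [mul_smul, h1, inv_smul_smul]
      exact Subtype.ext (inv_mul_eq_one.1 h2).symm
    have hbij : Function.Bijective φ := by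
      rw [Fintype.bijective_iff_injective_and_card]
      refine ⟨hφ, ?_⟩
      rw [Fintype.card_coe, card_Y h11 hab, ← hE9, Nat.card_eq_fintype_card]
    obtain ⟨e, he⟩ := hbij.2 ⟨y, mem_Y.2 ⟨hya, hyb⟩⟩
    exact ⟨e, e.2, congrArg Subtype.val he⟩
  -- the involution of Q
  have hinv : ∀ q ∈ Q G a b c, q * q = 1 → q ≠ 1 → ∀ e ∈ E, q * e * q⁻¹ = e⁻¹ := by
    intro q hq hqq hq1 e he
    obtain ⟨hqa, hqb, hqc⟩ := mem_Q.1 hq
    have h1 : q * e * q⁻¹ ∈ E := hnorm q (Or.inl ⟨hqa, hqb⟩) e he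
    by_contra h2
    have h3 : e * (q * e * q⁻¹) ≠ 1 := fun h => h2 (eq_inv_of_mul_eq_one_right h)
    apply hq1
    refine hsemi q hq _ (mul_mem he h1) ?_ h3
    have h5 : q⁻¹ = q := inv_eq_of_mul_eq_one_right hqq
    rw [hcomm e he _ h1]
    rw [h5]
    calc q * (q * e * q * e) = (q * q) * e * q * e := by group
      _ = e * q * e := by rw [hqq, one_mul]
      _ = e * (q * e * q) * q := by
        rw [show e * (q * e * q) * q = e * q * e * (q * q) by group, hqq, mul_one]
      _ = q * e * q * e * q := by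
        rw [hcomm e he (q * e * q) (by rw [h5] at h1; exact h1)]
  have hcard2 : ∃ z ∈ Q G a b c, z * z = 1 ∧ z ≠ 1 := by
    obtain ⟨z, hz⟩ := exists_prime_orderOf_dvd_card' (G := Q G a b c) 2 (by rw [hQ8]; norm_num)
    refine ⟨z, z.2, ?_, ?_⟩
    · have h1 := pow_orderOf_eq_one z
      rw [hz, pow_two] at h1
      exact congrArg Subtype.val h1
    · intro h1
      have h2 : z = 1 := Subtype.ext h1
      rw [h2, orderOf_one] at hz
      norm_num at hz
  obtain ⟨z, hzQ, hzz, hz1⟩ := hcard2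
  obtain ⟨e0, he0, he01⟩ : ∃ e ∈ E, e ≠ 1 := by
    by_contra h
    push Not at h
    have : E = ⊥ := by
      rw [Subgroup.eq_bot_iff_forall]; exact h
    rw [this, Subgroup.card_bot] at hE9
    norm_num at hE9
  have hzu : ∀ q ∈ Q G a b c, q * q = 1 → q ≠ 1 → q = z := by
    intro q hq hqq hq1
    have h1 : q⁻¹ * z = 1 := by
      refine hsemi _ (mul_mem (inv_mem hq) hzQ) e0 he0 ?_ he01
      have h2 := hinv q hq hqq hq1 e0 he0
      have h3 := hinv z hzQ hzz hz1 e0 he0
      have h5 : z * e0 = e0⁻¹ * z := by rw [← h3]; group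
      have h6 : q⁻¹ * e0⁻¹ = e0 * q⁻¹ := by
        rw [← h2]
        have h7 : q⁻¹ = q := inv_eq_of_mul_eq_one_right hqq
        have h8 : q * e0 = e0⁻¹ * q := by rw [← h2]; group
        rw [h7]
        calc q * (q * e0 * q) = (q * q) * e0 * q := by group
          _ = e0 * q := by rw [hqq, one_mul]
      rw [mul_assoc, h5, ← mul_assoc, h6, mul_assoc]
    exact (inv_mul_eq_one.1 h1)
  -- the element of order 3
  obtain ⟨y, hya, hyb, hyc, hyd⟩ := h4.exists_map a b c d b c a d hn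
    (nodup4_iff.2 ⟨hbc, hab.symm, Ne.symm hdb, hac.symm, Ne.symm hdc, Ne.symm hda⟩)
  have hy3 : y ^ 3 = 1 := by
    apply h4.eq_one _ a b c d hn
    · rw [pow_succ, pow_two, mul_smul, mul_smul, hya, hyb, hyc]
    · rw [pow_succ, pow_two, mul_smul, mul_smul, hyb, hyc, hya]
    · rw [pow_succ, pow_two, mul_smul, mul_smul, hyc, hya, hyb]
    · rw [pow_succ, pow_two, mul_smul, mul_smul, hyd, hyd, hyd]
  have hyinv : y⁻¹ • a = c ∧ y⁻¹ • b = a ∧ y⁻¹ • c = b :=
    ⟨by rw [inv_smul_eq_iff, hyc], by rw [inv_smul_eq_iff, hya], by rw [inv_smul_eq_iff, hyb]⟩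
  have hyQ : ∀ q ∈ Q G a b c, y * q * y⁻¹ ∈ Q G a b c := by
    intro q hq
    obtain ⟨hqa, hqb, hqc⟩ := mem_Q.1 hq
    rw [mem_Q]
    refine ⟨?_, ?_, ?_⟩
    · rw [mul_smul, mul_smul, hyinv.1, hqc, hyc]
    · rw [mul_smul, mul_smul, hyinv.2.1, hqa, hya]
    · rw [mul_smul, mul_smul, hyinv.2.2, hqb, hyb]
  have hzy : z * y = y * z := by
    have h1 : y * z * y⁻¹ = z := by
      apply hzu _ (hyQ z hzQ)
      · calc y * z * y⁻¹ * (y * z * y⁻¹) = y * (z * z) * y⁻¹ := by group
          _ = 1 := by rw [hzz]; group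
      · intro h
        apply hz1
        have h2 : z = y⁻¹ * (y * z * y⁻¹) * y := by group
        rw [h2, h]; group
    calc z * y = (y * z * y⁻¹) * y := by rw [h1]
      _ = y * z := by group
  have hyC : ∀ q ∈ Q G a b c, q * y = y * q → q = 1 ∨ q = z := by
    intro q hq hqy
    by_contra hcon
    push Not at hcon
    obtain ⟨e, ⟨hed, hye⟩, huniq⟩ := exists_unique_other h4 h11 hn hya hyb hyc hyd
    obtain ⟨hqa, hqb, hqc⟩ := mem_Q.1 hq
    obtain ⟨hza, hzb, hzc⟩ := mem_Q.1 hzQ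
    -- the fixed points of y are d, q d, z d
    have hfix : ∀ r ∈ Q G a b c, r * y = y * r → r ≠ 1 → r • d = e := by
      intro r hr hry hr1
      apply huniq
      refine ⟨?_, ?_⟩
      · intro h
        obtain ⟨h1, h2, h3⟩ := mem_Q.1 hr
        exact hr1 (h4.eq_one r a b c d hn h1 h2 h3 h)
      · rw [← mul_smul, ← hry, mul_smul, hyd]
    have h1 := hfix q hq hqy hcon.1
    have h2 := hfix z hzQ hzy hz1
    exact hcon.2 (h4.eq_of hn (hqa.trans hza.symm) (hqb.trans hzb.symm) (hqc.trans hzc.symm) (h1.trans h2.symm))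
  have hzc : ∀ q ∈ Q G a b c, z * q = q * z := by
    intro q hq
    have h1 : q * z * q⁻¹ = z := by
      apply hzu _ (mul_mem (mul_mem hq hzQ) (inv_mem hq))
      · calc q * z * q⁻¹ * (q * z * q⁻¹) = q * (z * z) * q⁻¹ := by group
          _ = 1 := by rw [hzz]; group
      · intro h
        apply hz1
        have h2 : z = q⁻¹ * (q * z * q⁻¹) * q := by group
        rw [h2, h]; group
    calc z * q = (q * z * q⁻¹) * q := by rw [h1]
      _ = q * z := by group
  -- squares
  have hfour : ∀ q ∈ Q G a b c, q ≠ 1 → q ≠ z → q * q = z := by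
    intro q hq hq1 hqz
    by_contra hcon
    have hqq1 : q * q ≠ 1 := fun h => hqz (hzu q hq h hq1)
    have h8 : q ^ 8 = 1 := by
      have h1 := pow_card_eq_one' (x := (⟨q, hq⟩ : Q G a b c))
      rw [hQ8] at h1
      exact congrArg Subtype.val h1
    have h4q : q ^ 4 ≠ 1 := by
      intro h
      apply hcon
      apply hzu _ (mul_mem hq hq) _ hqq1
      rw [← h, show 4 = 2 + 2 by norm_num, pow_add, pow_two]
    have ho : orderOf (⟨q, hq⟩ : Q G a b c) = 8 := by
      have h1 : orderOf (⟨q, hq⟩ : Q G a b c) ∣ 2 ^ 3 := by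
        apply orderOf_dvd_of_pow_eq_one
        exact Subtype.ext h8
      obtain ⟨k, hk, hk'⟩ := (Nat.dvd_prime_pow Nat.prime_two).1 h1
      rw [hk']
      have h2 : k = 3 := by
        by_contra h3
        have h5 : orderOf (⟨q, hq⟩ : Q G a b c) ∣ 4 := by
          rw [hk']
          exact pow_dvd_pow 2 (show k ≤ 2 by omega)
        apply h4q
        have h6 := orderOf_dvd_iff_pow_eq_one.1 h5
        exact congrArg Subtype.val h6
      rw [h2]; norm_num
    have hcyc : ∀ r : Q G a b c, r ∈ Subgroup.zpowers (⟨q, hq⟩ : Q G a b c) := by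
      have h1 : Subgroup.zpowers (⟨q, hq⟩ : Q G a b c) = ⊤ := by
        apply Subgroup.eq_top_of_card_eq
        rw [Nat.card_zpowers, ho, hQ8]
      intro r
      rw [h1]
      trivial
    have hcyc' : ∀ r ∈ Q G a b c, ∃ k : ℕ, r = q ^ k := by
      intro r hr
      have h1 := hcyc ⟨r, hr⟩
      rw [← mem_powers_iff_mem_zpowers] at h1
      obtain ⟨k, hk⟩ := h1
      exact ⟨k, (congrArg Subtype.val hk).symm⟩
    obtain ⟨k, hk⟩ := hcyc' _ (hyQ q hq)
    have hpow : ∀ m : ℕ, y * q ^ m * y⁻¹ = (q ^ m) ^ k := by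
      intro m
      rw [← conj_pow, hk, ← pow_mul, ← pow_mul, mul_comm]
    have h1 : q = q ^ (k * k * k) := by
      calc q = y ^ 3 * q * (y ^ 3)⁻¹ := by rw [hy3]; group
        _ = y * (y * (y * q * y⁻¹) * y⁻¹) * y⁻¹ := by
          rw [pow_succ, pow_two]; group
        _ = q ^ (k * k * k) := by
          rw [hk, hpow, ← pow_mul, hpow, ← pow_mul]
    have h2 : k * k * k ≡ 1 [MOD 8] := by
      have h3 : (⟨q, hq⟩ : Q G a b c) ^ (k * k * k) = (⟨q, hq⟩ : Q G a b c) ^ 1 := by
        apply Subtype.ext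
        change q ^ (k * k * k) = q ^ 1
        rw [← h1, pow_one]
      rw [pow_eq_pow_iff_modEq, ho] at h3
      exact h3
    have h3 : k ≡ 1 [MOD 8] := by
      unfold Nat.ModEq at h2 ⊢
      have h5 : k % 8 < 8 := Nat.mod_lt _ (by norm_num)
      rw [Nat.mul_mod, Nat.mul_mod k k] at h2
      clear hpow h1 hk
      generalize k % 8 = r at h2 h5
      interval_cases r <;> revert h2 <;> decide
    have h5 : (⟨q, hq⟩ : Q G a b c) ^ k = (⟨q, hq⟩ : Q G a b c) ^ 1 := by
      rw [pow_eq_pow_iff_modEq, ho]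
      exact h3
    have h6 : q ^ k = q := by
      have h7 := congrArg Subtype.val h5
      rw [pow_one] at h7
      exact h7
    rw [h6] at hk
    have h7 : q * y = y * q := by
      calc q * y = (y * q * y⁻¹) * y := by rw [hk]
        _ = y * q := by group
    rcases hyC q hq h7 with h | h
    · exact hq1 h
    · exact hqz h
  have hconj := conj_six hQ8 hy3 hyQ hyC hzQ hz1 hzz hzy hzc
  obtain ⟨g, hga, hgb, hgc, hgd⟩ := h4.exists_map a b c d a c b d hn
    (nodup4_iff.2 ⟨hac, hab, Ne.symm hda, hbc.symm, Ne.symm hdc, Ne.symm hdb⟩)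
  obtain ⟨t, hta, htb, htc, htd⟩ := h4.exists_map a b c d b a c d hn
    (nodup4_iff.2 ⟨hab.symm, hbc, Ne.symm hdb, hac, Ne.symm hda, Ne.symm hdc⟩)
  have htt : t * t = 1 := by
    apply h4.eq_one _ a b c d hn
    · rw [mul_smul, hta, htb]
    · rw [mul_smul, htb, hta]
    · rw [mul_smul, htc, htc]
    · rw [mul_smul, htd, htd]
  refine ⟨E, z, ⟨hE9, hcomm, hEK, hnorm, hreg, hinj, hQ8, hsemi, hzQ, hz1, hzz, hzu, hfour, hconj,
    ⟨g, hga, hgb, hgc, ?_⟩, ⟨t, hta, htb, htt, ?_, ?_⟩⟩⟩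
  · apply h4.eq_one _ a b c d hn
    · rw [mul_smul, hga, hga]
    · rw [mul_smul, hgb, hgc]
    · rw [mul_smul, hgc, hgb]
    · rw [mul_smul, hgd, hgd]
  · intro q hq
    obtain ⟨hqa, hqb, hqc⟩ := mem_Q.1 hq
    have hti : t⁻¹ = t := inv_eq_of_mul_eq_one_right htt
    rw [mem_Q, hti]
    refine ⟨?_, ?_, ?_⟩
    · rw [mul_smul, mul_smul, hta, hqb, htb]
    · rw [mul_smul, mul_smul, htb, hqa, hta]
    · rw [mul_smul, mul_smul, htc, hqc, htc]
  · by_contra hcon
    push Not at hcon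
    -- t fixes every point q d
    obtain ⟨hza, hzb, hzc'⟩ := mem_Q.1 hzQ
    obtain ⟨q, hq, hq1, hqz⟩ : ∃ q ∈ Q G a b c, q ≠ 1 ∧ q ≠ z := by
      by_contra h
      push Not at h
      have h1 : (Finset.univ.filter fun g => g ∈ Q G a b c).card = 8 := by
        rw [← hQ8, Nat.card_eq_fintype_card, Fintype.card_subtype]
      have h2 : (Finset.univ.filter fun g => g ∈ Q G a b c) ⊆ {1, z} := by
        intro x hx
        rw [Finset.mem_filter] at hx
        rw [Finset.mem_insert, Finset.mem_singleton]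
        by_cases h3 : x = 1
        · exact Or.inl h3
        · exact Or.inr (h x hx.2 h3)
      have h3 := Finset.card_le_card h2
      have h5 := Finset.card_le_two (a := (1 : G)) (b := z)
      omega
    obtain ⟨hqa, hqb, hqc⟩ := mem_Q.1 hq
    have hne1 : z • d ≠ d := fun h => hz1 (h4.eq_one z a b c d hn hza hzb hzc' h)
    have hne2 : q • d ≠ d := fun h => hq1 (h4.eq_one q a b c d hn hqa hqb hqc h)
    have hne3 : q • d ≠ z • d := fun h => hqz (h4.eq_of hn (hqa.trans hza.symm) (hqb.trans hzb.symm) (hqc.trans hzc'.symm) h)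
    have hcd : ∀ r ∈ Q G a b c, r • d ≠ c := by
      intro r hr h
      obtain ⟨-, -, h3⟩ := mem_Q.1 hr
      exact hdc (MulAction.injective r (h.trans h3.symm))
    have h1 : t = 1 := by
      apply h4.eq_one t c d (z • d) (q • d)
      · exact nodup4_iff.2 ⟨Ne.symm hdc, Ne.symm (hcd z hzQ), Ne.symm (hcd q hq), Ne.symm hne1, Ne.symm hne2, Ne.symm hne3⟩
      · exact htc
      · exact htd
      · rw [← mul_smul, hcon z hzQ, mul_smul, htd]
      · rw [← mul_smul, hcon q hq, mul_smul, htd]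
    rw [h1, one_smul] at hta
    exact hab hta

end Cfsg.Agent.H926.MEl
end

-- part: H926/MElEig
section
/-!
# Representations of `E : Q`, eigenvectors (helper926)
-/

set_option autoImplicit false

namespace Cfsg.Agent.H926.MEl

open Module

variable {G : Type*} [Group G] {k : Type*} [Field k] {V : Type*} [AddCommGroup V] [Module k V]
  (ρ : G →* Module.End k V)

theorem rho_mul (g h : G) (v : V) : ρ (g * h) v = ρ g (ρ h v) := by
  rw [map_mul]; rfl

theorem rho_one (v : V) : ρ 1 v = v := by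
  rw [map_one]; rfl

theorem rho_inj (g : G) {v w : V} (h : ρ g v = ρ g w) : v = w := by
  have h1 : ρ g⁻¹ (ρ g v) = ρ g⁻¹ (ρ g w) := by rw [h]
  rwa [← rho_mul, ← rho_mul, inv_mul_cancel, rho_one, rho_one] at h1

/-- A common eigenvector with nontrivial character. -/
theorem exists_eigen [Finite G] [IsAlgClosed k] [FiniteDimensional k V] {E : Subgroup G} (hcomm : ∀ e ∈ E, ∀ e' ∈ E, e * e' = e' * e) (hk : (Nat.card E : k) ≠ 0)
    (U : Submodule k V) (hU : ∀ e ∈ E, ∀ u ∈ U, ρ e u ∈ U) (hne : ∃ u ∈ U, ∃ e ∈ E, ρ e u ≠ u) :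
    ∃ u ∈ U, u ≠ 0 ∧ ∃ χ : E →* k, (∀ e : E, ρ e u = χ e • u) ∧ ∃ e, χ e ≠ 1 := by
  classical
  have := Fintype.ofFinite E
  let U1 : Submodule k V :=
    { carrier := {u | u ∈ U ∧ ∑ e : E, ρ e u = 0}
      add_mem' := by
        rintro u v ⟨hu, hu'⟩ ⟨hv, hv'⟩
        refine ⟨U.add_mem hu hv, ?_⟩
        simp only [map_add, Finset.sum_add_distrib, hu', hv', add_zero]
      zero_mem' := ⟨U.zero_mem, by simp only [_root_.map_zero, _root_.Finset.sum_const_zero]⟩
      smul_mem' := by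
        rintro c u ⟨hu, hu'⟩
        refine ⟨U.smul_mem c hu, ?_⟩
        simp only [map_smul, ← Finset.smul_sum, hu', smul_zero] }
  have hmemU1 : ∀ u, u ∈ U1 ↔ u ∈ U ∧ ∑ e : E, ρ e u = 0 := fun u => Iff.rfl
  have hsum : ∀ (e' : E) (u : V), ∑ e : E, ρ e (ρ e' u) = ∑ e : E, ρ e u := by
    intro e' u
    rw [← Equiv.sum_comp (Equiv.mulRight e') (fun e : E => ρ e u)]
    exact Finset.sum_congr rfl fun e _ => by
      rw [Equiv.coe_mulRight, Subgroup.coe_mul, rho_mul]
  have hU1 : ∀ e ∈ E, ∀ u ∈ U1, ρ e u ∈ U1 := by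
    intro e he u hu
    exact ⟨hU e he u hu.1, by rw [hsum ⟨e, he⟩]; exact hu.2⟩
  have hU1ne : U1 ≠ ⊥ := by
    intro h
    obtain ⟨u, hu, e, he, heu⟩ := hne
    have h1 : ρ e u - u ∈ U1 := by
      refine ⟨U.sub_mem (hU e he u hu) hu, ?_⟩
      simp only [map_sub, Finset.sum_sub_distrib]
      rw [hsum ⟨e, he⟩, sub_self]
    rw [h, Submodule.mem_bot, sub_eq_zero] at h1
    exact heu h1
  have key : ∀ s : Finset E, ∃ U' : Submodule k V, U' ≤ U1 ∧ U' ≠ ⊥ ∧ (∀ e ∈ E, ∀ u ∈ U', ρ e u ∈ U') ∧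
      ∀ e ∈ s, ∃ c : k, ∀ u ∈ U', ρ e u = c • u := by
    intro s
    induction s using Finset.induction_on with
    | empty => exact ⟨U1, le_rfl, hU1ne, hU1, fun e he => absurd he (Finset.notMem_empty e)⟩
    | insert e s _ ih =>
      obtain ⟨U', hle, hne', hinv, hs⟩ := ih
      have hnt : Nontrivial U' := Submodule.nontrivial_iff_ne_bot.2 hne'
      let T : Module.End k U' := (ρ e).restrict (hinv e e.2)
      obtain ⟨μ, hμ⟩ := Module.End.exists_eigenvalue T
      obtain ⟨w, hw⟩ := hμ.exists_hasEigenvector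
      let U'' : Submodule k V :=
        { carrier := {u | u ∈ U' ∧ ρ e u = μ • u}
          add_mem' := by
            rintro u v ⟨hu, hu'⟩ ⟨hv, hv'⟩
            exact ⟨U'.add_mem hu hv, by rw [map_add, hu', hv', smul_add]⟩
          zero_mem' := ⟨U'.zero_mem, by simp only [_root_.map_zero, _root_.smul_zero]⟩
          smul_mem' := by
            rintro c u ⟨hu, hu'⟩
            exact ⟨U'.smul_mem c hu, by rw [map_smul, hu', smul_comm]⟩ }
      refine ⟨U'', fun u hu => hle hu.1, ?_, ?_, ?_⟩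
      · intro h
        have h1 : (w : V) ∈ U'' := by
          refine ⟨w.2, ?_⟩
          have h2 := hw.apply_eq_smul
          have h3 := congrArg Subtype.val h2
          exact h3
        rw [h, Submodule.mem_bot] at h1
        exact hw.2 (Subtype.ext h1)
      · rintro e' he' u ⟨hu, hu'⟩
        refine ⟨hinv e' he' u hu, ?_⟩
        rw [← rho_mul, hcomm e e.2 e' he', rho_mul, hu', map_smul]
      · intro e' he'
        rw [Finset.mem_insert] at he'
        rcases he' with rfl | he'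
        · exact ⟨μ, fun u hu => hu.2⟩
        · obtain ⟨c, hc⟩ := hs e' he'
          exact ⟨c, fun u hu => hc u hu.1⟩
  obtain ⟨U', hle, hne', hinv, hs⟩ := key Finset.univ
  obtain ⟨u, hu, hu0⟩ := Submodule.exists_mem_ne_zero_of_ne_bot hne'
  choose c hc using fun e => hs e (Finset.mem_univ e)
  have hcu : ∀ e : E, ρ e u = c e • u := fun e => hc e u hu
  let χ : E →* k :=
    { toFun := c
      map_one' := by
        have h1 := hcu 1
        rw [Subgroup.coe_one, rho_one] at h1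
        have h2 : (c 1 - 1) • u = 0 := by rw [sub_smul, one_smul, ← h1, sub_self]
        rcases smul_eq_zero.1 h2 with h | h
        · exact sub_eq_zero.1 h
        · exact absurd h hu0
      map_mul' := by
        intro e e'
        have h1 := hcu (e * e')
        rw [Subgroup.coe_mul, rho_mul, hcu e', map_smul, hcu e, smul_smul] at h1
        have h2 : (c (e * e') - c e * c e') • u = 0 := by rw [sub_smul, ← h1, mul_comm, sub_self]
        rcases smul_eq_zero.1 h2 with h | h
        · exact sub_eq_zero.1 h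
        · exact absurd h hu0 }
  refine ⟨u, (hle hu).1, hu0, χ, hcu, ?_⟩
  by_contra hcon
  push Not at hcon
  have h1 : ∑ e : E, ρ e u = 0 := (hle hu).2
  have h2 : ∑ e : E, ρ e u = (Nat.card E : k) • u := by
    have h3 : ∀ e : E, ρ e u = u := fun e => by
      rw [hcu e, show c e = 1 from hcon e, one_smul]
    rw [Finset.sum_congr rfl fun e _ => h3 e, Finset.sum_const, Finset.card_univ, Nat.card_eq_fintype_card,
      Nat.cast_smul_eq_nsmul]
  rw [h2] at h1
  rcases smul_eq_zero.1 h1 with h | h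
  · exact hk h
  · exact hu0 h

/-- the translates of an eigenvector are independent if the conjugate characters are different -/
theorem indep {E : Subgroup G} {Q : Subgroup G} (hn : ∀ q ∈ Q, ∀ e ∈ E, q * e * q⁻¹ ∈ E) {u : V} (hu0 : u ≠ 0)
    {χ : E →* k} (hχ : ∀ e : E, ρ e u = χ e • u)
    (hinj : ∀ q ∈ Q, (∀ e e' : E, (e' : G) = q * e * q⁻¹ → χ e' = χ e) → q = 1) :
    LinearIndependent k (fun q : Q => ρ q u) := by
  classical
  -- the character of the q-th vector
  have hn' : ∀ q ∈ Q, ∀ e ∈ E, q⁻¹ * e * q ∈ E := by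
    intro q hq e he
    have := hn q⁻¹ (inv_mem hq) e he
    rwa [inv_inv] at this
  let ψ : Q → (E →* k) := fun q =>
    { toFun := fun e => χ ⟨(q : G)⁻¹ * e * q, hn' q q.2 e e.2⟩
      map_one' := by
        rw [show (⟨(q : G)⁻¹ * ((1 : E) : G) * q, hn' q q.2 _ (1 : E).2⟩ : E) = 1 by
          apply Subtype.ext; simp, map_one]
      map_mul' := by
        intro e e'
        rw [← map_mul]
        congr 1
        apply Subtype.ext
        simp only [Subgroup.coe_mul]
        group }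
  have hψ : ∀ (q : Q) (e : E), ρ e (ρ q u) = ψ q e • ρ q u := by
    intro q e
    have h1 : ρ e (ρ q u) = ρ q (ρ ((q : G)⁻¹ * e * q) u) := by
      rw [← rho_mul, ← rho_mul]
      congr 2
      group
    rw [h1]
    have h2 := hχ ⟨(q : G)⁻¹ * e * q, hn' q q.2 e e.2⟩
    rw [show ρ ((q : G)⁻¹ * e * q) u = χ ⟨(q : G)⁻¹ * e * q, hn' q q.2 e e.2⟩ • u from h2, map_smul]
    rfl
  have hψinj : Function.Injective ψ := by
    intro q q' h
    have h1 : (q : G)⁻¹ * q' = 1 := by
      apply hinj _ (mul_mem (inv_mem q.2) q'.2)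
      intro e e' he
      have h2 := DFunLike.congr_fun h ⟨(q' : G) * e * (q' : G)⁻¹, hn q' q'.2 e e.2⟩
      change χ ⟨(q : G)⁻¹ * ((q' : G) * e * (q' : G)⁻¹) * q, _⟩ = χ ⟨(q' : G)⁻¹ * ((q' : G) * e * (q' : G)⁻¹) * q', _⟩ at h2
      have h3 : e' = ⟨(q : G)⁻¹ * ((q' : G) * e * (q' : G)⁻¹) * q, hn' q q.2 _ (hn q' q'.2 e e.2)⟩ := by
        apply Subtype.ext
        rw [he]
        change _ = (q : G)⁻¹ * ((q' : G) * e * (q' : G)⁻¹) * q
        group
      have h5 : e = ⟨(q' : G)⁻¹ * ((q' : G) * e * (q' : G)⁻¹) * q', hn' q' q'.2 _ (hn q' q'.2 e e.2)⟩ := by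
        apply Subtype.ext
        change _ = (q' : G)⁻¹ * ((q' : G) * e * (q' : G)⁻¹) * q'
        group
      rw [h3, h2, ← h5]
    exact Subtype.ext (inv_mul_eq_one.1 h1)
  have hD := (linearIndependent_monoidHom E k).comp ψ hψinj
  rw [linearIndependent_iff'] at hD ⊢
  intro s c hc q hq
  have h1 : ∀ ℓ : V →ₗ[k] k, c q * ℓ (ρ q u) = 0 := by
    intro ℓ
    refine hD s (fun q => c q * ℓ (ρ q u)) ?_ q hq
    ext e
    have h2 : ρ e (∑ q ∈ s, c q • ρ q u) = 0 := by rw [hc, map_zero]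
    rw [map_sum] at h2
    have h3 := congrArg ℓ h2
    rw [map_sum, map_zero] at h3
    rw [Finset.sum_apply]
    simp only [Pi.smul_apply, smul_eq_mul, Pi.zero_apply, Function.comp_apply]
    rw [← h3]
    refine Finset.sum_congr rfl fun q' _ => ?_
    rw [map_smul, hψ, map_smul, map_smul, smul_eq_mul, smul_eq_mul]
    ring
  have h2 : ρ q u ≠ 0 := fun h => hu0 (rho_inj ρ q (h.trans (map_zero _).symm))
  obtain ⟨ℓ, hℓ⟩ := Module.Projective.exists_dual_ne_zero k h2
  exact (mul_eq_zero.1 (h1 ℓ)).resolve_right hℓ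

end Cfsg.Agent.H926.MEl
end

-- part: H926/MElDec
section
/-!
# The decomposition of a 10-dimensional representation under `E : Q` (helper926)
-/

set_option autoImplicit false

namespace Cfsg.Agent.H926.MEl

open Module

variable {G X : Type*} [Group G] [MulAction G X] {a b c : X} {E : Subgroup G} {z : G}

theorem Loc.normQ (hL : Loc G a b c E z) : ∀ q ∈ Q G a b c, ∀ e ∈ E, q * e * q⁻¹ ∈ E := by
  intro q hq e he
  obtain ⟨h1, h2, -⟩ := mem_Q.1 hq
  exact hL.norm q (Or.inl ⟨h1, h2⟩) e he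

theorem Loc.finE (hL : Loc G a b c E z) : Finite E := Nat.finite_of_card_ne_zero (by rw [hL.cardE]; norm_num)

theorem Loc.finQ (hL : Loc G a b c E z) : Finite (Q G a b c) := Nat.finite_of_card_ne_zero (by rw [hL.cardQ]; norm_num)

/-- `Q` acts semiregularly on the nontrivial characters of `E` -/
theorem Loc.chi (hL : Loc G a b c E z) {k : Type*} [Field k] {χ : E →* k} (hχ : ∃ e, χ e ≠ 1) :
    ∀ q ∈ Q G a b c, (∀ e e' : E, (e' : G) = q * e * q⁻¹ → χ e' = χ e) → q = 1 := by
  intro q hq h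
  by_contra hq1
  obtain ⟨e0, he0⟩ := hχ
  apply he0
  have := hL.finE
  let δ : E → E := fun e => ⟨(e : G)⁻¹ * (q * e * q⁻¹), mul_mem (inv_mem e.2) (hL.normQ q hq e e.2)⟩
  have hδ : Function.Injective δ := by
    intro e e' hee
    have h1 : (e : G)⁻¹ * (q * e * q⁻¹) = (e' : G)⁻¹ * (q * e' * q⁻¹) := congrArg Subtype.val hee
    have hc := hL.comm _ (hL.normQ q hq e e.2)
    have h2 : q * ((e : G) * (e' : G)⁻¹) = ((e : G) * (e' : G)⁻¹) * q := by
      have h3 : (q * e * q⁻¹) * (q * e' * q⁻¹)⁻¹ = (e : G) * (e' : G)⁻¹ := by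
        have h5 : (q * e * q⁻¹) = (e : G) * ((e' : G)⁻¹ * (q * e' * q⁻¹)) := by rw [← h1]; group
        rw [h5]; group
      calc q * ((e : G) * (e' : G)⁻¹) = (q * e * q⁻¹) * (q * e' * q⁻¹)⁻¹ * q := by group
        _ = ((e : G) * (e' : G)⁻¹) * q := by rw [h3]
    by_contra hne
    apply hq1
    refine hL.semi q hq _ (mul_mem e.2 (inv_mem e'.2)) h2 ?_
    intro h3
    exact hne (Subtype.ext (mul_inv_eq_one.1 h3))
  obtain ⟨e, he⟩ := Finite.injective_iff_surjective.1 hδ e0
  rw [← he]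
  have h1 : δ e = e⁻¹ * ⟨q * e * q⁻¹, hL.normQ q hq e e.2⟩ := rfl
  rw [h1, map_mul, h e ⟨q * e * q⁻¹, hL.normQ q hq e e.2⟩ rfl, ← map_mul, inv_mul_cancel, map_one]

variable {k : Type*} [Field k] {V : Type*} [AddCommGroup V] [Module k V] (ρ : G →* Module.End k V)

/-- the fixed vectors of `E` -/
def fixE (E : Subgroup G) : Submodule k V where
  carrier := {v | ∀ e ∈ E, ρ e v = v}
  add_mem' := fun {u v} hu hv e he => by rw [map_add, hu e he, hv e he]
  zero_mem' := fun e _ => map_zero _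
  smul_mem' := fun c v hv e he => by rw [map_smul, hv e he]

theorem mem_fixE {v : V} : v ∈ fixE ρ E ↔ ∀ e ∈ E, ρ e v = v := Iff.rfl

variable [Finite G] [IsAlgClosed k] [FiniteDimensional k V]

omit [FiniteDimensional k V] [IsAlgClosed k] [Finite G] in
theorem Loc.nine_ne (hL : Loc G a b c E z) (h3 : (3 : k) ≠ 0) : (Nat.card E : k) ≠ 0 := by
  rw [hL.cardE]
  have : ((9 : ℕ) : k) = 3 * 3 := by norm_num
  rw [this]
  exact mul_ne_zero h3 h3

/-- an invariant subspace on which `E` acts nontrivially has dimension at least 8 -/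
theorem Loc.eight_le (hL : Loc G a b c E z) (h3 : (3 : k) ≠ 0) (U : Submodule k V) (hE : ∀ e ∈ E, ∀ u ∈ U, ρ e u ∈ U)
    (hQ : ∀ q ∈ Q G a b c, ∀ u ∈ U, ρ q u ∈ U) (hne : ∃ u ∈ U, ∃ e ∈ E, ρ e u ≠ u) : 8 ≤ finrank k U := by
  obtain ⟨u, hu, hu0, χ, hχ, hχ1⟩ := exists_eigen ρ hL.comm (hL.nine_ne h3) U hE hne
  have hli := indep ρ hL.normQ hu0 hχ (hL.chi hχ1)
  have := hL.finQ
  have := Fintype.ofFinite (Q G a b c)
  have h1 : LinearIndependent k (fun q : Q G a b c => (⟨ρ q u, hQ q q.2 u hu⟩ : U)) := by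
    apply LinearIndependent.of_comp U.subtype
    exact hli
  have h2 := h1.fintype_card_le_finrank
  rwa [← Nat.card_eq_fintype_card, hL.cardQ] at h2

variable {f : LinearMap.BilinForm k V}

/-- **The decomposition** `V = M ⊕ W`, `W = C_V(E)`, `dim W = 2`, `M` has the basis `ρ q u`, `q ∈ Q`. -/
theorem Loc.dec (hL : Loc G a b c E z) (h3 : (3 : k) ≠ 0) (h10 : finrank k V = 10) (hρ : Function.Injective ρ)
    (hf : ∀ g v w, f (ρ g v) (ρ g w) = f v w) (hnd : f.Nondegenerate) :
    ∃ u : V, LinearIndependent k (fun q : Q G a b c => ρ q u) ∧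
      IsCompl (Submodule.span k (Set.range fun q : Q G a b c => ρ q u)) (fixE ρ E) ∧
      (∀ e ∈ E, ∀ m ∈ Submodule.span k (Set.range fun q : Q G a b c => ρ q u),
        ρ e m ∈ Submodule.span k (Set.range fun q : Q G a b c => ρ q u)) ∧
      (∀ m ∈ Submodule.span k (Set.range fun q : Q G a b c => ρ q u), m ∈ fixE ρ E → m = 0) ∧
      (∀ m ∈ Submodule.span k (Set.range fun q : Q G a b c => ρ q u), ∀ w ∈ fixE ρ E, f m w = 0) ∧
      finrank k (fixE ρ E : Submodule k V) = 2 := by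
  have := hL.finQ
  have := hL.finE
  have := Fintype.ofFinite (Q G a b c)
  have := Fintype.ofFinite E
  -- E acts nontrivially
  have hne : ∃ u ∈ (⊤ : Submodule k V), ∃ e ∈ E, ρ e u ≠ u := by
    by_contra hcon
    push Not at hcon
    have h1 : ∀ e ∈ E, e = 1 := by
      intro e he
      apply hρ
      apply LinearMap.ext
      intro v
      rw [hcon v trivial e he, rho_one]
    have h2 : E = ⊥ := by
      rw [Subgroup.eq_bot_iff_forall]; exact h1
    have h5 := hL.cardE
    rw [h2, Subgroup.card_bot] at h5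
    norm_num at h5
  obtain ⟨u, -, hu0, χ, hχ, hχ1⟩ := exists_eigen ρ hL.comm (hL.nine_ne h3) ⊤ (fun _ _ _ _ => trivial) hne
  have hli := indep ρ hL.normQ hu0 hχ (hL.chi hχ1)
  set M : Submodule k V := Submodule.span k (Set.range fun q : Q G a b c => ρ q u) with hM
  have hM8 : finrank k M = 8 := by
    rw [hM, finrank_span_eq_card hli, ← Nat.card_eq_fintype_card, hL.cardQ]
  have hmem : ∀ q : Q G a b c, ρ q u ∈ M := fun q => Submodule.subset_span ⟨q, rfl⟩
  -- eigenvectors
  have heig : ∀ q : Q G a b c, ∀ e ∈ E, ∃ c : k, ρ e (ρ q u) = c • ρ q u := by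
    intro q e he
    have h1 : ρ e (ρ q u) = ρ q (ρ ((q : G)⁻¹ * e * q) u) := by
      rw [← rho_mul, ← rho_mul]
      congr 2
      group
    have h2 : (q : G)⁻¹ * e * q ∈ E := by
      have := hL.normQ (q : G)⁻¹ (inv_mem q.2) e he
      rwa [inv_inv] at this
    refine ⟨χ ⟨(q : G)⁻¹ * e * q, h2⟩, ?_⟩
    rw [h1, show ρ ((q : G)⁻¹ * e * q) u = χ ⟨(q : G)⁻¹ * e * q, h2⟩ • u from hχ ⟨_, h2⟩, map_smul]
  have hME : ∀ e ∈ E, ∀ m ∈ M, ρ e m ∈ M := by
    intro e he m hm
    induction hm using Submodule.span_induction with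
    | mem x hx =>
      obtain ⟨q, rfl⟩ := hx
      obtain ⟨c, hc⟩ := heig q e he
      change ρ e (ρ q u) ∈ M
      rw [hc]
      exact M.smul_mem _ (hmem q)
    | zero => rw [map_zero]; exact M.zero_mem
    | add x y _ _ hx hy => rw [map_add]; exact M.add_mem hx hy
    | smul c x _ hx => rw [map_smul]; exact M.smul_mem _ hx
  have hMQ : ∀ r ∈ Q G a b c, ∀ m ∈ M, ρ r m ∈ M := by
    intro r hr m hm
    induction hm using Submodule.span_induction with
    | mem x hx =>
      obtain ⟨q, rfl⟩ := hx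
      change ρ r (ρ q u) ∈ M
      rw [← rho_mul]
      exact hmem ⟨r * q, mul_mem hr q.2⟩
    | zero => rw [map_zero]; exact M.zero_mem
    | add x y _ _ hx hy => rw [map_add]; exact M.add_mem hx hy
    | smul c x _ hx => rw [map_smul]; exact M.smul_mem _ hx
  -- W is orthogonal to M
  have hnontriv : ∀ q : Q G a b c, ∃ e ∈ E, ∃ c : k, c ≠ 1 ∧ ρ e (ρ q u) = c • ρ q u := by
    intro q
    obtain ⟨e0, he0⟩ := hχ1
    refine ⟨(q : G) * e0 * (q : G)⁻¹, hL.normQ q q.2 e0 e0.2, χ e0, he0, ?_⟩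
    rw [← rho_mul, show (q : G) * e0 * (q : G)⁻¹ * q = q * e0 by group, rho_mul, hχ e0, map_smul]
  have horth : ∀ m ∈ M, ∀ w ∈ fixE ρ E, f m w = 0 := by
    intro m hm w hw
    induction hm using Submodule.span_induction with
    | mem x hx =>
      obtain ⟨q, rfl⟩ := hx
      obtain ⟨e, he, c, hc1, hc⟩ := hnontriv q
      change f (ρ q u) w = 0
      have h1 := hf e (ρ q u) w
      rw [hc, hw e he, map_smul, LinearMap.smul_apply, smul_eq_mul] at h1
      have h2 : (c - 1) * f (ρ q u) w = 0 := by rw [sub_mul, h1, one_mul, sub_self]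
      exact (mul_eq_zero.1 h2).resolve_left (sub_ne_zero.2 hc1)
    | zero => rw [map_zero, LinearMap.zero_apply]
    | add x y _ _ hx hy => rw [map_add, LinearMap.add_apply, hx, hy, add_zero]
    | smul c x _ hx => rw [map_smul, LinearMap.smul_apply, hx, smul_zero]
  have hperp2 : finrank k (f.orthogonal M) = 2 := by
    rw [LinearMap.BilinForm.finrank_orthogonal hnd, h10, hM8]
  have hmo : ∀ v, v ∈ f.orthogonal M ↔ ∀ m ∈ M, f m v = 0 := by
    intro v
    rw [LinearMap.BilinForm.mem_orthogonal_iff]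
  have hle : f.orthogonal M ≤ fixE ρ E := by
    by_contra hcon
    rw [SetLike.not_le_iff_exists] at hcon
    obtain ⟨v, hv, hv'⟩ := hcon
    rw [mem_fixE] at hv'
    push Not at hv'
    obtain ⟨e, he, hev⟩ := hv'
    have h1 := hL.eight_le ρ h3 (f.orthogonal M) ?_ ?_ ⟨v, hv, e, he, hev⟩
    · rw [hperp2] at h1; norm_num at h1
    · intro e he v hv
      rw [hmo] at hv ⊢
      intro m hm
      have h2 := hf e (ρ e⁻¹ m) v
      rw [← rho_mul, mul_inv_cancel, rho_one] at h2
      rw [h2]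
      exact hv _ (hME _ (inv_mem he) m hm)
    · intro q hq v hv
      rw [hmo] at hv ⊢
      intro m hm
      have h2 := hf q (ρ q⁻¹ m) v
      rw [← rho_mul, mul_inv_cancel, rho_one] at h2
      rw [h2]
      exact hv _ (hMQ _ (inv_mem hq) m hm)
  have heq : f.orthogonal M = fixE ρ E := le_antisymm hle fun w hw => (hmo w).2 fun m hm => horth m hm w hw
  have hW2 : finrank k (fixE ρ E : Submodule k V) = 2 := by rw [← heq, hperp2]
  -- the sum over E kills M
  have hsum : ∀ m ∈ M, ∑ e : E, ρ e m = 0 := by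
    intro m hm
    induction hm using Submodule.span_induction with
    | mem x hx =>
      obtain ⟨q, rfl⟩ := hx
      obtain ⟨e, he, c, hc1, hc⟩ := hnontriv q
      change ∑ e : E, ρ e (ρ q u) = 0
      have h1 : ∑ e' : E, ρ e' (ρ e (ρ q u)) = ∑ e' : E, ρ e' (ρ q u) := by
        rw [← Equiv.sum_comp (Equiv.mulRight (⟨e, he⟩ : E)) (fun e' : E => ρ e' (ρ q u))]
        exact Finset.sum_congr rfl fun e' _ => by
          rw [Equiv.coe_mulRight, Subgroup.coe_mul, rho_mul]
      rw [hc] at h1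
      simp only [map_smul, ← Finset.smul_sum] at h1
      have h2 : (c - 1) • ∑ e' : E, ρ e' (ρ q u) = 0 := by rw [sub_smul, h1, one_smul, sub_self]
      exact (smul_eq_zero.1 h2).resolve_left (sub_ne_zero.2 hc1)
    | zero => simp only [_root_.map_zero, _root_.Finset.sum_const_zero]
    | add x y _ _ hx hy => simp only [map_add, Finset.sum_add_distrib, hx, hy, add_zero]
    | smul c x _ hx => simp only [map_smul, ← Finset.smul_sum, hx, smul_zero]
  have hdis : ∀ m ∈ M, m ∈ fixE ρ E → m = 0 := by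
    intro m hm hw
    have h1 := hsum m hm
    rw [Finset.sum_congr rfl fun (e : E) _ => hw e e.2, Finset.sum_const, Finset.card_univ,
      ← Nat.card_eq_fintype_card, ← Nat.cast_smul_eq_nsmul k] at h1
    exact (smul_eq_zero.1 h1).resolve_left (hL.nine_ne h3)
  refine ⟨u, hli, ?_, hME, hdis, horth, hW2⟩
  have hd : Disjoint M (fixE ρ E) := by
    rw [Submodule.disjoint_def]
    exact hdis
  exact ⟨hd, codisjoint_iff.2 (Submodule.eq_top_of_disjoint _ _ (by rw [hM8, hW2, h10]) hd)⟩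

end Cfsg.Agent.H926.MEl
end

-- part: H926/MElW
section
/-!
# The 2-dimensional space `C_V(E)` (helper926)
-/

set_option autoImplicit false

namespace Cfsg.Agent.H926.MEl

open Module

/-- two by two matrices -/
theorem two_by_two {k : Type*} [Field k] (h2 : (2 : k) ≠ 0) {A B : Matrix (Fin 2) (Fin 2) k} (hA : A * A = 1)
    (hB : B * B = 1) (hAB : (A * B) * (A * B) = 1) (h1 : A.trace = B.trace) (h1' : (A * B).trace = A.trace) : A = 1 := by
  have key : ∀ C : Matrix (Fin 2) (Fin 2) k, C * C = 1 → C.trace • C = (1 + C.det) • (1 : Matrix (Fin 2) (Fin 2) k) := by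
    intro C hC
    have h00 := congrFun (congrFun hC 0) 0
    have h01 := congrFun (congrFun hC 0) 1
    have h10 := congrFun (congrFun hC 1) 0
    have h11 := congrFun (congrFun hC 1) 1
    rw [Matrix.mul_apply, Fin.sum_univ_two] at h00 h01 h10 h11
    simp only [Matrix.one_apply_eq, Matrix.one_apply_ne (show (0 : Fin 2) ≠ 1 by decide),
      Matrix.one_apply_ne (show (1 : Fin 2) ≠ 0 by decide)] at h00 h01 h10 h11
    rw [Matrix.trace_fin_two, Matrix.det_fin_two]
    rw [← Matrix.ext_iff]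
    simp only [Fin.forall_fin_two, Matrix.smul_apply, smul_eq_mul, Matrix.one_apply_eq,
      Matrix.one_apply_ne (show (0 : Fin 2) ≠ 1 by decide), Matrix.one_apply_ne (show (1 : Fin 2) ≠ 0 by decide)]
    refine ⟨⟨?_, ?_⟩, ?_, ?_⟩
    · linear_combination h00
    · linear_combination h01
    · linear_combination h10
    · linear_combination h11
  by_cases ht : A.trace = 0
  · exfalso
    have d1 : (1 + A.det) = 0 := by
      have h := key A hA
      rw [ht, zero_smul] at h
      have h' := congrFun (congrFun h 0) 0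
      simpa only [_root_.Fin.isValue, _root_.Matrix.smul_apply, _root_.Matrix.one_apply_eq, _root_.smul_eq_mul, _root_.mul_one, _root_.Matrix.zero_apply] using h'.symm
    have d2 : (1 + B.det) = 0 := by
      have h := key B hB
      rw [← h1, ht, zero_smul] at h
      have h' := congrFun (congrFun h 0) 0
      simpa only [_root_.Fin.isValue, _root_.Matrix.smul_apply, _root_.Matrix.one_apply_eq, _root_.smul_eq_mul, _root_.mul_one, _root_.Matrix.zero_apply] using h'.symm
    have d3 : (1 + (A * B).det) = 0 := by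
      have h := key (A * B) hAB
      rw [h1', ht, zero_smul] at h
      have h' := congrFun (congrFun h 0) 0
      simpa only [_root_.Matrix.det_mul, _root_.Fin.isValue, _root_.Matrix.smul_apply, _root_.Matrix.one_apply_eq, _root_.smul_eq_mul, _root_.mul_one, _root_.Matrix.zero_apply] using h'.symm
    rw [Matrix.det_mul] at d3
    apply h2
    linear_combination d3 - d1 * B.det + d2
  · have hsc : ∀ C : Matrix (Fin 2) (Fin 2) k, C * C = 1 → C.trace = A.trace → ∃ γ : k, C = γ • 1 ∧ 2 * γ = A.trace := by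
      intro C hC hCt
      have h := key C hC
      refine ⟨(1 + C.det) / A.trace, ?_, ?_⟩
      · rw [hCt] at h
        rw [div_eq_inv_mul, mul_smul, ← h, smul_smul, inv_mul_cancel₀ ht, one_smul]
      · have h' := congrArg Matrix.trace h
        rw [Matrix.trace_smul, Matrix.trace_smul, Matrix.trace_one, hCt, smul_eq_mul, smul_eq_mul, Fintype.card_fin] at h'
        field_simp
        push_cast at h'
        linear_combination -h'
    obtain ⟨α, hα, hα2⟩ := hsc A hA rfl
    obtain ⟨β, hβ, hβ2⟩ := hsc B hB h1.symm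
    obtain ⟨γ, hγ, hγ2⟩ := hsc (A * B) hAB h1'
    have hαβ : α = β := mul_left_cancel₀ h2 (hα2.trans hβ2.symm)
    have hαγ : α = γ := mul_left_cancel₀ h2 (hα2.trans hγ2.symm)
    have h3 : α * β = γ := by
      rw [hα, hβ, Matrix.smul_mul, Matrix.one_mul, smul_smul] at hγ
      have h' := congrFun (congrFun hγ 0) 0
      simpa using h'
    have hα0 : α ≠ 0 := by
      rintro rfl
      rw [mul_zero] at hα2
      exact ht hα2.symm
    have h5 : β = 1 := by
      rw [← hαγ] at h3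
      exact (mul_right_eq_self₀.1 h3).resolve_right hα0
    rw [hα, hαβ, h5, one_smul]

variable {G X : Type*} [Group G] [MulAction G X] {a b c : X} {E : Subgroup G} {z : G}
variable {k : Type*} [Field k] {V : Type*} [AddCommGroup V] [Module k V] (ρ : G →* Module.End k V)

theorem Loc.exists_i (hL : Loc G a b c E z) : ∃ i ∈ Q G a b c, i ≠ 1 ∧ i ≠ z := by
  classical
  have := hL.finQ
  have := Fintype.ofFinite (Q G a b c)
  by_contra h
  push Not at h
  have h2 : (Finset.univ : Finset (Q G a b c)) ⊆ {1, ⟨z, hL.zQ⟩} := by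
    intro x _
    rw [Finset.mem_insert, Finset.mem_singleton]
    by_cases h3 : (x : G) = 1
    · exact Or.inl (Subtype.ext h3)
    · exact Or.inr (Subtype.ext (h x x.2 h3))
  have h3 := Finset.card_le_card h2
  have h5 := Finset.card_le_two (a := (1 : Q G a b c)) (b := ⟨z, hL.zQ⟩)
  rw [Finset.card_univ, ← Nat.card_eq_fintype_card, hL.cardQ] at h3
  omega

theorem Loc.exists_j (hL : Loc G a b c E z) (i : G) (hi : i ∈ Q G a b c) :
    ∃ j ∈ Q G a b c, j ≠ 1 ∧ j ≠ z ∧ j ≠ i ∧ j ≠ i * z := by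
  classical
  have := hL.finQ
  have := Fintype.ofFinite (Q G a b c)
  by_contra h
  push Not at h
  have h2 : (Finset.univ : Finset (Q G a b c)) ⊆ {1, ⟨z, hL.zQ⟩, ⟨i, hi⟩, ⟨i * z, mul_mem hi hL.zQ⟩} := by
    intro x _
    rw [Finset.mem_insert, Finset.mem_insert, Finset.mem_insert, Finset.mem_singleton]
    by_cases h3 : (x : G) = 1
    · exact Or.inl (Subtype.ext h3)
    · by_cases h5 : (x : G) = z
      · exact Or.inr (Or.inl (Subtype.ext h5))
      · by_cases h6 : (x : G) = i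
        · exact Or.inr (Or.inr (Or.inl (Subtype.ext h6)))
        · exact Or.inr (Or.inr (Or.inr (Subtype.ext (h x x.2 h3 h5 h6))))
  have h3 := Finset.card_le_card h2
  have h5 := Finset.card_le_four (a := (1 : Q G a b c)) (b := ⟨z, hL.zQ⟩) (c := ⟨i, hi⟩) (d := ⟨i * z, mul_mem hi hL.zQ⟩)
  rw [Finset.card_univ, ← Nat.card_eq_fintype_card, hL.cardQ] at h3
  omega

theorem Loc.ij (hL : Loc G a b c E z) {i j : G} (hi : i ∈ Q G a b c) (hi1 : i ≠ 1) (hiz : i ≠ z)
    (hji : j ≠ i) (hjiz : j ≠ i * z) : i * j ≠ 1 ∧ i * j ≠ z ∧ i⁻¹ * j ≠ 1 ∧ i⁻¹ * j ≠ z := by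
  have hii := hL.four i hi hi1 hiz
  have hinv : i⁻¹ = i * z := by
    apply inv_eq_of_mul_eq_one_right
    rw [← mul_assoc, hii, hL.zz]
  have hzi : i * z * z = i := by rw [mul_assoc, hL.zz, mul_one]
  have hcz : z * i = i * z := by rw [← hii, mul_assoc]
  refine ⟨?_, ?_, ?_, ?_⟩
  · intro h
    apply hjiz
    rw [← hinv]
    exact (inv_eq_of_mul_eq_one_right h).symm
  · intro h
    apply hji
    have : j = i⁻¹ * z := by rw [← h, inv_mul_cancel_left]
    rw [this, hinv, hzi]
  · intro h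
    apply hji
    rw [inv_mul_eq_one] at h
    exact h.symm
  · intro h
    apply hjiz
    rw [inv_mul_eq_iff_eq_mul] at h
    exact h

/-- `W` is invariant under the normaliser -/
theorem Loc.W_inv (hL : Loc G a b c E z) {g : G} (hg : (g • a = a ∧ g • b = b) ∨ (g • a = b ∧ g • b = a))
    {w : V} (hw : w ∈ fixE ρ E) : ρ g w ∈ fixE ρ E := by
  have hg' : (g⁻¹ • a = a ∧ g⁻¹ • b = b) ∨ (g⁻¹ • a = b ∧ g⁻¹ • b = a) := by
    rcases hg with ⟨h1, h2⟩ | ⟨h1, h2⟩
    · exact Or.inl ⟨by rw [inv_smul_eq_iff, h1], by rw [inv_smul_eq_iff, h2]⟩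
    · exact Or.inr ⟨by rw [inv_smul_eq_iff, h2], by rw [inv_smul_eq_iff, h1]⟩
  rw [mem_fixE] at hw ⊢
  intro e he
  have h1 := hL.norm g⁻¹ hg' e he
  rw [inv_inv] at h1
  have h2 := hw _ h1
  rw [← rho_mul, show e * g = g * (g⁻¹ * e * g) by group, rho_mul, h2]

theorem Loc.W_invQ (hL : Loc G a b c E z) {q : G} (hq : q ∈ Q G a b c)
    {w : V} (hw : w ∈ fixE ρ E) : ρ q w ∈ fixE ρ E := by
  obtain ⟨h1, h2, -⟩ := mem_Q.1 hq
  exact hL.W_inv ρ (Or.inl ⟨h1, h2⟩) hw

/-- the trace on `V` is the trace on `W` -/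
theorem Loc.trace_eq [FiniteDimensional k V] (hL : Loc G a b c E z) {u : V}
    (hli : LinearIndependent k (fun q : Q G a b c => ρ q u))
    (hc : IsCompl (Submodule.span k (Set.range fun q : Q G a b c => ρ q u)) (fixE ρ E))
    {q : G} (hq : q ∈ Q G a b c) (hq1 : q ≠ 1) :
    LinearMap.trace k V (ρ q) = LinearMap.trace k (fixE ρ E)
      ((ρ q).restrict (p := fixE ρ E) (q := fixE ρ E) (fun _ hw => hL.W_invQ ρ hq hw)) := by
  classical
  have := hL.finQ
  have := Fintype.ofFinite (Q G a b c)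
  set M : Submodule k V := Submodule.span k (Set.range fun q : Q G a b c => ρ q u) with hM
  have hMq : ∀ m ∈ M, ρ q m ∈ M := by
    intro m hm
    induction hm using Submodule.span_induction with
    | mem x hx =>
      obtain ⟨r, rfl⟩ := hx
      change ρ q (ρ r u) ∈ M
      rw [← rho_mul]
      exact Submodule.subset_span ⟨⟨q * r, mul_mem hq r.2⟩, rfl⟩
    | zero => rw [map_zero]; exact M.zero_mem
    | add x y _ _ hx hy => rw [map_add]; exact M.add_mem hx hy
    | smul c x _ hx => rw [map_smul]; exact M.smul_mem _ hx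
  let N : Bool → Submodule k V := fun i => cond i M (fixE ρ E)
  have hN : DirectSum.IsInternal N := by
    rw [DirectSum.isInternal_submodule_iff_isCompl N (show true ≠ false by decide)
      (by ext i; cases i <;> simp)]
    exact hc
  have hmaps : ∀ i, Set.MapsTo (ρ q) (N i) (N i) := by
    intro i
    cases i
    · exact fun w hw => hL.W_invQ ρ hq hw
    · exact hMq
  rw [LinearMap.trace_eq_sum_trace_restrict hN hmaps, Fintype.sum_bool]
  have h0 : LinearMap.trace k (N true) ((ρ q).restrict (hmaps true)) = 0 := by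
    change LinearMap.trace k M ((ρ q).restrict (p := M) (q := M) hMq) = 0
    let B : Basis (Q G a b c) k M := Basis.span hli
    have hB : ∀ r, (B r : V) = ρ r u := fun r => congrArg Subtype.val (Basis.span_apply hli r)
    rw [LinearMap.trace_eq_matrix_trace k B, Matrix.trace]
    apply Finset.sum_eq_zero
    intro r _
    rw [Matrix.diag_apply, LinearMap.toMatrix_apply]
    have h1 : (ρ q).restrict (p := M) (q := M) hMq (B r) = B (⟨q, hq⟩ * r) := by
      apply Subtype.ext
      rw [LinearMap.coe_restrict_apply, hB, hB, ← rho_mul]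
      rfl
    rw [h1, Basis.repr_self, Finsupp.single_apply, if_neg]
    intro h2
    apply hq1
    exact congrArg Subtype.val (mul_eq_right.1 h2)
  rw [h0, zero_add]
  rfl

end Cfsg.Agent.H926.MEl
end

-- part: H926/MElFix
section
/-!
# The point stabiliser of `M₁₁` fixes a vector (helper926)

`exists_fixed` : `G` sharply 4-transitive on 11 points, `V` a faithful representation of dimension 10 over an algebraically
closed field of characteristic not 2, 3 with an invariant nondegenerate symmetric or alternating form: the stabiliser of a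
point fixes a nonzero vector.
-/

set_option autoImplicit false

namespace Cfsg.Agent.H926.MEl

open Module

variable {G X : Type*} [Group G] [MulAction G X] {a b c : X} {E : Subgroup G} {z : G}
variable {k : Type*} [Field k] {V : Type*} [AddCommGroup V] [Module k V] (ρ : G →* Module.End k V)
  {f : LinearMap.BilinForm k V}

/-- what we need from the decomposition -/
structure Dec (ρ : G →* Module.End k V) (a b c : X) (E : Subgroup G) (f : LinearMap.BilinForm k V) (u : V) : Prop where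
  li : LinearIndependent k (fun q : Q G a b c => ρ q u)
  cp : IsCompl (Submodule.span k (Set.range fun q : Q G a b c => ρ q u)) (fixE ρ E)
  orth : ∀ m ∈ Submodule.span k (Set.range fun q : Q G a b c => ρ q u), ∀ w ∈ fixE ρ E, f m w = 0
  two : finrank k (fixE ρ E : Submodule k V) = 2
  inv : ∀ g v w, f (ρ g v) (ρ g w) = f v w
  nd : ∀ v, (∀ w, f v w = 0) → v = 0
  ref : ∀ v w, f v w = 0 → f w v = 0

/-- `W` is nondegenerate -/
theorem Dec.ndW {u : V} (hD : Dec ρ a b c E f u) {w : V} (hw : w ∈ fixE ρ E) (h : ∀ w' ∈ fixE ρ E, f w w' = 0) :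
    w = 0 := by
  apply hD.nd
  intro v
  have h1 : v ∈ Submodule.span k (Set.range fun q : Q G a b c => ρ q u) ⊔ fixE ρ E := by
    rw [hD.cp.sup_eq_top]; trivial
  obtain ⟨m, hm, w', hw', rfl⟩ := Submodule.mem_sup.1 h1
  rw [map_add, hD.ref _ _ (hD.orth m hm w hw), h w' hw', add_zero]

/-- the `-1`-space of `z` on `W` is orthogonal only to the `1`-space -/
theorem Dec.ndMinus {u : V} (hD : Dec ρ a b c E f u) (hL : Loc G a b c E z) (h2 : (2 : k) ≠ 0) {w : V}
    (hw : w ∈ fixE ρ E) (hwz : ρ z w = -w) (h : ∀ w' ∈ fixE ρ E, ρ z w' = -w' → f w w' = 0) : w = 0 := by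
  apply hD.ndW ρ hw
  intro w' hw'
  have hz := hL.W_invQ ρ hL.zQ hw'
  have h1 : f w (w' - ρ z w') = 0 := by
    apply h _ ((fixE ρ E).sub_mem hw' hz)
    rw [map_sub, ← rho_mul, hL.zz, rho_one, neg_sub]
  have h3 : f w (w' + ρ z w') = 0 := by
    have h5 := hD.inv z w (w' + ρ z w')
    rw [map_add (ρ z), ← rho_mul, hL.zz, rho_one, hwz, LinearMap.BilinForm.neg_left, add_comm (ρ z w')] at h5
    have h6 : (2 : k) * f w (w' + ρ z w') = 0 := by linear_combination -h5
    exact (mul_eq_zero.1 h6).resolve_left h2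
  rw [LinearMap.BilinForm.sub_right] at h1
  rw [LinearMap.BilinForm.add_right] at h3
  have h5 : (2 : k) * f w w' = 0 := by linear_combination h1 + h3
  exact (mul_eq_zero.1 h5).resolve_left h2

theorem not_three [FiniteDimensional k V] {W : Submodule k V} (hW : finrank k W = 2) {x y w : V} (hx : x ∈ W)
    (hy : y ∈ W) (hw : w ∈ W) (hxx : f x x ≠ 0) (hyy : f y y ≠ 0) (hww : f w w ≠ 0) (hxy : f x y = 0) (hyx : f y x = 0)
    (hxw : f x w = 0) (hwx : f w x = 0) (hyw : f y w = 0) (hwy : f w y = 0) : False := by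
  have h1 : LinearIndependent k ![x, y, w] := by
    apply LinearMap.BilinForm.linearIndependent_of_iIsOrtho (B := f)
    · rw [LinearMap.BilinForm.iIsOrtho_def]
      intro i j hij
      fin_cases i <;> fin_cases j <;> simp_all only [_root_.ne_eq, _root_.Nat.succ_eq_add_one, _root_.Nat.reduceAdd, _root_.Fin.zero_eta, _root_.Fin.isValue, _root_.not_true_eq_false, _root_.Fin.mk_one, _root_.zero_ne_one, _root_.not_false_eq_true, _root_.Matrix.cons_val_zero, _root_.Matrix.cons_val_one, _root_.Fin.reduceFinMk, _root_.Fin.reduceEq, _root_.Matrix.cons_val, _root_.one_ne_zero]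
    · intro i
      fin_cases i <;> simp_all only [_root_.ne_eq, _root_.Nat.succ_eq_add_one, _root_.Nat.reduceAdd, _root_.Fin.zero_eta, _root_.Fin.isValue, _root_.Matrix.cons_val_zero, _root_.not_false_eq_true, _root_.Fin.mk_one, _root_.Matrix.cons_val_one, _root_.Fin.reduceFinMk, _root_.Matrix.cons_val]
  have h2 : LinearIndependent k ![(⟨x, hx⟩ : W), ⟨y, hy⟩, ⟨w, hw⟩] := by
    apply LinearIndependent.of_comp W.subtype
    convert h1 using 1
    ext i
    fin_cases i <;> rfl
  have h3 := h2.fintype_card_le_finrank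
  rw [hW, Fintype.card_fin] at h3
  omega

/-- **`z` acts trivially on `W`**, symmetric case -/
theorem Dec.z_triv_symm [FiniteDimensional k V] {u : V} (hD : Dec ρ a b c E f u) (hL : Loc G a b c E z)
    (h2 : (2 : k) ≠ 0) (hs : ∀ v w, f v w = f w v) {w : V} (hw : w ∈ fixE ρ E) : ρ z w = w := by
  by_contra hne
  have hz := hL.W_invQ ρ hL.zQ hw
  set w1 := w - ρ z w with hw1
  have hw1W : w1 ∈ fixE ρ E := (fixE ρ E).sub_mem hw hz
  have hw1z : ρ z w1 = -w1 := by
    rw [hw1, map_sub, ← rho_mul, hL.zz, rho_one, neg_sub]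
  have hw10 : w1 ≠ 0 := fun h => hne (sub_eq_zero.1 h).symm
  -- a nonisotropic vector in the -1-space
  obtain ⟨x, hx, hxz, hxx⟩ : ∃ x ∈ fixE ρ E, ρ z x = -x ∧ f x x ≠ 0 := by
    by_contra hcon
    push Not at hcon
    apply hw10
    apply hD.ndMinus ρ hL h2 hw1W hw1z
    intro w' hw' hw'z
    have h1 := hcon (w1 + w') ((fixE ρ E).add_mem hw1W hw') (by rw [map_add, hw1z, hw'z, neg_add])
    rw [LinearMap.BilinForm.add_left, LinearMap.BilinForm.add_right, LinearMap.BilinForm.add_right,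
      hcon w1 hw1W hw1z, hcon w' hw' hw'z, hs w' w1] at h1
    have h3 : (2 : k) * f w1 w' = 0 := by linear_combination h1
    exact (mul_eq_zero.1 h3).resolve_left h2
  have horth : ∀ q ∈ Q G a b c, q ≠ 1 → q ≠ z → f x (ρ q x) = 0 := by
    intro q hq hq1 hqz
    have h1 := hD.inv q x (ρ q x)
    rw [← rho_mul, hL.four q hq hq1 hqz, hxz, LinearMap.BilinForm.neg_right, hs] at h1
    have h3 : (2 : k) * f x (ρ q x) = 0 := by linear_combination -h1
    exact (mul_eq_zero.1 h3).resolve_left h2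
  obtain ⟨i, hi, hi1, hiz⟩ := hL.exists_i
  obtain ⟨j, hj, hj1, hjz, hji, hjiz⟩ := hL.exists_j i hi
  obtain ⟨-, -, h5, h6⟩ := hL.ij hi hi1 hiz hji hjiz
  have h7 : f (ρ i x) (ρ j x) = 0 := by
    have h8 := hD.inv i x (ρ (i⁻¹ * j) x)
    rw [← rho_mul, mul_inv_cancel_left] at h8
    rw [h8]
    exact horth _ (mul_mem (inv_mem hi) hj) h5 h6
  have hix := horth i hi hi1 hiz
  have hjx := horth j hj hj1 hjz
  exact not_three hD.two hx (hL.W_invQ ρ hi hx) (hL.W_invQ ρ hj hx) hxx (by rw [hD.inv]; exact hxx)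
    (by rw [hD.inv]; exact hxx) hix (by rw [hs]; exact hix) hjx (by rw [hs]; exact hjx) h7 (by rw [hs]; exact h7)

/-- **`z` acts trivially on `W`**, alternating case -/
theorem Dec.z_triv_alt [FiniteDimensional k V] {u : V} (hD : Dec ρ a b c E f u) (hL : Loc G a b c E z)
    (h2 : (2 : k) ≠ 0) (hs : ∀ v, f v v = 0) {w : V} (hw : w ∈ fixE ρ E) : ρ z w = w := by
  by_contra hne
  have hz := hL.W_invQ ρ hL.zQ hw
  set w1 := w - ρ z w with hw1
  have hw1W : w1 ∈ fixE ρ E := (fixE ρ E).sub_mem hw hz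
  have hw1z : ρ z w1 = -w1 := by
    rw [hw1, map_sub, ← rho_mul, hL.zz, rho_one, neg_sub]
  have hw10 : w1 ≠ 0 := fun h => hne (sub_eq_zero.1 h).symm
  obtain ⟨t, hta, htb, htt, htQ, q0, hq0, hq0t⟩ := hL.tau
  have htW : ∀ x ∈ fixE ρ E, ρ t x ∈ fixE ρ E := fun x hx => hL.W_inv ρ (Or.inr ⟨hta, htb⟩) hx
  have hti : t⁻¹ = t := inv_eq_of_mul_eq_one_right htt
  have htz : t * z = z * t := by
    have h1 : t * z * t⁻¹ = z := by
      apply hL.zu _ (htQ z hL.zQ)
      · calc t * z * t⁻¹ * (t * z * t⁻¹) = t * (z * z) * t⁻¹ := by group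
          _ = 1 := by rw [hL.zz]; group
      · intro h
        apply hL.z1
        have h2 : z = t⁻¹ * (t * z * t⁻¹) * t := by group
        rw [h2, h]; group
    calc t * z = (t * z * t⁻¹) * t := by group
      _ = z * t := by rw [h1]
  have htm : ∀ x, ρ z x = -x → ρ z (ρ t x) = -ρ t x := by
    intro x hx
    rw [← rho_mul, ← htz, rho_mul, hx, map_neg]
  have htt' : ∀ x, ρ t (ρ t x) = x := by
    intro x
    rw [← rho_mul, htt, rho_one]
  -- t is a scalar on the -1-space
  have hdich : (∀ x ∈ fixE ρ E, ρ z x = -x → ρ t x = x) ∨ (∀ x ∈ fixE ρ E, ρ z x = -x → ρ t x = -x) := by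
    by_contra hcon
    push Not at hcon
    obtain ⟨⟨y, hy, hyz, hyt⟩, ⟨x, hx, hxz, hxt⟩⟩ := hcon
    set p := x + ρ t x with hp
    set n := y - ρ t y with hn
    have hp0 : p ≠ 0 := fun h => hxt (eq_neg_of_add_eq_zero_right h)
    have hn0 : n ≠ 0 := fun h => hyt (sub_eq_zero.1 h).symm
    have htp : ρ t p = p := by rw [hp, map_add, htt', add_comm]
    have htn : ρ t n = -n := by rw [hn, map_sub, htt', neg_sub]
    have hpW : p ∈ fixE ρ E := (fixE ρ E).add_mem hx (htW x hx)
    have hnW : n ∈ fixE ρ E := (fixE ρ E).sub_mem hy (htW y hy)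
    have hpn : f p n = 0 := by
      have h1 := hD.inv t p n
      rw [htp, htn, LinearMap.BilinForm.neg_right] at h1
      have h3 : (2 : k) * f p n = 0 := by linear_combination -h1
      exact (mul_eq_zero.1 h3).resolve_left h2
    have hli : LinearIndependent k ![(⟨p, hpW⟩ : fixE ρ E), ⟨n, hnW⟩] := by
      rw [LinearIndependent.pair_iff]
      intro s r hsr
      have h1 : s • p + r • n = 0 := congrArg Subtype.val hsr
      have h3 : s • p - r • n = 0 := by
        have h5 := congrArg (ρ t) h1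
        rw [map_add, map_smul, map_smul, htp, htn, map_zero, smul_neg, ← sub_eq_add_neg] at h5
        exact h5
      have h5 : (2 * s) • p = 0 := by
        rw [mul_smul, two_smul]
        have := congrArg₂ (· + ·) h1 h3
        simp only [add_zero] at this
        rw [← this]; abel
      have hs0 : s = 0 := by
        rcases smul_eq_zero.1 h5 with h | h
        · exact (mul_eq_zero.1 h).resolve_left h2
        · exact absurd h hp0
      rw [hs0, zero_smul, zero_add] at h1
      exact ⟨hs0, (smul_eq_zero.1 h1).resolve_right hn0⟩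
    have hspan := hli.span_eq_top_of_card_eq_finrank' (by rw [hD.two, Fintype.card_fin])
    apply hp0
    apply hD.ndW ρ hpW
    intro w' hw'
    have h1 : (⟨w', hw'⟩ : fixE ρ E) ∈ Submodule.span k (Set.range ![(⟨p, hpW⟩ : fixE ρ E), ⟨n, hnW⟩]) := by
      rw [hspan]; trivial
    rw [Matrix.range_cons, Matrix.range_cons, Matrix.range_empty, Set.union_empty, Set.singleton_union,
      Submodule.mem_span_pair] at h1
    obtain ⟨s, r, hsr⟩ := h1
    have h3 : s • p + r • n = w' := congrArg Subtype.val hsr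
    rw [← h3, LinearMap.BilinForm.add_right, LinearMap.BilinForm.smul_right, LinearMap.BilinForm.smul_right, hs, hpn,
      mul_zero, mul_zero, add_zero]
  have hcomm : ∀ q ∈ Q G a b c, t * q * t⁻¹ = q := by
    intro q hq
    have hqz : z * q = q * z := by
      by_cases h1 : q = 1
      · rw [h1, mul_one, one_mul]
      · by_cases h3 : q = z
        · rw [h3]
        · rw [← hL.four q hq h1 h3, mul_assoc]
    have hqW : ρ q w1 ∈ fixE ρ E := hL.W_invQ ρ hq hw1W
    have hqm : ρ z (ρ q w1) = -ρ q w1 := by rw [← rho_mul, hqz, rho_mul, hw1z, map_neg]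
    have h1 : ρ (t * q * t⁻¹) w1 = ρ q w1 := by
      rw [hti, rho_mul, rho_mul]
      rcases hdich with h | h
      · rw [h w1 hw1W hw1z, h _ hqW hqm]
      · rw [h w1 hw1W hw1z, map_neg, map_neg, h _ hqW hqm, neg_neg]
    set r := q⁻¹ * (t * q * t⁻¹) with hr
    have hrQ : r ∈ Q G a b c := mul_mem (inv_mem hq) (htQ q hq)
    have hrw : ρ r w1 = w1 := by
      rw [hr, rho_mul, h1, ← rho_mul, inv_mul_cancel, rho_one]
    have hnot : ρ z w1 ≠ w1 := by
      intro h
      rw [h] at hw1z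
      have h3 : (2 : k) • w1 = 0 := by
        rw [two_smul]
        nth_rewrite 1 [hw1z]
        exact neg_add_cancel w1
      exact hw10 ((smul_eq_zero.1 h3).resolve_left h2)
    have hr1 : r = 1 := by
      by_contra h3
      by_cases h5 : r = z
      · rw [h5] at hrw; exact hnot hrw
      · apply hnot
        rw [← hL.four r hrQ h3 h5, rho_mul, hrw, hrw]
    exact (inv_mul_eq_one.1 hr1).symm
  apply hq0t
  calc t * q0 = (t * q0 * t⁻¹) * t := by group
    _ = q0 * t := by rw [hcomm q0 hq0]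

/-- **`Q` acts trivially on `W`** -/
theorem Dec.Q_triv [FiniteDimensional k V] {u : V} (hD : Dec ρ a b c E f u) (hL : Loc G a b c E z)
    (h2 : (2 : k) ≠ 0) (hz : ∀ w ∈ fixE ρ E, ρ z w = w) {q : G} (hq : q ∈ Q G a b c) {w : V} (hw : w ∈ fixE ρ E) :
    ρ q w = w := by
  let R : Q G a b c → Module.End k (fixE ρ E : Submodule k V) := fun q =>
    (ρ q).restrict (p := fixE ρ E) (q := fixE ρ E) (fun _ hw => hL.W_invQ ρ q.2 hw)
  have hR : ∀ (q : Q G a b c) (w : fixE ρ E), ((R q w : fixE ρ E) : V) = ρ q w := fun q w => rfl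
  have hRm : ∀ q r, R (q * r) = R q * R r := by
    intro q r
    apply LinearMap.ext
    intro w
    apply Subtype.ext
    rw [Module.End.mul_apply, hR, hR, hR, Subgroup.coe_mul, rho_mul]
  have hRz : R ⟨z, hL.zQ⟩ = 1 := by
    apply LinearMap.ext
    intro w
    apply Subtype.ext
    rw [hR]
    exact hz w w.2
  let B : Basis (Fin 2) k (fixE ρ E : Submodule k V) := finBasisOfFinrankEq k _ hD.two
  let Φ := LinearMap.toMatrixAlgEquiv B
  have hΦt : ∀ T : Module.End k (fixE ρ E : Submodule k V), (Φ T).trace = LinearMap.trace k _ T := by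
    intro T
    rw [LinearMap.trace_eq_matrix_trace k B]
    rfl
  have htr : ∀ q : Q G a b c, q ≠ 1 → LinearMap.trace k _ (R q) = LinearMap.trace k V (ρ q) := by
    intro q hq1
    exact (hL.trace_eq ρ hD.li hD.cp q.2 (fun h => hq1 (Subtype.ext h))).symm
  have hclass : ∀ i : Q G a b c, i ≠ 1 → (i : G) ≠ z → ∀ j : Q G a b c, j ≠ 1 → (j : G) ≠ z →
      (Φ (R i)).trace = (Φ (R j)).trace := by
    intro i hi1 hiz j hj1 hjz
    rw [hΦt, hΦt]
    obtain ⟨g, hg⟩ := hL.conj i i.2 (fun h => hi1 (Subtype.ext h)) hiz j j.2 (fun h => hj1 (Subtype.ext h)) hjz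
    have h1 : LinearMap.trace k V (ρ (g * i * g⁻¹)) = LinearMap.trace k V (ρ i) := by
      rw [ρ.map_mul, LinearMap.trace_mul_comm, ← ρ.map_mul, ← mul_assoc, inv_mul_cancel, one_mul]
    rcases hg with hg | hg
    · rw [htr i hi1, htr j hj1, ← h1, hg]
    · rw [htr i hi1, ← h1, hg]
      have h3 : (⟨(j : G) * z, mul_mem j.2 hL.zQ⟩ : Q G a b c) = j * ⟨z, hL.zQ⟩ := rfl
      have h4 : (j * ⟨z, hL.zQ⟩ : Q G a b c) ≠ 1 := by
        intro h
        apply hjz
        have h5 := congrArg Subtype.val h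
        have h6 : (j : G) * z = 1 := h5
        rw [eq_inv_of_mul_eq_one_left h6]
        exact inv_eq_of_mul_eq_one_right hL.zz
      have h5 := htr _ h4
      rw [hRm, hRz, mul_one] at h5
      exact h5.symm
  have key : ∀ i : Q G a b c, i ≠ 1 → (i : G) ≠ z → R i = 1 := by
    intro i hi1 hiz
    have hi1' : (i : G) ≠ 1 := fun h => hi1 (Subtype.ext h)
    obtain ⟨j, hj, hj1, hjz, hji, hjiz⟩ := hL.exists_j i i.2
    obtain ⟨h3, h4, -, -⟩ := hL.ij i.2 hi1' hiz hji hjiz
    have hsq : ∀ r : Q G a b c, (r : G) ≠ 1 → (r : G) ≠ z → R r * R r = 1 := by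
      intro r hr1 hrz
      rw [← hRm, show r * r = ⟨z, hL.zQ⟩ from Subtype.ext (hL.four r r.2 hr1 hrz), hRz]
    have hj1' : (⟨j, hj⟩ : Q G a b c) ≠ 1 := fun h => hj1 (congrArg Subtype.val h)
    have hij1 : i * ⟨j, hj⟩ ≠ 1 := fun h => h3 (congrArg Subtype.val h)
    have h5 := two_by_two h2 (A := Φ (R i)) (B := Φ (R ⟨j, hj⟩))
      (by rw [← map_mul, hsq i hi1' hiz, map_one])
      (by rw [← map_mul, hsq ⟨j, hj⟩ hj1 hjz, map_one])
      (by rw [← map_mul, ← hRm, ← map_mul, hsq _ h3 h4, map_one])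
      (hclass i hi1 hiz _ hj1' hjz)
      (by rw [← map_mul, ← hRm]; exact hclass _ hij1 h4 i hi1 hiz)
    exact Φ.injective (h5.trans (map_one Φ).symm)
  by_cases h1 : q = 1
  · rw [h1, rho_one]
  · by_cases h3 : q = z
    · rw [h3]; exact hz w hw
    · have h5 := key ⟨q, hq⟩ (fun h => h1 (congrArg Subtype.val h)) h3
      have h6 := congrArg (fun T : Module.End k (fixE ρ E : Submodule k V) => ((T ⟨w, hw⟩ : fixE ρ E) : V)) h5
      exact h6

open Cfsg.Agent.SporadicA.SharpFour in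
/-- the stabiliser of `a` is generated by the stabilisers of `a, b` and of `a, c` -/
theorem fixed_of_two [Fintype X] [DecidableEq X] (h4 : Sharp4 G X) (h11 : Fintype.card X = 11) {a b c : X}
    (hab : a ≠ b) (hac : a ≠ c) (hbc : b ≠ c) (S : Subgroup G) (hb : K G a b ≤ S) (hc : K G a c ≤ S) {h : G}
    (hh : h • a = a) : h ∈ S := by
  -- an element of S fixing a and mapping b to d
  have key : ∀ d, d ≠ a → ∃ s ∈ S, s • a = a ∧ s • b = d := by
    obtain ⟨d0, hd0⟩ := exists_other h11 {a, b, c} (lt_of_le_of_lt Finset.card_le_three (by norm_num))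
    simp only [Finset.mem_insert, Finset.mem_singleton, not_or] at hd0
    obtain ⟨hda, hdb, hdc⟩ := hd0
    -- K a b is transitive on the rest
    have h1 : ∀ x y : X, x ≠ a → x ≠ b → y ≠ a → y ≠ b → ∃ s ∈ S, s • a = a ∧ s • b = b ∧ s • x = y := by
      intro x y hxa hxb hya hyb
      by_cases hxy : x = y
      · exact ⟨1, one_mem _, one_smul _ _, one_smul _ _, by rw [one_smul, hxy]⟩
      · obtain ⟨g, h5, h6, h7, -⟩ := h4.exists_map a b x y a b y x
          (nodup4_iff.2 ⟨hab, Ne.symm hxa, Ne.symm hya, Ne.symm hxb, Ne.symm hyb, hxy⟩)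
          (nodup4_iff.2 ⟨hab, Ne.symm hya, Ne.symm hxa, Ne.symm hyb, Ne.symm hxb, Ne.symm hxy⟩)
        exact ⟨g, hb (mem_K.2 ⟨h5, h6⟩), h5, h6, h7⟩
    have h2 : ∃ s ∈ S, s • a = a ∧ s • b = d0 := by
      obtain ⟨g, h5, h6, h7, -⟩ := h4.exists_map a c b d0 a c d0 b
        (nodup4_iff.2 ⟨hac, hab, Ne.symm hda, hbc.symm, Ne.symm hdc, Ne.symm hdb⟩)
        (nodup4_iff.2 ⟨hac, Ne.symm hda, hab, Ne.symm hdc, hbc.symm, hdb⟩)
      exact ⟨g, hc (mem_K.2 ⟨h5, h6⟩), h5, h7⟩
    obtain ⟨s2, hs2, hs2a, hs2b⟩ := h2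
    intro d hd
    by_cases hdb' : d = b
    · exact ⟨1, one_mem _, one_smul _ _, by rw [one_smul, hdb']⟩
    · obtain ⟨s1, hs1, hs1a, -, hs1d⟩ := h1 d0 d hda hdb hd hdb'
      exact ⟨s1 * s2, mul_mem hs1 hs2, by rw [mul_smul, hs2a, hs1a], by rw [mul_smul, hs2b, hs1d]⟩
  obtain ⟨s, hs, hsa, hsb⟩ := key (h • b) (fun h1 => hab (MulAction.injective h (hh.trans h1.symm)))
  have h1 : s⁻¹ * h ∈ K G a b := by
    rw [mem_K, mul_smul, mul_smul, hh, inv_smul_eq_iff, inv_smul_eq_iff]
    exact ⟨hsa.symm, hsb.symm⟩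
  have h2 := mul_mem hs (hb h1)
  rwa [mul_inv_cancel_left] at h2

open Cfsg.Agent.SporadicA.SharpFour in
/-- **The stabiliser of a point fixes a nonzero vector.** -/
theorem exists_fixed [Finite G] [Fintype X] [DecidableEq X] (h4 : Sharp4 G X) (h11 : Fintype.card X = 11)
    [IsAlgClosed k] [FiniteDimensional k V] (h2 : (2 : k) ≠ 0) (h3 : (3 : k) ≠ 0) (h10 : finrank k V = 10)
    (hρ : Function.Injective ρ) (hf : ∀ g v w, f (ρ g v) (ρ g w) = f v w) (hnd : f.Nondegenerate)
    (hs : (∀ v w, f v w = f w v) ∨ (∀ v, f v v = 0)) (a : X) :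
    ∃ w : V, w ≠ 0 ∧ ∀ h : G, h • a = a → ρ h w = w := by
  obtain ⟨b, hb⟩ := exists_other h11 {a} (by simp)
  rw [Finset.mem_singleton] at hb
  obtain ⟨c, hc⟩ := exists_other h11 {a, b} (lt_of_le_of_lt Finset.card_le_two (by norm_num))
  simp only [Finset.mem_insert, Finset.mem_singleton, not_or] at hc
  have hab : a ≠ b := Ne.symm hb
  have hac : a ≠ c := Ne.symm hc.1
  have hbc : b ≠ c := Ne.symm hc.2
  obtain ⟨E, z, hL⟩ := exists_loc h4 h11 hab hac hbc
  have href : ∀ v w, f v w = 0 → f w v = 0 := by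
    intro v w h
    rcases hs with h1 | h1
    · rw [h1]; exact h
    · have h5 := h1 (v + w)
      rw [LinearMap.BilinForm.add_left, LinearMap.BilinForm.add_right, LinearMap.BilinForm.add_right, h1, h1, h,
        zero_add, zero_add, add_zero] at h5
      exact h5
  obtain ⟨u, hli, hcp, -, -, horth, hW2⟩ := hL.dec ρ h3 h10 hρ hf hnd
  have hnd' : ∀ v, (∀ w, f v w = 0) → v = 0 := fun v h => hnd.1 v h
  have hD : Dec ρ a b c E f u := ⟨hli, hcp, horth, hW2, hf, hnd', href⟩
  have hz : ∀ w ∈ fixE ρ E, ρ z w = w := by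
    intro w hw
    rcases hs with h | h
    · exact hD.z_triv_symm ρ hL h2 h hw
    · exact hD.z_triv_alt ρ hL h2 h hw
  have hQ : ∀ q ∈ Q G a b c, ∀ w ∈ fixE ρ E, ρ q w = w := fun q hq w hw => hD.Q_triv ρ hL h2 hz hq hw
  -- K a b fixes W
  have hK : ∀ g ∈ K G a b, ∀ w ∈ fixE ρ E, ρ g w = w := by
    intro g hg w hw
    obtain ⟨h5, h6⟩ := mem_K.1 hg
    obtain ⟨e, he, hec⟩ := hL.reg (g • c) (fun h => hac (MulAction.injective g (h5.trans h.symm)))
      (fun h => hbc (MulAction.injective g (h6.trans h.symm)))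
    have h7 : e⁻¹ * g ∈ Q G a b c := by
      obtain ⟨h8, h9⟩ := mem_K.1 (hL.EK he)
      rw [mem_Q, mul_smul, mul_smul, mul_smul, h5, h6, inv_smul_eq_iff, inv_smul_eq_iff, inv_smul_eq_iff]
      exact ⟨h8.symm, h9.symm, hec.symm⟩
    have h8 := hQ _ h7 w hw
    calc ρ g w = ρ e (ρ (e⁻¹ * g) w) := by rw [← rho_mul, mul_inv_cancel_left]
      _ = w := by rw [h8, hw e he]
  obtain ⟨g, hga, hgb, hgc, hgg⟩ := hL.swap
  have hgi : g⁻¹ = g := inv_eq_of_mul_eq_one_right hgg
  set M : Submodule k V := Submodule.span k (Set.range fun q : Q G a b c => ρ q u) with hM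
  -- the map W → M, w ↦ M-component of g w
  have := hL.finQ
  have := Fintype.ofFinite (Q G a b c)
  set m0 : V := ∑ q : Q G a b c, ρ q u with hm0
  have hMq : ∀ q ∈ Q G a b c, ∀ m ∈ M, ρ q m ∈ M := by
    intro q hq m hm
    induction hm using Submodule.span_induction with
    | mem x hx =>
      obtain ⟨r, rfl⟩ := hx
      change ρ q (ρ r u) ∈ M
      rw [← rho_mul]
      exact Submodule.subset_span ⟨⟨q * r, mul_mem hq r.2⟩, rfl⟩
    | zero => rw [map_zero]; exact M.zero_mem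
    | add x y _ _ hx hy => rw [map_add]; exact M.add_mem hx hy
    | smul c x _ hx => rw [map_smul]; exact M.smul_mem _ hx
  have hfixM : ∀ m ∈ M, (∀ q ∈ Q G a b c, ρ q m = m) → ∃ r : k, m = r • m0 := by
    intro m hm hq
    rw [hM, Submodule.mem_span_range_iff_exists_fun] at hm
    obtain ⟨co, hcm⟩ := hm
    refine ⟨co 1, ?_⟩
    have h5 : ∀ q : Q G a b c, co q = co 1 := by
      intro q
      have h6 : ∑ r : Q G a b c, co (q * r) • ρ r u = ∑ r : Q G a b c, co r • ρ r u := by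
        rw [hcm]
        have h7 := hq (q⁻¹ : Q G a b c) (q⁻¹ : Q G a b c).2
        conv_rhs => rw [← h7, ← hcm, map_sum]
        rw [← Equiv.sum_comp (Equiv.mulLeft q) (fun r : Q G a b c => ρ ((q⁻¹ : Q G a b c) : G) (co r • ρ r u))]
        refine Finset.sum_congr rfl fun r _ => ?_
        rw [Equiv.coe_mulLeft, map_smul, ← rho_mul, Subgroup.coe_mul, Subgroup.coe_inv, inv_mul_cancel_left]
      have h7 : ∑ r : Q G a b c, (co (q * r) - co r) • ρ r u = 0 := by
        simp only [sub_smul, Finset.sum_sub_distrib]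
        rw [h6, sub_self]
      have h8 := (Fintype.linearIndependent_iff.1 hli) _ h7 1
      rw [mul_one] at h8
      exact sub_eq_zero.1 h8
    rw [← hcm, hm0, Finset.smul_sum]
    exact Finset.sum_congr rfl fun q _ => by rw [h5 q]
  have hgQ : ∀ q ∈ Q G a b c, g * q * g⁻¹ ∈ Q G a b c := by
    intro q hq
    obtain ⟨h5, h6, h7⟩ := mem_Q.1 hq
    rw [mem_Q, hgi]
    refine ⟨?_, ?_, ?_⟩
    · rw [mul_smul, mul_smul, hga, h5, hga]
    · rw [mul_smul, mul_smul, hgb, h7, hgc]
    · rw [mul_smul, mul_smul, hgc, h6, hgb]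
  have hdecomp : ∀ w ∈ fixE ρ E, ∃ (r : k) (w' : V), w' ∈ fixE ρ E ∧ ρ g w = r • m0 + w' := by
    intro w hw
    have h5 : ρ g w ∈ M ⊔ fixE ρ E := by rw [hcp.sup_eq_top]; trivial
    obtain ⟨m, hm, w', hw', hmw⟩ := Submodule.mem_sup.1 h5
    have h6 : ∀ q ∈ Q G a b c, ρ q m = m := by
      intro q hq
      have h7 : ρ q (ρ g w) = ρ g w := by
        have h8 := hgQ q hq
        rw [hgi] at h8
        rw [← rho_mul, show q * g = g * (g * q * g) by
          rw [← mul_assoc, ← mul_assoc, hgg, one_mul], rho_mul, hQ _ h8 w hw]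
      rw [← hmw, map_add, hQ q hq w' hw'] at h7
      exact add_right_cancel h7
    obtain ⟨r, hr⟩ := hfixM m hm h6
    exact ⟨r, w', hw', by rw [← hmw, hr]⟩
  obtain ⟨w, hw, hw0, hgw⟩ : ∃ w ∈ fixE ρ E, w ≠ 0 ∧ ρ g w ∈ fixE ρ E := by
    let B : Basis (Fin 2) k (fixE ρ E : Submodule k V) := finBasisOfFinrankEq k _ hW2
    obtain ⟨r0, w0', hw0', h5⟩ := hdecomp (B 0) (B 0).2
    obtain ⟨r1, w1', hw1', h6⟩ := hdecomp (B 1) (B 1).2
    by_cases hr : r0 = 0
    · refine ⟨B 0, (B 0).2, fun h => B.ne_zero 0 (Subtype.ext h), ?_⟩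
      rw [h5, hr, zero_smul, zero_add]
      exact hw0'
    · refine ⟨r1 • (B 0 : V) - r0 • (B 1 : V), (fixE ρ E).sub_mem ((fixE ρ E).smul_mem _ (B 0).2)
        ((fixE ρ E).smul_mem _ (B 1).2), ?_, ?_⟩
      · intro h
        have h7 : r1 • B 0 + (-r0) • B 1 = 0 := by
          apply Subtype.ext
          rw [neg_smul, ← sub_eq_add_neg]
          exact h
        have h8 := Fintype.linearIndependent_iff.1 B.linearIndependent ![r1, -r0]
          (by rw [Fin.sum_univ_two]; exact h7) 1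
        exact hr (neg_eq_zero.1 h8)
      · rw [map_sub, map_smul, map_smul, h5, h6]
        have h7 : r1 • (r0 • m0 + w0') - r0 • (r1 • m0 + w1') = r1 • w0' - r0 • w1' := by
          rw [smul_add, smul_add, smul_smul, smul_smul, mul_comm r1 r0]
          abel
        rw [h7]
        exact (fixE ρ E).sub_mem ((fixE ρ E).smul_mem _ hw0') ((fixE ρ E).smul_mem _ hw1')
  refine ⟨w, hw0, fun h hh => ?_⟩
  let S : Subgroup G :=
    { carrier := {x | ρ x w = w}
      mul_mem' := fun {x y} hx hy => by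
        change ρ (x * y) w = w
        rw [rho_mul, show ρ y w = w from hy, show ρ x w = w from hx]
      one_mem' := rho_one ρ w
      inv_mem' := fun {x} hx => by
        change ρ x⁻¹ w = w
        have h5 : ρ x w = w := hx
        nth_rewrite 1 [← h5]
        rw [← rho_mul, inv_mul_cancel, rho_one] }
  have hS : h ∈ S := by
    apply fixed_of_two h4 h11 hab hac hbc S (fun x hx => hK x hx w hw) _ hh
    intro x hx
    obtain ⟨h5, h6⟩ := mem_K.1 hx
    change ρ x w = w
    have h7 : g * x * g ∈ K G a b := by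
      rw [mem_K]
      exact ⟨by rw [mul_smul, mul_smul, hga, h5, hga], by rw [mul_smul, mul_smul, hgb, h6, hgc]⟩
    have h8 := hK _ h7 _ hgw
    rw [← rho_mul, show g * x * g * g = g * x by rw [mul_assoc, hgg, mul_one], rho_mul] at h8
    exact rho_inj ρ g h8
  exact hS

end Cfsg.Agent.H926.MEl
end

-- part: H926/MElGeo
section
/-!
# `M₁₁` in dimension 10 : a vector fixed by the point stabiliser (helper926)

`fixed_of_form` : `P ≤ GL(ι, F)` sharply 4-transitive on 11 points, `|ι| = 10`, characteristic not 2, 3, `FixQ P` or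
`FixA P` : the stabiliser in `P` of a point fixes a nonzero vector.
-/

set_option autoImplicit false

namespace Cfsg.Agent.H926.MEl

open Cfsg Cfsg.Geo Matrix Module
open Cfsg.Agent.H915.LD

universe u v

variable {ι : Type} [Fintype ι] [DecidableEq ι] {F : Type u} [Field F]

omit [DecidableEq ι] in
/-- descent from an extension field -/
theorem descent {k : Type*} [Field k] [Algebra F k] {P : Set (Matrix ι ι F)} {w : ι → k} (hw : w ≠ 0)
    (h : ∀ g ∈ P, (g.map (algebraMap F k)) *ᵥ w = w) : ∃ v : ι → F, v ≠ 0 ∧ ∀ g ∈ P, g *ᵥ v = v := by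
  obtain ⟨i, hi⟩ : ∃ i, w i ≠ 0 := by
    by_contra hcon
    push Not at hcon
    exact hw (funext hcon)
  obtain ⟨φ, hφ⟩ := Module.Projective.exists_dual_ne_zero F hi
  refine ⟨fun j => φ (w j), fun h0 => hφ (congrFun h0 i), fun g hg => ?_⟩
  have h1 := h g hg
  ext j
  have h2 := congrFun h1 j
  rw [Matrix.mulVec, dotProduct] at h2 ⊢
  have h3 := congrArg φ h2
  rw [map_sum] at h3
  rw [← h3]
  refine Finset.sum_congr rfl fun l _ => ?_
  rw [Matrix.map_apply, ← Algebra.smul_def, map_smul, smul_eq_mul]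

open Cfsg.Agent.SporadicA.SharpFour in
theorem fixed_of_bilin {P : Subgroup (GL ι F)} [Finite P] {X : Type*} [MulAction P X] [Fintype X] [DecidableEq X]
    (h4 : Sharp4 P X) (h11 : Fintype.card X = 11) (hι : Fintype.card ι = 10) (h2 : (2 : F) ≠ 0) (h3 : (3 : F) ≠ 0)
    {f : (ι → F) → (ι → F) → F} (hb : IsBilinearForm f) (hn : IsNondegenerateForm f) (hfix : FixesForm (matrixSet P) f)
    (hs : (∀ v w, f v w = f w v) ∨ (∀ v w, f v w = - f w v)) (a : X) :
    ∃ w : ι → F, w ≠ 0 ∧ ∀ g : P, g • a = a → ((g : GL ι F) : Matrix ι ι F) *ᵥ w = w := by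
  let k := AlgebraicClosure F
  let α := algebraMap F k
  have hα : Function.Injective α := (algebraMap F k).injective
  have hk : ∀ n : ℕ, (n : F) ≠ 0 → (n : k) ≠ 0 := by
    intro n hn h
    apply hn
    apply hα
    rw [map_natCast, map_zero, h]
  have h2k : (2 : k) ≠ 0 := by exact_mod_cast hk 2 (by exact_mod_cast h2)
  have h3k : (3 : k) ≠ 0 := by exact_mod_cast hk 3 (by exact_mod_cast h3)
  let ρ : P →* Module.End k (ι → k) :=
    { toFun := fun g => Matrix.toLin' (((g : GL ι F) : Matrix ι ι F).map α)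
      map_one' := by
        rw [Subgroup.coe_one, Units.val_one, Matrix.map_one _ (map_zero α) (map_one α), Matrix.toLin'_one]
        rfl
      map_mul' := by
        intro g h
        rw [Subgroup.coe_mul, Units.val_mul, Matrix.map_mul, Matrix.toLin'_mul]
        rfl }
  have hρa : ∀ (g : P) (v : ι → k), ρ g v = (((g : GL ι F) : Matrix ι ι F).map α) *ᵥ v := fun g v => Matrix.toLin'_apply _ _
  have hρi : Function.Injective ρ := by
    intro g h hgh
    have h5 := Matrix.toLin'.injective hgh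
    exact Subtype.ext (Units.ext (Matrix.map_injective hα h5))
  let B : LinearMap.BilinForm F (ι → F) := LinearMap.mk₂ F f hb.add_left hb.smul_left hb.add_right hb.smul_right
  have hB : ∀ v w, B v w = f v w := fun v w => rfl
  let J := LinearMap.BilinForm.toMatrix' B
  have hJa : ∀ i j, J i j = f (Pi.single i 1) (Pi.single j 1) := fun i j => LinearMap.BilinForm.toMatrix'_apply _ _ _
  have hJ : ∀ g : P, ((g : GL ι F) : Matrix ι ι F)ᵀ * J * ((g : GL ι F) : Matrix ι ι F) = J := by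
    intro g
    have h5 : B.comp (Matrix.toLin' ((g : GL ι F) : Matrix ι ι F)) (Matrix.toLin' ((g : GL ι F) : Matrix ι ι F)) = B := by
      ext v w
      simp only [LinearMap.BilinForm.comp_apply, LinearMap.comp_apply, Matrix.toLin'_apply, hB]
      exact hfix _ ⟨g, g.2, rfl⟩ _ _
    have h6 := congrArg LinearMap.BilinForm.toMatrix' h5
    rwa [LinearMap.BilinForm.toMatrix'_comp, LinearMap.toMatrix'_toLin'] at h6
  let B' : LinearMap.BilinForm k (ι → k) := Matrix.toBilin' (J.map α)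
  have hB' : ∀ v w, B' v w = v ⬝ᵥ (J.map α) *ᵥ w := fun v w => Matrix.toBilin'_apply' _ _ _
  have hinv : ∀ g v w, B' (ρ g v) (ρ g w) = B' v w := by
    intro g v w
    rw [hB', hB', hρa, hρa, Matrix.mulVec_mulVec, Matrix.dotProduct_mulVec, Matrix.vecMul_mulVec, ← Matrix.mul_assoc,
      ← Matrix.transpose_map, ← Matrix.map_mul, ← Matrix.map_mul, hJ, ← Matrix.dotProduct_mulVec]
  have hdet : J.det ≠ 0 := by
    have h5 : B.Nondegenerate := by
      apply LinearMap.BilinForm.Nondegenerate.ofSeparatingLeft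
      intro v hv
      by_contra h0
      obtain ⟨-, w, hw⟩ := hn v h0
      exact hw (hv w)
    rw [← Matrix.toBilin'_toMatrix' B] at h5
    exact LinearMap.BilinForm.nondegenerate_toBilin'_iff_det_ne_zero.1 h5
  have hnd : B'.Nondegenerate := by
    apply LinearMap.BilinForm.nondegenerate_toBilin'_iff_det_ne_zero.2
    rw [show (J.map α).det = α J.det from (RingHom.map_det α J).symm]
    intro h
    exact hdet (hα (h.trans (map_zero α).symm))
  have hJs : ∀ ε : F, (∀ v w, f v w = ε * f w v) → ∀ v w, B' v w = α ε * B' w v := by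
    intro ε hε
    have h5 : J = ε • Jᵀ := by
      ext i j
      rw [Matrix.smul_apply, Matrix.transpose_apply, hJa, hJa, hε, smul_eq_mul]
    have h6 : J.map α = α ε • (J.map α)ᵀ := by
      ext i j
      have h7 := congrFun (congrFun h5 i) j
      rw [Matrix.map_apply, h7, Matrix.smul_apply, Matrix.smul_apply, smul_eq_mul, smul_eq_mul, map_mul,
        Matrix.transpose_apply, Matrix.transpose_apply, Matrix.map_apply]
    intro v w
    rw [hB', hB']
    nth_rewrite 1 [h6]
    rw [Matrix.smul_mulVec, dotProduct_smul, smul_eq_mul, Matrix.mulVec_transpose, dotProduct_comm v,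
      ← Matrix.dotProduct_mulVec]
  have hs' : (∀ v w, B' v w = B' w v) ∨ (∀ v, B' v v = 0) := by
    rcases hs with h | h
    · left
      have h5 := hJs 1 (fun v w => by rw [one_mul]; exact h v w)
      intro v w
      rw [h5, map_one, one_mul]
    · right
      intro v
      have h5 := hJs (-1) (fun v w => by rw [neg_one_mul]; exact h v w) v v
      rw [map_neg, map_one] at h5
      have h6 : (2 : k) * B' v v = 0 := by linear_combination h5
      exact (mul_eq_zero.1 h6).resolve_left h2k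
  obtain ⟨w, hw, hw'⟩ := exists_fixed ρ h4 h11 h2k h3k (by rw [Module.finrank_fintype_fun_eq_card, hι]) hρi hinv hnd hs' a
  obtain ⟨v, hv, hv'⟩ := descent (F := F) (k := k) (P := {g | ∃ x : P, x • a = a ∧ g = ((x : GL ι F) : Matrix ι ι F)}) hw
    (by
      rintro g ⟨x, hx, rfl⟩
      rw [← hρa]
      exact hw' x hx)
  exact ⟨v, hv, fun g hg => hv' _ ⟨g, hg, rfl⟩⟩

open Cfsg.Agent.SporadicA.SharpFour in
theorem fixed_of_form {P : Subgroup (GL ι F)} [Finite P] {X : Type*} [MulAction P X] [Fintype X] [DecidableEq X]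
    (h4 : Sharp4 P X) (h11 : Fintype.card X = 11) (hι : Fintype.card ι = 10) (h2 : (2 : F) ≠ 0) (h3 : (3 : F) ≠ 0)
    (hf : FixQ P ∨ FixA P) (a : X) :
    ∃ w : ι → F, w ≠ 0 ∧ ∀ g : P, g • a = a → ((g : GL ι F) : Matrix ι ι F) *ᵥ w = w := by
  rcases hf with ⟨Q, hQ, hfix⟩ | ⟨f, hf, hfix⟩
  · refine fixed_of_bilin h4 h11 hι h2 h3 hQ.polar_bilinear hQ.nondegenerate ?_ (Or.inl fun v w => ?_) a
    · intro s hs u v
      rw [QuadraticMap.polar, QuadraticMap.polar, ← Matrix.mulVec_add, hfix s hs, hfix s hs, hfix s hs]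
    · exact QuadraticMap.polar_comm Q v w
  · exact fixed_of_bilin h4 h11 hι h2 h3 hf.bilinear hf.nondegenerate hfix (Or.inr hf.skew) a

open Cfsg.Agent.SporadicA.SharpFour in
/-- **`M₁₁` in dimension 10, characteristic not 2, 3, self-dual**: `P` acts sharply 4-transitively on 11 points and the
stabiliser of each point fixes a nonzero vector. -/
theorem m11_fixed {P : Subgroup (GL ι F)} [Finite P] (hP : Spor.IsoM11 P) (hι : Fintype.card ι = 10)
    (h2 : (2 : F) ≠ 0) (h3 : (3 : F) ≠ 0) (hf : FixQ P ∨ FixA P) :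
    ∃ (X : Type u) (_ : Fintype X) (_ : DecidableEq X) (_ : MulAction P X), Fintype.card X = 11 ∧ Sharp4 P X ∧
      ∀ a : X, ∃ w : ι → F, w ≠ 0 ∧ ∀ g : P, g • a = a → ((g : GL ι F) : Matrix ι ι F) *ᵥ w = w := by
  obtain ⟨X, i1, i2, i3, h11, h4⟩ := Cfsg.Agent.SectRankFour.AutM11.exists_sharp4
    (Cfsg.Agent.UGT.End.MEleven.isM11 hP)
  exact ⟨X, i1, i2, i3, h11, h4, fun a => fixed_of_form h4 h11 hι h2 h3 hf a⟩

end Cfsg.Agent.H926.MEl
end

-- part: H926/MThKill
section
/-!
# `M₁₁` is not a residual socle of a maximal subgroup of `Ω₁₀^±(q)`, `q` odd (helper926)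

* `lines_of_inner` : the lines condition if all automorphisms of `P` are inner;
* `kill_of_fixed` : `P ≅ M₁₁`, a subgroup of index 11 with two double cosets fixing a vector: impossible;
* `m11_dead` : `Cx p Q H P`, `p ≠ 2`, `Soc P ≅ M₁₁` is impossible.
-/

set_option autoImplicit false

namespace Cfsg.Agent.H926.MTh

open Cfsg Cfsg.Geo Matrix Module
open Cfsg.Agent.H915.LD Cfsg.Agent.H933.O10

universe u

theorem lines_of_inner {ι : Type} [Fintype ι] [DecidableEq ι] {F : Type u} [Field F] {H P : Subgroup (GL ι F)}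
    (hPc : IsResidualCore H P)
    (hin : ∀ φ : P ≃* P, ∃ g : P, φ = MulAut.conj g) {h : GL ι F} (hh : h ∈ H) (v : ι → F) :
    ∃ g ∈ P, ∃ c : F, (h : Matrix ι ι F) *ᵥ v = c • ((g : Matrix ι ι F) *ᵥ v) := by
  let φ : P ≃* P :=
    { toFun := fun x => ⟨h * x * h⁻¹, hPc.normal h hh x x.2⟩
      invFun := fun x => ⟨h⁻¹ * x * h, by
        have h1 := hPc.normal h⁻¹ (inv_mem hh) x x.2
        rwa [inv_inv] at h1⟩
      left_inv := fun x => Subtype.ext (by change h⁻¹ * (h * x * h⁻¹) * h = x; group)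
      right_inv := fun x => Subtype.ext (by change h * (h⁻¹ * x * h) * h⁻¹ = x; group)
      map_mul' := fun x y => Subtype.ext (by change h * (x * y) * h⁻¹ = (h * x * h⁻¹) * (h * y * h⁻¹); group) }
  obtain ⟨g, hg⟩ := hin φ
  have hgh : (g : GL ι F)⁻¹ * h ∈ scalars ι F := by
    apply hPc.centralizer_scalar _ (mul_mem (inv_mem (hPc.le g.2)) hh)
    intro x hx
    have h1 := congrArg Subtype.val (DFunLike.congr_fun hg ⟨x, hx⟩)
    change h * x * h⁻¹ = (g : GL ι F) * x * (g : GL ι F)⁻¹ at h1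
    have h2 : (g : GL ι F)⁻¹ * h * x * ((g : GL ι F)⁻¹ * h)⁻¹ * x⁻¹ = 1 := by
      calc (g : GL ι F)⁻¹ * h * x * ((g : GL ι F)⁻¹ * h)⁻¹ * x⁻¹
          = (g : GL ι F)⁻¹ * (h * x * h⁻¹) * (g : GL ι F) * x⁻¹ := by group
        _ = 1 := by rw [h1]; group
    rw [h2]
    exact one_mem _
  rw [mem_scalars_iff] at hgh
  obtain ⟨c, hc⟩ := hgh
  refine ⟨g, g.2, c, ?_⟩
  have h3 : (h : Matrix ι ι F) = ((g : GL ι F) : Matrix ι ι F) * (((g : GL ι F)⁻¹ * h : GL ι F) : Matrix ι ι F) := by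
    rw [← Units.val_mul, mul_inv_cancel_left]
  rw [h3, hc, ← Matrix.mulVec_mulVec, Matrix.smul_mulVec, Matrix.one_mulVec, Matrix.mulVec_smul]

variable {F : Type u} [Field F] [Finite F] {p : ℕ} {Q : (Fin 10 → F) → F} {H P : Subgroup (GL (Fin 10) F)}

theorem kill_of_fixed (h : Cx p Q H P) (hP : Spor.IsoM11 P) {K : Subgroup P} (hK : K.index = 11) {v0 : Fin 10 → F}
    (h0 : v0 ≠ 0) (hfix : ∀ k ∈ K, ((k : GL (Fin 10) F) : Matrix (Fin 10) (Fin 10) F) *ᵥ v0 = v0)
    (hdc : ∀ g ∉ K, ∀ g' ∉ K, ∃ k ∈ K, ∃ k' ∈ K, g' = k * g * k') : False := by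
  obtain ⟨⟨e⟩, -, -⟩ := h.eleven hK h0 hfix hdc
    (fun x hx => lines_of_inner h.hc (Cfsg.Agent.UGT.End.MEleven.inner hP) hx v0)
  obtain ⟨f⟩ := hP
  have hc1 : Nat.card P = 7920 := (Cfsg.Agent.UGT.End.MEleven.isM11 ⟨f⟩).2
  have hc2 : Nat.card (alternatingGroup (Fin 11)) ≤ Nat.card P := by
    rw [← Nat.card_congr e.toEquiv]
    exact Nat.card_le_card_of_surjective _ (toSoc_surjective P)
  rw [hc1, Nat.card_eq_fintype_card] at hc2
  have hc3 := two_mul_card_alternatingGroup (α := Fin 11)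
  rw [Fintype.card_perm, Fintype.card_fin] at hc3
  have hc4 : Nat.factorial 11 = 39916800 := rfl
  omega

/-- `M₁₁`, characteristic 3 -/
theorem m11_dead_three (h : Cx p Q H P) (hp : p = 3) (hP : Spor.IsoM11 P) : False := by
  subst hp
  haveI := h.char
  have h3 : (3 : F) = 0 := by
    have := CharP.cast_eq_zero F 3
    exact_mod_cast this
  have h2 : (2 : F) ≠ 0 := by
    intro h2
    have : (1 : F) = 0 := by linear_combination h3 - h2
    exact one_ne_zero this
  have hP' := hP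
  obtain ⟨e⟩ := hP'
  obtain ⟨v0, hv0, hfix⟩ := fixed_three h.core.absIrred.1 e (Fintype.card_fin 10) h3 h2 h.fixQ
  have hidx : (MTh.K.comap e.toMonoidHom).index = 11 := by
    rw [Subgroup.index_comap_of_surjective _ e.surjective]
    exact index_K
  refine kill_of_fixed h hP hidx hv0 (fun k hk => hfix k hk) ?_
  intro g hg g' hg'
  obtain ⟨k, hk, k', hk', hgk⟩ := double_K (g := e g) (g' := e g') hg hg'
  refine ⟨e.symm k, ?_, e.symm k', ?_, ?_⟩
  · change e (e.symm k) ∈ MTh.K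
    rwa [MulEquiv.apply_symm_apply]
  · change e (e.symm k') ∈ MTh.K
    rwa [MulEquiv.apply_symm_apply]
  · apply e.injective
    rw [hgk, map_mul, map_mul, MulEquiv.apply_symm_apply, MulEquiv.apply_symm_apply]

open Cfsg.Agent.SporadicA.SharpFour Cfsg.Agent.H926.MEl in
/-- `M₁₁`, characteristic at least 5 -/
theorem m11_dead_ne (h : Cx p Q H P) (h2 : (2 : F) ≠ 0) (h3 : (3 : F) ≠ 0) (hP : Spor.IsoM11 P) : False := by
  obtain ⟨X, i1, i2, i3, h11, h4, hfix⟩ := m11_fixed hP (Fintype.card_fin 10) h2 h3 (Or.inl h.fixQ)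
  obtain ⟨a⟩ : Nonempty X := by
    rw [← Fintype.card_pos_iff, h11]; norm_num
  obtain ⟨v0, hv0, hK⟩ := hfix a
  have htr : ∀ x : X, ∃ g : P, g • a = x := by
    intro x
    obtain ⟨b, hb⟩ := exists_other h11 {a} (by simp)
    obtain ⟨c, hc⟩ := exists_other h11 {a, b} (lt_of_le_of_lt Finset.card_le_two (by norm_num))
    obtain ⟨d, hd⟩ := exists_other h11 {a, b, c} (lt_of_le_of_lt Finset.card_le_three (by norm_num))
    obtain ⟨b', hb'⟩ := exists_other h11 {x} (by simp)
    obtain ⟨c', hc'⟩ := exists_other h11 {x, b'} (lt_of_le_of_lt Finset.card_le_two (by norm_num))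
    obtain ⟨d', hd'⟩ := exists_other h11 {x, b', c'} (lt_of_le_of_lt Finset.card_le_three (by norm_num))
    simp only [Finset.mem_insert, Finset.mem_singleton, not_or] at hb hc hd hb' hc' hd'
    obtain ⟨g, hg, -⟩ := h4.exists_map a b c d x b' c' d'
      (nodup4_iff.2 ⟨Ne.symm hb, Ne.symm hc.1, Ne.symm hd.1, Ne.symm hc.2, Ne.symm hd.2.1, Ne.symm hd.2.2⟩)
      (nodup4_iff.2 ⟨Ne.symm hb', Ne.symm hc'.1, Ne.symm hd'.1, Ne.symm hc'.2, Ne.symm hd'.2.1, Ne.symm hd'.2.2⟩)
    exact ⟨g, hg⟩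
  have htr2 : ∀ x y : X, x ≠ a → y ≠ a → ∃ g : P, g • a = a ∧ g • x = y := by
    intro x y hx hy
    obtain ⟨c, hc⟩ := exists_other h11 {a, x} (lt_of_le_of_lt Finset.card_le_two (by norm_num))
    obtain ⟨d, hd⟩ := exists_other h11 {a, x, c} (lt_of_le_of_lt Finset.card_le_three (by norm_num))
    obtain ⟨c', hc'⟩ := exists_other h11 {a, y} (lt_of_le_of_lt Finset.card_le_two (by norm_num))
    obtain ⟨d', hd'⟩ := exists_other h11 {a, y, c'} (lt_of_le_of_lt Finset.card_le_three (by norm_num))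
    simp only [Finset.mem_insert, Finset.mem_singleton, not_or] at hc hd hc' hd'
    obtain ⟨g, hg, hg', -⟩ := h4.exists_map a x c d a y c' d'
      (nodup4_iff.2 ⟨Ne.symm hx, Ne.symm hc.1, Ne.symm hd.1, Ne.symm hc.2, Ne.symm hd.2.1, Ne.symm hd.2.2⟩)
      (nodup4_iff.2 ⟨Ne.symm hy, Ne.symm hc'.1, Ne.symm hd'.1, Ne.symm hc'.2, Ne.symm hd'.2.1, Ne.symm hd'.2.2⟩)
    exact ⟨g, hg, hg'⟩
  have hidx : (MulAction.stabilizer P a).index = 11 := by
    rw [MulAction.index_stabilizer, show MulAction.orbit P a = Set.univ by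
      rw [Set.eq_univ_iff_forall]
      intro x
      obtain ⟨g, hg⟩ := htr x
      exact ⟨g, hg⟩, Set.ncard_univ, Nat.card_eq_fintype_card, h11]
  refine kill_of_fixed h hP hidx hv0 (fun k hk => hK k hk) ?_
  intro g hg g' hg'
  rw [MulAction.mem_stabilizer_iff] at hg hg'
  obtain ⟨k, hk, hk'⟩ := htr2 (g • a) (g' • a) hg hg'
  refine ⟨k, hk, (k * g)⁻¹ * g', ?_, by group⟩
  rw [MulAction.mem_stabilizer_iff, mul_smul, ← hk', ← mul_smul k g, inv_smul_smul]

/-- **The row `M₁₁`, odd characteristic.** -/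
theorem m11_dead (h : Cx p Q H P) (hp : p ≠ 2) (hP : Spor.IsoM11 (Soc P)) : False := by
  haveI := h.char
  haveI : Fact p.Prime := ⟨h.prime⟩
  have hP' : Spor.IsoM11 P := by
    obtain ⟨e⟩ := hP
    obtain ⟨e', -⟩ := h.core.equiv_of_coprime e S2034.result (by
      rw [Nat.card_eq_fintype_card, Fintype.card_multiplicative, ZMod.card]
      exact Nat.coprime_one_left _)
    exact ⟨e'⟩
  by_cases hp3 : p = 3
  · exact m11_dead_three h hp3 hP'
  · refine m11_dead_ne h ?_ ?_ hP'
    · intro h2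
      have h4 : ((2 : ℕ) : F) = 0 := by exact_mod_cast h2
      rw [CharP.cast_eq_zero_iff F p] at h4
      exact hp ((Nat.prime_dvd_prime_iff_eq h.prime Nat.prime_two).1 h4)
    · intro h3
      have h4 : ((3 : ℕ) : F) = 0 := by exact_mod_cast h3
      rw [CharP.cast_eq_zero_iff F p] at h4
      exact hp3 ((Nat.prime_dvd_prime_iff_eq h.prime Nat.prime_three).1 h4)

end Cfsg.Agent.H926.MTh
end

-- part: H36/M12/KillTwo
section
/-!
# `M₁₂` is no residual core in `Ω₁₀^±(q)`, `q` even (helper36)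
-/

set_option autoImplicit false
set_option maxRecDepth 100000

namespace Cfsg.Agent.H36.M12

open Cfsg Cfsg.Geo Module Cfsg.Agent.H915.LD Cfsg.Agent.H933.O10 Cfsg.Agent.CoThreeStd.MTwelve
open Cfsg.Agent.SporadicStructure.M11InvPerms Cfsg.Agent.CoThreeStd.OutAut Cfsg.Agent.H932.Mt
open Cfsg.Agent.ClassicalGeometry
open scoped Matrix

local notation "αα" => Cfsg.Agent.CoThreeStd.OutAut.alpha

universe u

variable {F : Type u} [Field F] {p : ℕ} {Q : (Fin 10 → F) → F} {H P : Subgroup (GL (Fin 10) F)}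

/-- the dimension of the fixed space of an involution inverting a fixed-point-free element -/
theorem fix_five (c2 : (2 : F) = 0) {V : Type*} [AddCommGroup V] [Module F V] [FiniteDimensional F V]
    (hd : finrank F V = 10) (A Y Z : Module.End F V) (hA : ∀ v, A (A v) = v) (hZY : ∀ v, Z (Y v) = v)
    (hAY : ∀ v, A (Y v) = Z (A v)) (h11 : ∀ v, Y (Y (Y (Y (Y (Y (Y (Y (Y (Y (Y v)))))))))) = v)
    (h0 : ∀ v, Y v = v → v = 0) : finrank F (es A 1) = 5 := by
  have hinj : ∀ v, Y v = 0 → v = 0 := fun v hv => by rw [← hZY v, hv, map_zero]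
  have h1 : finrank F (es A 1) ≤ finrank F (es (A * Y) 1) := by
    refine le_of_inj (Y * Y * Y * Y * Y) ?_ ?_
    · intro v hv
      rw [mem_es_one] at hv ⊢
      simp only [Module.End.mul_apply]
      -- `A Y⁶ v = Z⁶ A v = Z⁶ v = Y⁵ v`
      rw [hAY, hAY, hAY, hAY, hAY, hAY, hv]
      nth_rewrite 1 [← h11 v]
      rw [hZY, hZY, hZY, hZY, hZY, hZY]
    · intro v _ hv
      simp only [Module.End.mul_apply] at hv
      exact hinj _ (hinj _ (hinj _ (hinj _ (hinj _ hv))))
  have h2 : es A 1 ⊓ es (A * Y) 1 = ⊥ := by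
    rw [eq_bot_iff]
    rintro v ⟨hv, hv'⟩
    rw [SetLike.mem_coe, mem_es_one] at hv hv'
    rw [Module.End.mul_apply] at hv'
    rw [Submodule.mem_bot]
    apply h0
    have h3 := hA (Y v)
    rw [hv', hv] at h3
    exact h3.symm
  have h3 := Submodule.finrank_sup_add_finrank_inf_eq (es A 1) (es (A * Y) 1)
  rw [h2, finrank_bot] at h3
  have h4 := Submodule.finrank_le (es A 1 ⊔ es (A * Y) 1)
  have h5 : LinearMap.range (A - 1) ≤ es A 1 := by
    rintro _ ⟨v, rfl⟩
    rw [mem_es_one, LinearMap.sub_apply, map_sub, hA, Module.End.one_apply]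
    have h6 : v - A v - (A v - v) = (2 : F) • (v - A v) := by rw [two_smul]; abel
    rw [← sub_eq_zero, h6, c2, zero_smul]
  have h6 : LinearMap.ker (A - 1) = es A 1 := by
    ext v
    rw [LinearMap.mem_ker, LinearMap.sub_apply, sub_eq_zero, Module.End.one_apply, mem_es_one]
  have h7 := LinearMap.finrank_range_add_finrank_ker (A - 1)
  rw [h6] at h7
  have h8 := Submodule.finrank_mono h5
  omega

theorem no_outer_two [Finite F] (h : Cx p Q H P) (e : P ≃* Spor.M12) (c2 : (2 : F) = 0) {x : GL (Fin 10) F} (hx : x ∈ H)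
    {m0 : Spor.M12} (hm : ∀ m, th e h.hc.normal hx m = αα (m0 * m * m0⁻¹)) : False := by
  -- the normalised element
  obtain ⟨x', hx', hc⟩ : ∃ x' ∈ H, ∀ m, x' * (e.symm m : GL (Fin 10) F) * x'⁻¹ = (e.symm (αα m) : GL (Fin 10) F) := by
    refine ⟨x * (e.symm m0 : GL (Fin 10) F)⁻¹, H.mul_mem hx (H.inv_mem (h.hc.le (e.symm m0).2)), fun m => ?_⟩
    have h1 := th_coe e h.hc.normal hx (m0⁻¹ * m * m0)
    rw [hm, show m0 * (m0⁻¹ * m * m0) * m0⁻¹ = m by group] at h1
    rw [h1]
    simp only [map_mul, map_inv, Subgroup.coe_mul, Subgroup.coe_inv]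
    group
  have hx2 : x' * x' = 1 := by
    obtain ⟨c, hc2, hc1⟩ := cent_H h (y := x' * x') (H.mul_mem hx' hx') (by
      intro g hg
      have h1 := hc (e ⟨g, hg⟩)
      rw [MulEquiv.symm_apply_apply] at h1
      have h2 := hc (αα (e ⟨g, hg⟩))
      rw [alpha_alpha, MulEquiv.symm_apply_apply, ← h1] at h2
      change x' * (x' * g * x'⁻¹) * x'⁻¹ = g at h2
      refine Eq.trans ?_ h2
      group)
    have h3 : c = 1 := by
      have h4 : (c - 1) * (c - 1) = 0 := by linear_combination hc2 - (c - 1) * c2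
      exact sub_eq_zero.1 (mul_self_eq_zero.1 h4)
    apply Units.ext
    rw [hc1, h3, one_smul]
    rfl
  set k : GL (Fin 10) F := (e.symm me : GL (Fin 10) F) with hk
  set y : GL (Fin 10) F := (e.symm xe : GL (Fin 10) F) with hy
  have hτ : x' * k ∈ H := H.mul_mem hx' (h.hc.le (e.symm me).2)
  have t1 : x' * k * (x' * k) = 1 := by
    have h1 := hc me
    have h2 : (e.symm (αα me) : GL (Fin 10) F) * k = 1 := by
      rw [hk, ← Subgroup.coe_mul, ← map_mul, al_me, map_one]; rfl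
    rw [← h1] at h2
    have h3 : x'⁻¹ = x' := inv_eq_of_mul_eq_one_left hx2
    rw [h3] at h2
    rw [← h2]
    simp only [mul_assoc]
    rfl
  have t2 : x' * k * y = y⁻¹ * (x' * k) := by
    have h1 := hc (me * xe * me⁻¹)
    have h2 : αα (me * xe * me⁻¹) = xe⁻¹ := eq_inv_of_mul_eq_one_left al_xe
    rw [h2] at h1
    simp only [map_mul, map_inv, Subgroup.coe_mul, Subgroup.coe_inv] at h1
    rw [← hk, ← hy] at h1
    rw [← h1]
    group
  have y11 : y ^ 11 = 1 := by rw [hy, ← Subgroup.coe_pow, ← map_pow, xe_pow, map_one]; rfl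
  have y1 : y ≠ 1 := by
    intro h1
    apply xe_ne
    have h2 : e.symm xe = 1 := Subtype.ext h1
    exact (map_eq_one_iff e.symm e.symm.injective).1 h2
  have yc : (e.symm ye : GL (Fin 10) F) * y * (e.symm ye : GL (Fin 10) F)⁻¹ = y ^ 3 := by
    rw [mul_inv_eq_iff_eq_mul, hy, ← Subgroup.coe_pow, ← map_pow, ← Subgroup.coe_mul, ← Subgroup.coe_mul, ← map_mul,
      ← map_mul, yx]
  have nofix : ∀ v : Fin 10 → F, (y : Matrix (Fin 10) (Fin 10) F) *ᵥ v = v → v = 0 := by
    intro v hv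
    refine no_fixed_eleven (by rw [Fintype.card_fin]) ?_ h.hQ (h.le_omega (e.symm xe).2) y11 y1 yc v hv
    intro h0
    exact one_ne_zero (α := F) (by linear_combination h0 - 5 * c2)
  -- the fixed space
  have mul : ∀ (a b : GL (Fin 10) F) (v : Fin 10 → F), ((a * b : GL (Fin 10) F) : Matrix (Fin 10) (Fin 10) F) *ᵥ v =
      (a : Matrix (Fin 10) (Fin 10) F) *ᵥ ((b : Matrix (Fin 10) (Fin 10) F) *ᵥ v) := fun a b v => by
    rw [Units.val_mul, Matrix.mulVec_mulVec]
  have one : ∀ v : Fin 10 → F, ((1 : GL (Fin 10) F) : Matrix (Fin 10) (Fin 10) F) *ᵥ v = v := fun v => by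
    rw [Units.val_one, Matrix.one_mulVec]
  have h5 := fix_five c2 finrank_ten (Matrix.mulVecLin ((x' * k : GL (Fin 10) F) : Matrix (Fin 10) (Fin 10) F))
    (Matrix.mulVecLin (y : Matrix (Fin 10) (Fin 10) F)) (Matrix.mulVecLin ((y⁻¹ : GL (Fin 10) F) : Matrix (Fin 10) (Fin 10) F))
    (fun v => by rw [Matrix.mulVecLin_apply, Matrix.mulVecLin_apply, ← mul, t1, one])
    (fun v => by rw [Matrix.mulVecLin_apply, Matrix.mulVecLin_apply, ← mul, inv_mul_cancel, one])
    (fun v => by rw [Matrix.mulVecLin_apply, Matrix.mulVecLin_apply, Matrix.mulVecLin_apply, Matrix.mulVecLin_apply,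
      ← mul, t2, mul])
    (fun v => by
      simp only [Matrix.mulVecLin_apply, ← mul]
      have h6 : y * (y * (y * (y * (y * (y * (y * (y * (y * (y * y))))))))) = y ^ 11 := by
        simp only [pow_succ, pow_zero, one_mul, mul_assoc]
      rw [h6, y11, one])
    nofix
  -- the Dickson invariant
  obtain ⟨R, hR, -⟩ := H883.Bridge.exists_quadraticForm h.hQ
  have hτΩ := h.hH.1.le hτ
  subst hR
  obtain ⟨g, hg, hgτ⟩ := hτΩ
  have hnd : (QuadraticMap.polarBilin R).Nondegenerate := by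
    have hl : ∀ x, (∀ y, QuadraticMap.polarBilin R x y = 0) → x = 0 := by
      intro x hx
      by_contra hx0
      obtain ⟨-, z, hz⟩ := h.hQ.nondegenerate x hx0
      exact hz (hx z)
    exact ⟨hl, fun y hy => hl y fun x => by
      have := hy x
      rw [QuadraticMap.polarBilin_apply_apply] at this ⊢
      rwa [QuadraticMap.polar_comm]⟩
  have h6 := OrthDickson.dsign_eq_one_of_mem_commutator R hnd (Or.inr (by rw [Fintype.card_fin]; norm_num)) g hg
  rw [OrthDickson.dsign_def] at h6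
  have h7 : OrthCharTwo.fixSp g = es (Matrix.mulVecLin ((x' * k : GL (Fin 10) F) : Matrix (Fin 10) (Fin 10) F)) 1 := by
    ext v
    rw [OrthCharTwo.mem_fixSp, mem_es_one, OrthCharTwo.act_def, Matrix.mulVecLin_apply, ← hgτ]
    rfl
  rw [h7, h5, Fintype.card_fin] at h6
  exact absurd h6 (by decide)

/-- **`M₁₂` is not a residual core in `Ω₁₀^±(q)`.** -/
theorem o10_m12 [Finite F] (h : Cx p Q H P) (e : Spor.IsoM12 (Soc P)) : False := by
  rcases H6.M11.m12_cases h.core e with ⟨⟨e'⟩⟩ | ⟨-, -, h2, z, hz⟩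
  · by_cases c2 : (2 : F) = 0
    · obtain ⟨f, hf, hnd, hs⟩ := exists_form h
      obtain ⟨W, hW⟩ := exists_fam_two (RR e') c2 (irr_RR h.core e') finrank_ten f
        ⟨hnd, fun y hy => hnd y fun x => by rw [hs]; exact hy x⟩ (fun g x y => by
          rw [hf, hf, RR_apply, RR_apply]
          exact polar_mulVec (h.le_omega (e'.symm g).2) x y)
      refine final h e' hW (fun x hx => ?_) e
      rcases th_cases (th e' h.hc.normal hx) with h1 | ⟨m0, hm0⟩
      · exact h1
      · exact (no_outer_two h e' c2 hx hm0).elim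
    · exact kill_odd h e' c2 e
  · obtain ⟨e'⟩ := e
    exact no_double h e' h2 hz

end Cfsg.Agent.H36.M12
end

-- part: H932/O10Own
section
/-!
# S5848 and S5851: the own characteristic half (helper932)

* `own_ten` : `H` maximal in `omegaGL Q`, `dim = 10`, with core `P` of Lie type in the characteristic of `F` : the
  conclusion of the two statements (`PSp_4(q)`).
-/

set_option autoImplicit false
set_option linter.unusedSectionVars false

namespace Cfsg.Agent.H932.O10

open Cfsg Cfsg.Geo Matrix Cfsg.Agent.H915.LD Cfsg.Agent.H933.O10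
open Cfsg.Agent.H925.Nat

universe u

variable {F : Type u} [Field F] [Fintype F] {p : ℕ} {Q : (Fin 10 → F) → F} {H P : Subgroup (GL (Fin 10) F)}

theorem two_ne_of_odd {K : Type} [Field K] [Fintype K] (hodd : Odd (Fintype.card K)) : (2 : K) ≠ 0 := by
  intro h0
  haveI : CharP K 2 := CharTwo.of_one_ne_zero_of_two_eq_zero one_ne_zero h0
  have h4 := FiniteField.cast_card_eq_zero K
  have h5 := (CharP.cast_eq_zero_iff K 2 _).1 h4
  exact (Nat.not_even_iff_odd.2 hodd) (even_iff_two_dvd.2 h5)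

/-- `PSL(m, K)` -/
theorem row_psl (h : Cx p Q H P) (K : Type) [Field K] [Fintype K] [CharP K p] (m : ℕ) (hm : 3 ≤ m)
    (he : Nonempty (Soc P ≃* ProjectiveSpecialLinearGroup (Fin m) K)) : False := by
  have hpf := Fact.mk h.prime
  have hch := h.char
  have hC := h.core
  obtain ⟨e⟩ := he
  obtain ⟨l, rfl⟩ : ∃ l, m = l + 1 := ⟨m - 1, by omega⟩
  have h4 : l = 1 → 4 ≤ Nat.card K := fun h => by omega
  have hr := H905.Md.psl_rank p hC.absIrred hC.perfect (by omega) h4 e
  rw [Fintype.card_fin] at hr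
  rcases (show l + 1 = 10 ∨ l + 1 < 10 by omega) with h10 | h10
  · have h1 := (H905.Md.psl_eq p hC.absIrred hC.perfect (by omega) h4 e hC.no_subfield h10.symm).2
    have h2 : omegaGL Q ≤ H := (H922.omegaGL_le_specialLinear Q).trans (h1 ▸ h.hc.le)
    exact absurd h.hH.1 (not_lt_of_ge h2)
  · have h7 := H887.DS.dim_cases p hC (m := l + 1) (by omega) (by rw [Fintype.card_fin]; exact h10)
      (by rw [Fintype.card_fin]; norm_num) e
    rw [Fintype.card_fin] at h7
    rcases (show l = 2 ∨ l = 3 ∨ l = 4 by omega) with rfl | rfl | rfl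
    · have h3 := (H911.Ad.sd_psl3 p hC h.sd e (by rw [Fintype.card_fin]; norm_num)).2.2.1
      rw [Fintype.card_fin] at h3
      omega
    · have h3 := (H911.Ad.sd_psl4 p hC h.sd e (by rw [Fintype.card_fin]; norm_num)).2.1
      rw [Fintype.card_fin] at h3
      omega
    · have h3 := (H887.DS.ten5 p hC e (Fintype.card_fin 10)).2 0
      apply h3
      intro g hg
      rw [pow_zero, pow_one]
      exact (h.sd g hg).symm

/-- `PSp_4(K)` -/
theorem row_psp4 (h : Cx p Q H P) (K : Type) [Field K] [Fintype K] [CharP K p] (h3 : 3 ≤ Fintype.card K)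
    (he : Nonempty (Soc P ≃* PSp 2 K)) :
    Nonempty (Soc P ≃* PSp 2 F) ∧ (IsPlusTypeOn Q ⊤ → Fintype.card F % 4 = 1) ∧
        (¬ IsPlusTypeOn Q ⊤ → Fintype.card F % 4 = 3) := by
  have hpf := Fact.mk h.prime
  have hch := h.char
  obtain ⟨e⟩ := he
  obtain ⟨h1, -, -, h2⟩ := H905.Sp4.core_psp4_ten p h.core (by rw [Nat.card_eq_fintype_card]; exact h3) e
    (Fintype.card_fin 10) h.hQ h.fixes
  refine ⟨h1, fun h4 => ?_, fun h4 => ?_⟩
  · rcases h2 with h2 | h2
    · exact h2.2
    · exact absurd h4 h2.1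
  · rcases h2 with h2 | h2
    · exact absurd h2.1 h4
    · exact h2.2

/-- `PSp_{2m}(K)`, `m ≥ 3` -/
theorem row_psp (h : Cx p Q H P) (K : Type) [Field K] [Fintype K] [CharP K p] (m : ℕ) (hm : 3 ≤ m) (hm' : m ≤ 5)
    (he : Nonempty (Soc P ≃* PSp m K)) : False := by
  have hpf := Fact.mk h.prime
  have hch := h.char
  have hC := h.core
  obtain ⟨e⟩ := he
  rcases (show m = 3 ∨ 4 ≤ m by omega) with rfl | h4
  · exact H924.D5.psp6_big p hC (by rw [Fintype.card_fin]; norm_num) (by rw [Fintype.card_fin]; norm_num) e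
  · obtain ⟨-, h1⟩ := psp (p := p) hC (by rw [Fintype.card_fin]; norm_num) h4 (by omega) e
    exact h1.sp_not_fixQ (by omega) h.fixQ

/-- `PSU_N(K)` -/
theorem row_psu (h : Cx p Q H P) (K : Type) [Field K] [Fintype K] [CharP K p] (N q : ℕ)
    (hK : Fintype.card K = q ^ 2) (hN : 3 ≤ N) (h32 : ¬ (N = 3 ∧ q = 2)) (he : Nonempty (Soc P ≃* PSU N K q)) :
    False := by
  have hpf := Fact.mk h.prime
  have hch := h.char
  have hC := h.core
  obtain ⟨e⟩ := he
  rcases (show N = 3 ∨ 4 ≤ N by omega) with rfl | h4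
  · have hq : 3 ≤ q := by
      have h1 : 1 < Fintype.card K := Fintype.one_lt_card
      rw [hK] at h1
      have h2 : q ≠ 0 := by rintro rfl; norm_num at h1
      have h3 : q ≠ 1 := by rintro rfl; norm_num at h1
      have h5 : q ≠ 2 := fun h => h32 ⟨rfl, h⟩
      omega
    have h1 := H929.U3.core_psu3_sd p hC hq hK e (by rw [Fintype.card_fin]; norm_num) h.sd
    rw [Fintype.card_fin] at h1
    omega
  · have h1 := (H911.UF.sd_psu p K h4 (by rw [Fintype.card_fin]; norm_num) hK hC h.sd e).2.1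
    rw [Fintype.card_fin] at h1
    omega

/-- Suzuki groups -/
theorem row_sz (h : Cx p Q H P) (h2 : p = 2) (he : Lie.IsoSuzuki (Soc P)) : False := by
  subst h2
  have hch := h.char
  obtain ⟨K, i1, i2, m, hm, hK, ⟨e⟩⟩ := he
  exact H861.SzN.sz_false h.core hm hK e (by rw [Fintype.card_fin]; norm_num) (by rw [Fintype.card_fin]; norm_num)

/-- Ree groups -/
theorem row_ree (h : Cx p Q H P) (h3 : p = 3) (he : Lie.IsoRee (Soc P)) : False := by
  subst h3
  have hch := h.char
  obtain ⟨K, i1, i2, m, hm, hK, ⟨e⟩⟩ := he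
  have h1 := H708.ReeSix.ree_eq_seven h.core hm hK e (by rw [Fintype.card_fin]; norm_num)
  rw [Fintype.card_fin] at h1
  omega

/-- orthogonal groups in odd dimension -/
theorem row_oo (h : Cx p Q H P) (K : Type) [Field K] [Fintype K] [CharP K p] (m : ℕ) (hm : 3 ≤ m) (hm' : m ≤ 5)
    (hodd : Odd (Fintype.card K)) (he : Nonempty (Soc P ≃* POmega K (quadFormOdd m K))) : False := by
  have hpf := Fact.mk h.prime
  have hch := h.char
  have hC := h.core
  obtain ⟨e⟩ := he
  have h2 := two_ne_of_odd hodd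
  rcases (show m = 3 ∨ 4 ≤ m by omega) with rfl | h4
  · exact H924.D5.po7_big p hC (by rw [Fintype.card_fin]; norm_num) (by rw [Fintype.card_fin]; norm_num) h2 e
  · obtain ⟨-, h1⟩ := po_odd (p := p) hC (by rw [Fintype.card_fin]; norm_num) h4 (by omega) h2 e
    have h5 := h1.card_eq
    rw [Fintype.card_sum, Fintype.card_sum, Fintype.card_fin, Fintype.card_fin, Fintype.card_unit] at h5
    omega

/-- orthogonal groups of plus type -/
theorem row_op (h : Cx p Q H P) (K : Type) [Field K] [Fintype K] [CharP K p] (m : ℕ) (hm : 4 ≤ m) (hm' : m ≤ 5)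
    (he : Nonempty (Soc P ≃* POmega K (quadFormPlus m K))) : False := by
  have hpf := Fact.mk h.prime
  have hch := h.char
  have hC := h.core
  obtain ⟨e⟩ := he
  rcases (show m = 4 ∨ 5 ≤ m by omega) with rfl | h4
  · have h5 := H924.D5.po8plus_card p hC (by rw [Fintype.card_fin]; norm_num) e
    rw [Fintype.card_fin] at h5
    omega
  · obtain ⟨-, h1⟩ := po_plus (p := p) hC (by rw [Fintype.card_fin]; norm_num) h4 (by omega) e
    refine h1.not_maximal_omega h.hc ?_ h.hQ h.hH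
    rw [← LieClassical.OrthForms.coe_plusForm]
    exact H925.isND_of_nondeg (LieClassical.OrthForms.nondeg_plusForm m F)

/-- orthogonal groups of minus type -/
theorem row_om (h : Cx p Q H P) (K : Type) [Field K] [Fintype K] [CharP K p] (m : ℕ) (a b : K) (hm : 3 ≤ m)
    (hm' : m ≤ 5) (hab : ∀ z₁ z₂ : K, z₁ ^ 2 + a * z₁ * z₂ + b * z₂ ^ 2 = 0 → z₁ = 0 ∧ z₂ = 0)
    (he : Nonempty (Soc P ≃* POmega K (quadFormMinus m K a b))) : False := by
  have hpf := Fact.mk h.prime
  have hch := h.char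
  have hC := h.core
  obtain ⟨e⟩ := he
  rcases (show m = 3 ∨ 4 ≤ m by omega) with rfl | h4
  · have h5 := H924.D5.po8minus_card p hC (by rw [Fintype.card_fin]; norm_num) hab e
    rw [Fintype.card_fin] at h5
    omega
  · obtain ⟨τ, h1⟩ := po_minus (p := p) hC (by rw [Fintype.card_fin]; norm_num) h4 (by omega) hab e
    refine h1.not_maximal_omega h.hc ?_ h.hQ h.hH
    rw [← LieClassical.OrthForms.coe_minusForm]
    refine H925.isND_of_nondeg (LieClassical.OrthForms.nondeg_minusForm m F (τ a) (τ b) fun z₁ z₂ hz => ?_)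
    have h6 := hab (τ.symm z₁) (τ.symm z₂) (τ.injective (by
      simp only [map_add, map_mul, map_pow, RingEquiv.apply_symm_apply, map_zero]
      exact hz))
    exact ⟨by simpa using congrArg τ h6.1, by simpa using congrArg τ h6.2⟩

/-- `G₂(K)` -/
theorem row_g2 (h : Cx p Q H P) (K : Type) [Field K] [Fintype K] [CharP K p] (h3 : 3 ≤ Fintype.card K)
    (he : Nonempty (Soc P ≃* Lie.chevG2.group K)) : False := by
  have hpf := Fact.mk h.prime
  have hch := h.char
  obtain ⟨e⟩ := he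
  have h1 := (H927.G2.core_g2 p h.core (by rw [Nat.card_eq_fintype_card]; exact h3) e
    (by rw [Fintype.card_fin]; norm_num)).2.2.2.2
  rw [Fintype.card_fin] at h1
  rcases h1 with h1 | h1
  · omega
  · omega

/-- `³D₄(q)` -/
theorem row_d4 (h : Cx p Q H P) (K : Type) [Field K] [Fintype K] [CharP K p] (q : ℕ) (hq : IsPrimePow q)
    (hK : Fintype.card K = q ^ 3) (he : Nonempty (Soc P ≃* Lie.twistedD4 K q)) : False := by
  have hpf := Fact.mk h.prime
  have hch := h.char
  obtain ⟨e⟩ := he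
  have h1 := (H392.TD.d4_small p h.core hq hK e (by rw [Fintype.card_fin]; norm_num)).1
  rw [Fintype.card_fin] at h1
  omega

/-- `²F₄(q)` -/
theorem row_f4 (h : Cx p Q H P) (h2 : p = 2) (he : Lie.Iso2F4 (Soc P)) : False := by
  have hch := h.char
  have h4 := H927.LDTwF4.card_le_iso h2 h.core.perfect he
  rw [Fintype.card_fin] at h4
  omega

/-- **The own characteristic half of S5848 and S5851.** -/
theorem own_ten (h : Cx p Q H P) (hL : IsLieTypeChar p (Soc P)) : Concl Q P :=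
  own h hL (row_psl h) (row_psp4 h) (row_psp h) (row_psu h) (row_sz h) (row_ree h) (row_oo h) (row_op h) (row_om h)
    (row_g2 h) (row_d4 h) (row_f4 h)

end Cfsg.Agent.H932.O10
end

-- part: H830/O10/Twe
section
/-!
# `L₂(11) < A₁₂` in dimension 10, `|F| = 3` (helper830)

The twelve points: `i ≤ 10` is `i + 1 ∈ ZMod 11`, `11` is infinity.
-/

set_option autoImplicit false
set_option linter.unusedSectionVars false

namespace Cfsg.Agent.H830.O10.Twe

open Matrix Module Cfsg Cfsg.Geo Cfsg.Agent.H915.LD Cfsg.Agent.H464.Sl2 Cfsg.Agent.H910.Aut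
open Cfsg.Agent.H933.O10 (Cx fix_of_mem_omegaGL)
open Cfsg.Agent.ClassicalGeometry.AutPSL.Auto (cj)
open Cfsg.Agent.H830.O10

universe u

/-! ### The permutations -/

def xf (t : ZMod 11) (i : Fin 12) : Fin 12 := if i.val = 11 then i else Fin.ofNat 12 ((i.val + t.val) % 11)

def hf (a : ZMod 11) (i : Fin 12) : Fin 12 :=
  if i.val = 11 ∨ a = 0 then i else Fin.ofNat 12 ((a.val ^ 2 * (i.val + 1) + 10) % 11)

def wf (i : Fin 12) : Fin 12 := (#[9, 4, 6, 7, 1, 8, 2, 3, 5, 0, 11, 10] : Array (Fin 12)).getD i.val 0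

def xp (t : ZMod 11) : Equiv.Perm (Fin 12) :=
  ⟨xf t, xf (-t), by revert t; unfold Function.LeftInverse; decide +kernel,
    by revert t; unfold Function.RightInverse Function.LeftInverse; decide +kernel⟩

def hp (a : ZMod 11) : Equiv.Perm (Fin 12) :=
  ⟨hf a, hf a⁻¹, by revert a; unfold Function.LeftInverse; decide +kernel,
    by revert a; unfold Function.RightInverse Function.LeftInverse; decide +kernel⟩

def wp : Equiv.Perm (Fin 12) :=
  ⟨wf, wf, by unfold Function.LeftInverse; decide +kernel, by unfold Function.RightInverse Function.LeftInverse; decide +kernel⟩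

theorem relp : Lib.SL2Lift.Rel xp hp wp where
  add := by decide +kernel
  mul := by decide +kernel
  conj := by decide +kernel
  wh := by decide +kernel
  ww := by decide +kernel
  wx := by decide +kernel

/-- `z ↦ -z` -/
def df (i : Fin 12) : Fin 12 := if i.val = 11 then i else Fin.ofNat 12 ((20 - i.val) % 11)

def dp : Equiv.Perm (Fin 12) :=
  ⟨df, df, by unfold Function.LeftInverse; decide +kernel, by unfold Function.RightInverse Function.LeftInverse; decide +kernel⟩

theorem dp_u : ∀ x : ZMod 11, dp * xp x = xp (-x) * dp := by decide +kernel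

theorem dp_h : ∀ a : ZMod 11, dp * hp a = hp a * dp := by decide +kernel

theorem dp_w : dp * wp = wp * dp := by decide +kernel

/-- `SL₂(11)` on twelve points -/
noncomputable def phi : SpecialLinearGroup (Fin 2) (ZMod 11) →* Equiv.Perm (Fin 12) := Lib.SL2Lift.hom relp

theorem phi_u (x : ZMod 11) : phi (u x) = xp x := Lib.SL2Lift.hom_X relp x

theorem phi_t (a : (ZMod 11)ˣ) : phi (t a) = hp a := by
  rw [t_eq]
  exact Lib.SL2Lift.hom_H relp _ _

theorem phi_w : phi (w 1) = wp := by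
  rw [w_one_eq, map_mul, phi_t]
  have h : phi Lib.SL2Lift.W = wp := Lib.SL2Lift.hom_W relp
  rw [h]
  decide +kernel

theorem phi_neg : phi (t (-1)) = 1 := by
  rw [phi_t]
  decide +kernel

theorem two_trans : ∀ i j : Fin 12, i ≠ j → (∃ x : ZMod 11, xp x 11 = i ∧ xp x 10 = j) ∨
    ∃ x y : ZMod 11, (xp x * wp * xp y : Equiv.Perm (Fin 12)) 11 = i ∧ (xp x * wp * xp y : Equiv.Perm (Fin 12)) 10 = j := by
  decide +kernel

theorem exists_two {i j : Fin 12} (hij : i ≠ j) : ∃ g, phi g 11 = i ∧ phi g 10 = j := by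
  rcases two_trans i j hij with ⟨x, h1, h2⟩ | ⟨x, y, h1, h2⟩
  · exact ⟨u x, by rw [phi_u]; exact h1, by rw [phi_u]; exact h2⟩
  · exact ⟨u x * w 1 * u y, by rw [map_mul, map_mul, phi_u, phi_u, phi_w]; exact h1,
      by rw [map_mul, map_mul, phi_u, phi_u, phi_w]; exact h2⟩

/-! ### The twelve vectors -/

/-- coordinates of the twelve vectors -/
def cz (i : Fin 12) (k : Fin 10) : ℤ := (if i.val = k.val then 1 else 0) - (if i.val = 10 then 1 else 0)

def mz (σ : Equiv.Perm (Fin 12)) : Matrix (Fin 10) (Fin 10) ℤ := fun k j =>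
  cz (σ (Fin.castLE (by norm_num) j)) k - cz (σ 11) k

theorem trz_u : ∀ x : ZMod 11, x ≠ 0 → (mz (xp x)).trace = -1 := by decide +kernel

theorem trz_Zt : ∀ τ : ZMod 11, τ ^ 2 - 4 ≠ 0 → 3 ∣ (mz (xp τ * wp)).trace - fz (-1) τ := by decide +kernel

section model

variable (F : Type u) [Field F]

/-- the twelve vectors -/
def vs (i : Fin 12) : Fin 10 → F := fun k => ((cz i k : ℤ) : F)

def mf (σ : Equiv.Perm (Fin 12)) : Matrix (Fin 10) (Fin 10) F := (mz σ).map (Int.castRingHom F)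

/-- the ten basis vectors -/
def jj (j : Fin 10) : Fin 12 := Fin.castLE (by norm_num) j

theorem vs_jj (j : Fin 10) : vs F (jj j) = Pi.single j 1 := by
  funext k
  rw [vs, cz, Pi.single_apply]
  have h1 : (jj j).val = j.val := rfl
  have h2 : j.val ≠ 10 := by have := j.2; omega
  rw [h1, if_neg h2, sub_zero]
  by_cases h : k = j
  · rw [if_pos h, if_pos (by rw [h]), Int.cast_one]
  · rw [if_neg h, if_neg (fun e => h (Fin.ext e.symm)), Int.cast_zero]

theorem vs_eleven : vs F 11 = 0 := by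
  funext k
  rw [vs, cz, if_neg (by have := k.2; intro h; change 11 = k.val at h; omega), if_neg (by decide)]
  simp

theorem sum_fin12 {M : Type*} [AddCommMonoid M] (f : Fin 12 → M) : ∑ i, f i = (∑ j : Fin 10, f (jj j)) + f 10 + f 11 := by
  rw [Fin.sum_univ_castSucc, Fin.sum_univ_castSucc]
  rfl

theorem vs_sum : ∑ i, vs F i = 0 := by
  rw [sum_fin12, vs_eleven, add_zero]
  funext k
  rw [Pi.add_apply, Finset.sum_apply, Pi.zero_apply]
  simp only [vs_jj, Pi.single_apply]
  rw [Finset.sum_ite_eq, if_pos (Finset.mem_univ _), vs, cz,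
    if_neg (by have := k.2; intro h; change 10 = k.val at h; omega), if_pos (by decide)]
  simp

theorem mf_col (σ : Equiv.Perm (Fin 12)) (j : Fin 10) : mf F σ *ᵥ vs F (jj j) = vs F (σ (jj j)) - vs F (σ 11) := by
  rw [vs_jj, Matrix.mulVec_single_one]
  funext k
  rw [Matrix.col_apply, mf, Matrix.map_apply, mz, Pi.sub_apply, vs, vs]
  simp [jj]

variable {F} (h12 : (12 : F) = 0)

include h12 in
theorem mf_mulVec (σ : Equiv.Perm (Fin 12)) (i : Fin 12) : mf F σ *ᵥ vs F i = vs F (σ i) - vs F (σ 11) := by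
  have hcases : (∃ j, i = jj j) ∨ i = 10 ∨ i = 11 := by
    revert i
    decide
  rcases hcases with ⟨j, rfl⟩ | rfl | rfl
  · exact mf_col F σ j
  · have h1 : vs F 10 = -∑ j : Fin 10, vs F (jj j) := by
      rw [eq_neg_iff_add_eq_zero, add_comm]
      have := vs_sum F
      rwa [sum_fin12, vs_eleven, add_zero] at this
    have h : ∑ i, vs F (σ i) = 0 := by
      rw [Equiv.sum_comp σ (vs F), vs_sum]
    rw [sum_fin12] at h
    rw [h1, Matrix.mulVec_neg, Matrix.mulVec_sum, Finset.sum_congr rfl fun j _ => mf_col F σ j, Finset.sum_sub_distrib,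
      Finset.sum_const, Finset.card_univ, Fintype.card_fin, ← Nat.cast_smul_eq_nsmul F]
    have h2 : ((10 : ℕ) : F) • vs F (σ 11) = (-2 : F) • vs F (σ 11) := by
      congr 1
      push_cast
      linear_combination h12
    rw [h2]
    have h3 : ∑ j : Fin 10, vs F (σ (jj j)) = -(vs F (σ 10) + vs F (σ 11)) := by
      rw [eq_neg_iff_add_eq_zero, ← add_assoc, h]
    rw [h3]
    module
  · rw [vs_eleven, Matrix.mulVec_zero, sub_self]

theorem ext_vs {A B : Matrix (Fin 10) (Fin 10) F} (h : ∀ i, A *ᵥ vs F i = B *ᵥ vs F i) : A = B := by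
  ext k j
  have h1 := congrFun (h (jj j)) k
  rwa [vs_jj, Matrix.mulVec_single_one, Matrix.mulVec_single_one] at h1

/-- permutations as matrices -/
def mh : Equiv.Perm (Fin 12) →* Matrix (Fin 10) (Fin 10) F where
  toFun := mf F
  map_one' := by
    apply ext_vs
    intro i
    rw [mf_mulVec h12, Matrix.one_mulVec]
    change vs F i - vs F 11 = _
    rw [vs_eleven, sub_zero]
  map_mul' σ τ := by
    apply ext_vs
    intro i
    rw [mf_mulVec h12, ← Matrix.mulVec_mulVec, mf_mulVec h12, Matrix.mulVec_sub, mf_mulVec h12, mf_mulVec h12]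
    change vs F (σ (τ i)) - vs F (σ (τ 11)) = _
    abel

def mg : Equiv.Perm (Fin 12) →* GL (Fin 10) F := (mh h12).toHomUnits

theorem mg_coe (σ : Equiv.Perm (Fin 12)) : (mg h12 σ : Matrix (Fin 10) (Fin 10) F) = mf F σ := rfl

/-- the differences -/
theorem mg_sub (σ : Equiv.Perm (Fin 12)) (i j : Fin 12) :
    (mg h12 σ : Matrix (Fin 10) (Fin 10) F) *ᵥ (vs F i - vs F j) = vs F (σ i) - vs F (σ j) := by
  rw [mg_coe, Matrix.mulVec_sub, mf_mulVec h12, mf_mulVec h12]
  abel

theorem tr_mg (σ : Equiv.Perm (Fin 12)) : tr (mg h12 σ) = (((mz σ).trace : ℤ) : F) := by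
  change (mf F σ).trace = _
  rw [mf, Matrix.trace, Matrix.trace, Int.cast_sum]
  rfl

/-- the model -/
noncomputable def rho : SpecialLinearGroup (Fin 2) (ZMod 11) →* GL (Fin 10) F := (mg h12).comp phi

theorem rho_neg : rho h12 (t (-1)) = 1 := by
  rw [rho, MonoidHom.comp_apply, phi_neg, map_one]

theorem rho_u (x : ZMod 11) (hx : x ≠ 0) : tr (rho h12 (u x)) = -1 := by
  rw [rho, MonoidHom.comp_apply, phi_u, tr_mg, trz_u x hx]
  norm_num

theorem rho_Zt (h3 : (3 : F) = 0) (τ : ZMod 11) (hτ : τ ^ 2 - 4 ≠ 0) :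
    tr (rho h12 (Zt τ)) = ((fz (-1) τ : ℤ) : F) := by
  rw [rho, MonoidHom.comp_apply, Zt, map_mul, phi_u, phi_w, tr_mg]
  obtain ⟨m, hm⟩ := trz_Zt τ hτ
  have h1 := congrArg (Int.cast : ℤ → F) hm
  push_cast at h1
  rw [h3, zero_mul] at h1
  exact sub_eq_zero.1 h1

theorem dp_twist (g : SpecialLinearGroup (Fin 2) (ZMod 11)) :
    mg h12 dp * rho h12 g * (mg h12 dp)⁻¹ = rho h12 (cj dd g) := by
  refine twist_of_gen (rho_neg h12) ?_ ?_ ?_ g
  · intro x
    rw [mul_inv_eq_iff_eq_mul, rho, MonoidHom.comp_apply, MonoidHom.comp_apply, phi_u, phi_u, ← map_mul, ← map_mul, dp_u]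
  · intro a
    rw [mul_inv_eq_iff_eq_mul, rho, MonoidHom.comp_apply, phi_t, ← map_mul, ← map_mul, dp_h]
  · rw [mul_inv_eq_iff_eq_mul, rho, MonoidHom.comp_apply, phi_w, ← map_mul, ← map_mul, dp_w]

/-- the reversal of the ten basis vectors -/
def rv : Equiv.Perm (Fin 10) := ⟨fun i => 9 - i, fun i => 9 - i, by unfold Function.LeftInverse; decide,
  by unfold Function.RightInverse Function.LeftInverse; decide⟩

theorem mz_dp (k j : Fin 10) : mz dp k j = if rv j = k then 1 else 0 := by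
  have h : ∀ x : Fin 10 × Fin 10, (mz dp x.1 x.2 : ℤ) = if rv x.2 = x.1 then 1 else 0 := by decide +kernel
  exact h (k, j)

theorem sign_rv : Equiv.Perm.sign rv = -1 := by decide +kernel

theorem det_dp : (mg h12 dp : Matrix (Fin 10) (Fin 10) F).det = -1 := by
  have h1 : (mg h12 dp : Matrix (Fin 10) (Fin 10) F) = (Equiv.Perm.permMatrix F rv)ᵀ := by
    rw [mg_coe, mf]
    ext k j
    rw [Matrix.map_apply, mz_dp, Matrix.transpose_apply, Equiv.Perm.permMatrix, PEquiv.toMatrix_apply]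
    by_cases h : rv j = k
    · rw [if_pos h, h.symm]
      simp
    · rw [if_neg h, if_neg (by simpa [eq_comm] using h)]
      simp
  rw [h1, Matrix.det_transpose, Matrix.det_permutation, sign_rv]
  simp

end model

/-! ### The kill -/

variable {F : Type u} [Field F] [Fintype F] {p : ℕ} {Q : (Fin 10 → F) → F} {H P : Subgroup (GL (Fin 10) F)}

/-- **`|F| = 3`.** -/
theorem kill_three (h : Cx p Q H P) (hF : Fintype.card F = 3)
    (e : Soc P ≃* ProjectiveSpecialLinearGroup (Fin 2) (ZMod 11)) : False := by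
  obtain rfl := char_of_card h Nat.prime_three hF
  have hch := h.char
  have h30 : (3 : F) = 0 := by exact_mod_cast CharP.cast_eq_zero F 3
  have h12 : (12 : F) = 0 := by linear_combination 4 * h30
  obtain ⟨ρ, hρ, hρe, hz, hu, s, -, hs, hZ⟩ := exists_rho h (by norm_num) e
  rw [hs rfl] at hZ
  obtain ⟨J, hJ⟩ := exists_J h.core hρ hz hu hZ (rho_neg h12) (rho_u h12) (rho_Zt h12 h30)
  have hmem : ∀ g, ρ g ∈ P := fun g => hρ ▸ ⟨g, rfl⟩
  have hP : ∀ g ∈ P, ∃ s, ρ s = g := fun g hg => by rwa [← hρ] at hg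
  let W : Fin 12 → Fin 12 → (Fin 10 → F) := fun i j =>
    ((J⁻¹ : GL (Fin 10) F) : Matrix (Fin 10) (Fin 10) F) *ᵥ (vs F i - vs F j)
  have hρW : ∀ s i j, (ρ s : Matrix (Fin 10) (Fin 10) F) *ᵥ W i j = W (phi s i) (phi s j) := by
    intro s i j
    have h1 : ρ s = J⁻¹ * rho h12 s * J := by
      rw [hJ]
      group
    change (ρ s : Matrix (Fin 10) (Fin 10) F) *ᵥ (((J⁻¹ : GL (Fin 10) F) : Matrix (Fin 10) (Fin 10) F) *ᵥ _) = _
    rw [h1, Matrix.mulVec_mulVec, ← Units.val_mul, mul_assoc, mul_inv_cancel, mul_one, Units.val_mul,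
      ← Matrix.mulVec_mulVec]
    exact congrArg _ (mg_sub h12 (phi s) i j)
  have hno : ∀ x ∈ H, ∃ (s : SpecialLinearGroup (Fin 2) (ZMod 11)) (a : F),
      (x : Matrix (Fin 10) (Fin 10) F) = a • (ρ s : Matrix (Fin 10) (Fin 10) F) := by
    intro x hx
    obtain ⟨g, a, hg | hg⟩ := nrm_cases h.core e ρ hρ hρe (twist_conj hJ (dp_twist h12)) (Nrm.of_core h.hc hx)
    · exact ⟨g, a, hg⟩
    · exfalso
      have ha := FiniteField.pow_card_sub_one_eq_one a (scalar_mul_ne hg)
      rw [hF] at ha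
      have h1 := det_omegaGL (h.hH.1.le hx)
      rw [hg, Matrix.det_smul, Fintype.card_fin, Units.val_mul, Matrix.det_mul, det_omegaGL (h.le_omega (hmem g)),
        Units.val_mul, Units.val_mul, Matrix.det_mul, Matrix.det_mul, det_dp, one_mul] at h1
      have h2 : ((J⁻¹ : GL (Fin 10) F) : Matrix (Fin 10) (Fin 10) F).det * (J : Matrix (Fin 10) (Fin 10) F).det = 1 := by
        rw [← Matrix.det_mul, ← Units.val_mul, inv_mul_cancel, Units.val_one, Matrix.det_one]
      have h3 : a ^ 10 = 1 := by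
        linear_combination (a ^ 8 + a ^ 6 + a ^ 4 + a ^ 2 + 1) * ha
      have h4 : (2 : F) = 0 := by
        linear_combination -h1 - a ^ 10 * h2 - h3
      exact one_ne_zero (show (1 : F) = 0 by linear_combination h30 - h4)
  refine no_alt (Or.inr rfl) ⟨e⟩ (h.twelve (Or.inr h30) (W := W) ?_ ?_ ?_ ?_ ?_)
  · intro i j k
    change _ *ᵥ _ + _ *ᵥ _ = _ *ᵥ _
    rw [← Matrix.mulVec_add]
    congr 1
    abel
  · refine ⟨0, 11, fun h0 => ?_⟩
    have h1 : vs F 0 - vs F 11 = 0 := by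
      apply mulVec_inj J⁻¹
      rw [Matrix.mulVec_zero]
      exact h0
    rw [vs_eleven, sub_zero] at h1
    have h2 : vs F 0 = Pi.single 0 1 := vs_jj F 0
    rw [h2] at h1
    have h3 := congrFun h1 0
    rw [Pi.single_eq_same] at h3
    exact one_ne_zero h3
  · intro g hg
    obtain ⟨s, rfl⟩ := hP g hg
    exact ⟨phi s, hρW s⟩
  · intro i j k l hij hkl
    obtain ⟨g, hg1, hg2⟩ := exists_two hij
    obtain ⟨g', hg1', hg2'⟩ := exists_two hkl
    refine ⟨ρ (g' * g⁻¹), hmem _, ?_⟩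
    have hi : (phi g)⁻¹ i = 11 := by rw [Equiv.Perm.inv_eq_iff_eq, hg1]
    have hj : (phi g)⁻¹ j = 10 := by rw [Equiv.Perm.inv_eq_iff_eq, hg2]
    rw [hρW, map_mul, map_inv, Equiv.Perm.mul_apply, Equiv.Perm.mul_apply, hi, hj, hg1', hg2']
  · intro x hx i j hij
    obtain ⟨s, a, ha⟩ := hno x hx
    have h1 := FiniteField.pow_card_sub_one_eq_one a (scalar_mul_ne ha)
    rw [hF] at h1
    have h2 : a = 1 ∨ a = -1 := by
      have h3 : (a - 1) * (a + 1) = 0 := by linear_combination h1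
      rcases mul_eq_zero.1 h3 with h4 | h4
      · exact Or.inl (sub_eq_zero.1 h4)
      · exact Or.inr (eq_neg_of_add_eq_zero_left h4)
    have h5 : (x : Matrix (Fin 10) (Fin 10) F) *ᵥ W i j = a • W (phi s i) (phi s j) := by
      rw [ha, Matrix.smul_mulVec, hρW]
    rcases h2 with rfl | rfl
    · exact ⟨phi s i, phi s j, fun h => hij ((phi s).injective h), by rw [h5, one_smul]⟩
    · refine ⟨phi s j, phi s i, fun h => hij ((phi s).injective h.symm), ?_⟩
      rw [h5, neg_smul, one_smul]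
      change -(_ *ᵥ _) = _ *ᵥ _
      rw [← Matrix.mulVec_neg, neg_sub]

end Cfsg.Agent.H830.O10.Twe
end

-- part: H830/O10/Main
section
/-!
# `L₂(11)` in dimension 10: not maximal for `|F| = 2, 3, 7` (helper830)
-/

set_option autoImplicit false
set_option linter.unusedSectionVars false

namespace Cfsg.Agent.H830.O10

open Matrix Cfsg Cfsg.Geo Cfsg.Agent.H915.LD Cfsg.Agent.H464.Sl2
open Cfsg.Agent.H933.O10 (Cx)

universe u

variable {F : Type u} [Field F] [Fintype F] {p : ℕ} {Q : (Fin 10 → F) → F} {H P : Subgroup (GL (Fin 10) F)}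

/-- `|F| = 7` -/
theorem kill_seven (h : Cx p Q H P) (hF : Fintype.card F = 7)
    (e : Soc P ≃* ProjectiveSpecialLinearGroup (Fin 2) (ZMod 11)) : False := by
  have hp := char_of_card h (by norm_num) hF
  obtain ⟨ρ, hρ, hρe, hz, hu, s, hs, -, hZ⟩ := exists_rho h (by omega) e
  rcases hs with rfl | rfl
  · exact kill_seven_one h hF e hρ hρe hz hu hZ
  · exact Sev.kill h hF e hρ hρe hz hu hZ

/-- **`L₂(11)`, dimension 10.** The hypothesis `rl` of `Cfsg.Agent.H933.O10.cross`. -/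
theorem l2_eleven (h : Cx p Q H P) (e : Nonempty (Soc P ≃* ProjectiveSpecialLinearGroup (Fin 2) (ZMod 11))) :
    Fintype.card F ≠ 2 ∧ Fintype.card F ≠ 3 ∧ Fintype.card F ≠ 7 := by
  obtain ⟨e⟩ := e
  exact ⟨fun hF => kill_two h hF e, fun hF => Twe.kill_three h hF e, fun hF => kill_seven h hF e⟩

end Cfsg.Agent.H830.O10
end

-- part: H933/O10/Final
section
/-!
# S5848 and S5851: the final assembly (helper933)

`final` : the two statements from the inputs of `Inputs` (rows not yet landed) and the classification.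
-/

set_option autoImplicit false
set_option linter.unusedSectionVars false

namespace Cfsg.Agent.H933.O10

open Cfsg Cfsg.Geo Matrix Cfsg.Agent.H915.LD Cfsg.Agent.H912.Bd Cfsg.Agent.H912.Five
open Cfsg.Agent.H936.List12 (AltC LieC MultC ExcC Cand MultD SporC SporP CandD)

universe u v

/-- the inputs -/
structure Inputs (F : Type u) [Field F] [Fintype F] : Prop where
  m22 : ∀ {p : ℕ} {Q : (Fin 10 → F) → F} {H P : Subgroup (GL (Fin 10) F)}, Cx p Q H P → p ≠ 2 →
    Spor.IsoM22 (Soc P) → p = 7 ∧ Fintype.card F = 7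

variable {F : Type u} [Field F] [Fintype F]

theorem row_m22 (I : Inputs F) {p : ℕ} {Q : (Fin 10 → F) → F} {H P : Subgroup (GL (Fin 10) F)} (h : Cx p Q H P)
    (hT : Spor.IsoM22 (Soc P)) : p = 7 ∧ Fintype.card F = 7 := by
  by_cases hp : p = 2
  · exfalso
    subst hp
    have := h.char
    obtain ⟨e⟩ := hT
    have h1 := H921.M22.two e h.core (by rw [Fintype.card_fin]; norm_num)
    rw [Fintype.card_fin] at h1
    rcases h1 with h1 | h1 | h1
    · exact absurd h1.1 (by norm_num)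
    · exact h1.2.2 h.sd
    · exact absurd h1.1 (by norm_num)
  · exact I.m22 h hp hT

theorem row_suz {p : ℕ} {Q : (Fin 10 → F) → F} {H P : Subgroup (GL (Fin 10) F)} (h : Cx p Q H P)
    (hT : Spor.IsoSuz (Soc P)) : False := by
  by_cases hp : p = 3
  · subst hp
    have := h.char
    obtain ⟨e⟩ := hT
    have h1 := (H878.Sz.core_Suz_three h.core e (by rw [Fintype.card_fin]; norm_num)).1
    rw [Fintype.card_fin] at h1
    omega
  · have := Fact.mk h.prime
    have := h.char
    obtain ⟨e⟩ := hT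
    have h1 := (H878.Sz.core_Suz h.core e (by rw [Fintype.card_fin]; norm_num) p hp).1
    rw [Fintype.card_fin] at h1
    omega

theorem row_g24 {p : ℕ} {Q : (Fin 10 → F) → F} {H P : Subgroup (GL (Fin 10) F)} (h : Cx p Q H P) (hp : p ≠ 2)
    (hT : H912.Bd.IsG2 4 (Soc P)) : False := by
  obtain ⟨K, i1, i2, hK, ⟨e⟩⟩ := hT
  have h1 := H937.G24.core_ge hK (h.two_ne hp) e
  rw [Fintype.card_fin] at h1
  omega

theorem final (I : Inputs F) (hk : ∀ (T : Type u) [Group T] [Finite T] [IsSimpleGroup T], IsKnownSimple' T)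
    {Q : (Fin 10 → F) → F} (hQ : IsNondegenerateQuadraticForm Q) {H : Subgroup (GL (Fin 10) F)}
    (hH : IsMaximalIn (omegaGL Q) H) (hS : InOrthogonalResidualClass H) :
    ∃ P : Subgroup (GL (Fin 10) F), IsResidualCore H P ∧ Concl Q P := by
  obtain ⟨P, hP, -⟩ := hS
  obtain ⟨p, hch⟩ := CharP.exists F
  have hp : p.Prime := CharP.char_is_prime F p
  have hpf := Fact.mk hp
  have h : Cx p Q H P := ⟨hp, hch, hQ, hH, hP⟩
  refine ⟨P, hP, ?_⟩
  by_cases hL : IsLieTypeChar p (Soc P)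
  · exact H932.O10.own_ten h hL
  · have := hP.simple
    exact cross1 h (H936.List12.list₂ (p := p) (by norm_num) h.core (hk (Soc P)) hL) hL (H926.MTh.m11_dead h)
      (H36.M12.o10_m12 h) (row_m22 I h) (JTwoTen.o10_j2 h) (row_suz h) (row_g24 h) (H830.O10.l2_eleven h)

end Cfsg.Agent.H933.O10
end

private theorem dce_c2a18126927e : _root_.True := by
  try have : _root_.True := by simp only [_root_.Cfsg.Agent.H830.O10.Twe.rho.eq_1]
  try have : _root_.True := by simp only [_root_.Cfsg.Agent.H830.O10.Twe.jj.eq_1]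
  try have : _root_.True := by simp only [_root_.Cfsg.Agent.H926.MEl.Y.eq_1]
  try have : _root_.True := by simp only [_root_.Cfsg.Agent.H830.O10.Twe.vs.eq_1]
  try have : _root_.True := by simp only [_root_.Cfsg.Agent.H830.O10.Twe.mz.eq_1]
  try have : _root_.True := by simp only [_root_.Cfsg.Agent.H926.MEl.Q.eq_1]
  try have : _root_.True := by simp only [_root_.Cfsg.Agent.H830.O10.Twe.cz.eq_1]
  try have : _root_.True := by simp only [_root_.Cfsg.Agent.H830.O10.Twe.mf.eq_1]
  try have : _root_.True := by simp only [_root_.Cfsg.Agent.H926.MEl.K.eq_1]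
  exact _root_.True.intro
end

-- part: H933/O10/Main
section
set_option linter.all false
open scoped Cfsg.Agent.FastGrp

-- part: H830/M22/Seven
section
/-!
# `M22` in degree ten, `p` odd: self-dual only for `p = 7` (helper830)
-/

set_option autoImplicit false
set_option linter.unusedSectionVars false
set_option linter.constructorNameAsVariable false

namespace Cfsg.Agent.H830.M22

open Cfsg Cfsg.Geo Cfsg.Agent.H915.LD Cfsg.Agent.H840.L34 Cfsg.Agent.Lib.FieldFour
open scoped MatrixGroups Matrix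

universe u v

section

variable {ι : Type} [Fintype ι] [DecidableEq ι] {F : Type u} [Field F] {N : Subgroup (GL ι F)}

/-- the cover when `-1 ∈ N` -/
def cvA (φ : N →* L) (hs : Function.Surjective φ) (hn : Fintype.card ι = 10)
    (hk : ∀ g, φ g = 1 ↔ g = 1 ∨ ((g : GL ι F) : Matrix ι ι F) = -1) (h2 : (2 : F) ≠ 0) {z : N}
    (hz : ((z : GL ι F) : Matrix ι ι F) = -1) : Cv N where
  π := φ
  z := z
  surj := hs
  zc g := by
    apply Subtype.ext; apply Units.ext
    change ((z : GL ι F) : Matrix ι ι F) * _ = _ * ((z : GL ι F) : Matrix ι ι F)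
    rw [hz, neg_mul, mul_neg, one_mul, mul_one]
  zz := by
    apply Subtype.ext; apply Units.ext
    change ((z : GL ι F) : Matrix ι ι F) * ((z : GL ι F) : Matrix ι ι F) = 1
    rw [hz, neg_mul, mul_neg, one_mul, neg_neg]
  z1 := by
    intro h
    rw [h] at hz
    have hne : Nonempty ι := by rw [← Fintype.card_pos_iff, hn]; norm_num
    obtain ⟨i⟩ := hne
    have h3 : (1 : Matrix ι ι F) i i = (-1 : Matrix ι ι F) i i := congrFun (congrFun hz i) i
    rw [Matrix.neg_apply, Matrix.one_apply_eq] at h3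
    apply h2
    linear_combination h3
  ker g := by
    rw [hk]
    constructor
    · rintro (h | h)
      · exact Or.inl h
      · right
        apply Subtype.ext; apply Units.ext
        rw [h, hz]
    · rintro (rfl | rfl)
      · exact Or.inl rfl
      · exact Or.inr hz

/-- the cover when `-1 ∉ N` -/
def cvB (φ : N →* L) (hs : Function.Surjective φ)
    (hk : ∀ g, φ g = 1 ↔ g = 1 ∨ ((g : GL ι F) : Matrix ι ι F) = -1)
    (hz : ∀ z : N, ((z : GL ι F) : Matrix ι ι F) ≠ -1) : Cv (N × ℤˣ) where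
  π := φ.comp (MonoidHom.fst N ℤˣ)
  z := (1, -1)
  surj l := by
    obtain ⟨p, hp⟩ := hs l
    exact ⟨(p, 1), hp⟩
  zc g := by
    apply Prod.ext
    · change 1 * g.1 = g.1 * 1
      rw [one_mul, mul_one]
    · exact mul_comm _ _
  zz := by
    apply Prod.ext
    · exact one_mul 1
    · rfl
  z1 := by
    intro h
    have h1 : (-1 : ℤˣ) = 1 := congrArg Prod.snd h
    exact absurd h1 (by decide)
  ker g := by
    rw [MonoidHom.comp_apply, MonoidHom.coe_fst, hk]
    constructor
    · rintro (h | h)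
      · rcases Int.units_eq_one_or g.2 with h1 | h1
        · exact Or.inl (Prod.ext h h1)
        · exact Or.inr (Prod.ext h h1)
      · exact absurd h (hz _)
    · rintro (rfl | rfl)
      · exact Or.inl rfl
      · exact Or.inl rfl

/-- covers of `PSL_3(4)` of degree ten contain `-1` -/
theorem neg_one_mem' (φ : N →* L) (hs : Function.Surjective φ) (hn : Fintype.card ι = 10)
    (hk : ∀ g, φ g = 1 ↔ g = 1 ∨ ((g : GL ι F) : Matrix ι ι F) = -1) (h2 : (2 : F) ≠ 0) :
    ∃ z : N, ((z : GL ι F) : Matrix ι ι F) = -1 := by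
  by_contra hcon
  push Not at hcon
  obtain ⟨α, c, h1⟩ := exists_good (cvB φ hs hk hcon)
  have R : RH ((cvB φ hs hk hcon).comp α) (rp2 N) := {
    z := by
      apply LinearMap.ext
      intro v
      change (((-1 : ℤˣ) : ℤ) : F) • (rp N 1) v = -v
      rw [map_one, Units.val_neg, Units.val_one, Int.cast_neg, Int.cast_one, neg_one_smul]
      rfl
    two := h2
    dim := by rw [Module.finrank_fintype_fun_eq_card, hn]
    faith := by
      rintro ⟨p, ε⟩ hg
      have h3 : ∀ v, ((ε : ℤ) : F) • (((p : GL ι F) : Matrix ι ι F) *ᵥ v) = v := fun v => LinearMap.congr_fun hg v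
      rcases Int.units_eq_one_or ε with h4 | h4
      · subst h4
        have h5 : p = 1 := by
          apply Subtype.ext; apply ext_vec
          intro v
          have := h3 v
          rw [Units.val_one, Int.cast_one, one_smul] at this
          rw [this, Subgroup.coe_one, Units.val_one, Matrix.one_mulVec]
        rw [h5]; rfl
      · subst h4
        exfalso
        apply hcon p
        apply Matrix.ext_of_mulVec_single
        intro i
        have := h3 (Pi.single i 1)
        rw [Units.val_neg, Units.val_one, Int.cast_neg, Int.cast_one, neg_one_smul] at this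
        rw [Matrix.neg_mulVec, Matrix.one_mulVec, ← neg_eq_iff_eq_neg, this] }
  have h3 := R.not_triv c h1
  have h4 := e_one c (MonoidHom.snd N ℤˣ) F4.w
  rw [h3] at h4
  revert h4
  change ¬ ((-1 : ℤˣ) = 1)
  decide

/-- **a linear group of degree ten over `PSL_3(4)` with scalars `±1` and self-dual traces has characteristic seven** -/
theorem seven_of (φ : N →* L) (hs : Function.Surjective φ) (hn : Fintype.card ι = 10)
    (hk : ∀ g, φ g = 1 ↔ g = 1 ∨ ((g : GL ι F) : Matrix ι ι F) = -1) (h2 : (2 : F) ≠ 0)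
    (hsd : ∀ g ∈ N, tr g⁻¹ = tr g) : (7 : F) = 0 := by
  by_contra h7
  obtain ⟨z, hz⟩ := neg_one_mem' φ hs hn hk h2
  obtain ⟨α, c, h1⟩ := exists_good (cvA φ hs hn hk h2 hz)
  have hzC : ((((cvA φ hs hn hk h2 hz).comp α).z : GL ι F) : Matrix ι ι F) = -1 := hz
  have D : Dt ((cvA φ hs hn hk h2 hz).comp α) c (rp N) := ⟨rh _ hzC h2 hn, h1⟩
  obtain ⟨γ, hγ⟩ := c.exists_conj wa_g
  obtain ⟨δ, hδ⟩ := c.exists_conj wb_g
  have ha : RH.IsA (rp N) ((cvA φ hs hn hk h2 hz).comp α) (γ * c.X23 1 * γ⁻¹) :=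
    ⟨hγ, by rw [RH.trace_conj]; exact D.R.trace_23 c h1 one_ne_zero⟩
  have hb : RH.IsB (rp N) ((cvA φ hs hn hk h2 hz).comp α) (δ * c.X23 1 * δ⁻¹) :=
    ⟨hδ, by rw [RH.trace_conj]; exact D.R.trace_23 c h1 one_ne_zero⟩
  generalize γ * c.X23 1 * γ⁻¹ = a at ha
  generalize δ * c.X23 1 * δ⁻¹ = b at hb
  generalize hCC : (cvA φ hs hn hk h2 hz).comp α = CC at *
  obtain ⟨v0, hv, h0⟩ : ∃ v, v ∈ W (RH.Ta (rp N) c) (0, 0) ∧ v ≠ 0 := by
    obtain ⟨u, hu, h0⟩ := D.R.exists_u c h1
    exact ⟨_, hu ⟨(0, 0), by decide⟩, h0 _⟩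
  apply D.trace_ne ha hb hv h0 h7
  rw [tr_rp, tr_rp]
  have e1 : tr ((b * a * c.X12 1 : N) : GL ι F) = tr ((b * a * c.X23 1 : N) : GL ι F) := by
    have h3 : c.X12 1 = (b * a) * c.X23 1 * (b * a)⁻¹ := by
      have h4 := c.conj_a_23 ha.π 1
      have h5 := c.conj_b_13 hb.π 1
      rw [← h5, ← h4]; group
    have h6 : (b * a * c.X12 1 : N) = (b * a) * (b * a * c.X23 1) * (b * a)⁻¹ := by rw [h3]; group
    rw [h6]
    exact tr_conj _ _
  have e2 : tr ((b * a * c.X23 1 : N) : GL ι F) = tr ((c.X23 1 * (b * a) : N) : GL ι F) :=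
    tr_mul_comm ((b * a : N) : GL ι F) ((c.X23 1 : N) : GL ι F)
  have e3 : (c.X23 1 * (b * a) : N) = (a * b * c.X23 1)⁻¹ := by
    rw [mul_inv_rev, mul_inv_rev, c.f23.inv, inv_eq_of_mul_eq_one_right (Conf.sq_a ha.π),
      inv_eq_of_mul_eq_one_right (Conf.sq_b hb.π)]
  rw [e1, e2, e3]
  exact (hsd _ (a * b * c.X23 1).2).symm

end

section main

open Cfsg.Agent.H13.M22 Cfsg.Agent.H906.T14 Cfsg.Agent.SporadicA.GolayBase

variable {ι : Type} [Fintype ι] [DecidableEq ι] {F : Type u} [Field F] {P : Subgroup (GL ι F)}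

/-- **`M22` in degree ten, `p` odd: self-dual only for `p = 7`** -/
theorem seven_of_sd [Finite F] (hC : Core P) (e : Soc P ≃* Spor.M22) (hn : Fintype.card ι = 10) (h2 : (2 : F) ≠ 0)
    (hsd : SD P) : (7 : F) = 0 := by
  classical
  have hz2 := sq_ker hC e hn
  have iK : Fintype (GaloisField 2 2) := Fintype.ofFinite _
  have hK : Fintype.card (GaloisField 2 2) = 4 := by
    rw [← Nat.card_eq_fintype_card, GaloisField.card 2 2 (by norm_num)]
    norm_num
  obtain ⟨a1, a2, -⟩ := pt1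
  obtain ⟨f⟩ := st_iso a1 a2 (GaloisField 2 2) hK
  have hne := hC.nonempty
  refine seven_of (N := subG e (st (pt 1))) (phi hK (subIso e (st (pt 1)) f)) (phi_surj hK _) hn ?_ h2
    (fun g hg => hsd g (subG_le e _ hg))
  intro g
  rw [phi_ker]
  constructor
  · intro hg
    have h1 : (g : GL ι F) ∈ scalars ι F := by
      rw [ker_comp, Subgroup.mem_subgroupOf] at hg
      exact hg
    have h3 : (⟨g.1, subG_le e _ g.2⟩ : P) ∈ (phT e).ker := by
      rw [phT_ker e, Subgroup.mem_subgroupOf]; exact h1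
    have h4 := hz2 _ h3
    obtain ⟨c, hc⟩ := (mem_scalars_iff _).1 h1
    have h5 : (((⟨g.1, subG_le e _ g.2⟩ ^ 2 : P) : GL ι F) : Matrix ι ι F) = ((c : F) ^ 2) • 1 := by
      rw [Subgroup.coe_pow, Units.val_pow_eq_pow_val]
      change ((g : GL ι F) : Matrix ι ι F) ^ 2 = _
      rw [hc, smul_pow, one_pow]
    rw [h4] at h5
    have h6 : ((c : F) ^ 2 : F) = 1 := by
      apply smul_ext (ι := ι)
      rw [← h5, one_smul]
      rfl
    have h7 : ((c : F) - 1) * (c + 1) = 0 := by linear_combination h6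
    rcases mul_eq_zero.1 h7 with h8 | h8
    · left
      apply Subtype.ext
      apply Units.ext
      rw [hc, sub_eq_zero.1 h8, one_smul]
      rfl
    · right
      rw [hc, eq_neg_of_add_eq_zero_left h8, neg_one_smul]
  · intro hg
    rw [ker_comp, Subgroup.mem_subgroupOf, mem_scalars_iff]
    rcases hg with rfl | hg
    · exact ⟨1, by rw [Units.val_one, one_smul]; rfl⟩
    · exact ⟨-1, by rw [hg, Units.val_neg, Units.val_one, neg_one_smul]⟩

/-- **the row `M22` of `S5848` and `S5851`, `p` odd** -/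
theorem m22_odd [Fintype F] {p : ℕ} {Q : (Fin 10 → F) → F} {H P : Subgroup (GL (Fin 10) F)} (h : H933.O10.Cx p Q H P)
    (hp : p ≠ 2) (hT : Spor.IsoM22 (Soc P)) : p = 7 ∧ Fintype.card F = 7 := by
  have hf := Fact.mk h.prime
  have hc := h.char
  obtain ⟨e⟩ := hT
  have h2 : (2 : F) ≠ 0 := by
    intro h0
    have h1 : p ∣ 2 := (CharP.cast_eq_zero_iff F p 2).1 (by exact_mod_cast h0)
    exact hp ((Nat.prime_dvd_prime_iff_eq h.prime Nat.prime_two).1 h1)
  have h7 := seven_of_sd h.core e (Fintype.card_fin 10) h2 h.sd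
  have h8 : p = 7 := by
    have h1 : p ∣ 7 := (CharP.cast_eq_zero_iff F p 7).1 (by exact_mod_cast h7)
    exact (Nat.prime_dvd_prime_iff_eq h.prime (by norm_num)).1 h1
  subst h8
  exact ⟨rfl, h.core.card_eq 7 ((ten 7 h.core (by norm_num) (Fintype.card_fin 10) e).2.2 rfl).2⟩

end main

end Cfsg.Agent.H830.M22
end

-- part: H933/O10/Main
section
/-!
# S5848 and S5851: no inputs (helper933)
-/

set_option autoImplicit false
set_option linter.unusedSectionVars false

namespace Cfsg.Agent.H933.O10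

open Cfsg Cfsg.Geo Matrix Cfsg.Agent.H915.LD

universe u

variable {F : Type u} [Field F] [Fintype F]

theorem main (hk : ∀ (T : Type u) [Group T] [Finite T] [IsSimpleGroup T], IsKnownSimple' T)
    {Q : (Fin 10 → F) → F} (hQ : IsNondegenerateQuadraticForm Q) {H : Subgroup (GL (Fin 10) F)}
    (hH : IsMaximalIn (omegaGL Q) H) (hS : InOrthogonalResidualClass H) :
    ∃ P : Subgroup (GL (Fin 10) F), IsResidualCore H P ∧ Concl Q P :=
  final ⟨fun h hp hT => H830.M22.m22_odd h hp hT⟩ hk hQ hH hS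

end Cfsg.Agent.H933.O10
end
end
end
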